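import Mathlib
import Groth.Agent.DRingLib.PCohMore
import Groth.Agent.DRingLib.Devissage
import Groth.Agent.PQLib.Derived

/-!
# Pseudo-coherence and restriction of scalars along a pseudo-coherent algebra
-/

set_option autoImplicit false
set_option linter.style.haveILetI false

universe u

open CategoryTheory CategoryTheory.Limits HomologicalComplex

attribute [local instance] HasDerivedCategory.standard

namespace Groth.Agent.TwoTermLib.Restr

variable {A B : Type u} [CommRing A] [CommRing B] [Algebra A B]

/-- Restriction of scalars on derived categories. -/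
noncomputable abbrev G (A B : Type u) [CommRing A] [CommRing B] [Algebra A B] :
    Dual.D B ⥤ Dual.D A :=
  DRing.restrictD (algebraMap A B)

/-- Restriction of scalars. -/
noncomputable abbrev F (A B : Type u) [CommRing A] [CommRing B] [Algebra A B] :
    ModuleCat.{u} B ⥤ ModuleCat.{u} A :=
  ModuleCat.restrictScalars.{u} (algebraMap A B)

/-- Restriction commutes with cohomology. -/
noncomputable def HnIso (X : Dual.D B) (i : ℤ) :
    (DRingLib.Hn A i).obj ((G A B).obj X) ≅ (F A B).obj ((DRingLib.Hn B i).obj X) :=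
  let P := (DerivedCategory.Q (C := ModuleCat.{u} B)).objPreimage X
  let e : DerivedCategory.Q.obj P ≅ X := DerivedCategory.Q.objObjPreimageIso X
  PQLib.homologyIso (((F A B).mapDerivedCategoryFactors.app P).symm ≪≫ (G A B).mapIso e) i ≪≫
    (P.sc i).mapHomologyIso (F A B) ≪≫ (F A B).mapIso (PQLib.homologyIso e i).symm

theorem isZero_Hn_iff (X : Dual.D B) (i : ℤ) :
    IsZero ((DRingLib.Hn A i).obj ((G A B).obj X)) ↔ IsZero ((DRingLib.Hn B i).obj X) := by
  rw [(HnIso (A := A) X i).isZero_iff, ModuleCat.isZero_iff_subsingleton,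
    ModuleCat.isZero_iff_subsingleton]
  rfl

theorem finite_Hn (X : Dual.D B) (i : ℤ)
    (h : Module.Finite A ((DRingLib.Hn A i).obj ((G A B).obj X))) :
    Module.Finite B ((DRingLib.Hn B i).obj X) := by
  let M := (DRingLib.Hn B i).obj X
  letI : Module A M := Module.compHom M (algebraMap A B)
  haveI : IsScalarTower A B M := IsScalarTower.of_algebraMap_smul fun _ _ => rfl
  have h' : Module.Finite A ((F A B).obj M) :=
    @Module.Finite.equiv _ _ _ _ _ _ _ _ h (HnIso (A := A) X i).toLinearEquiv
  haveI : Module.Finite A M := h'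
  exact Module.Finite.of_restrictScalars_finite A B M

/-- Pseudo-coherence of restrictions of bounded complexes of finite free modules. -/
theorem isPseudoCoherent_G_bddFree (hB : DRing.IsPseudoCoherentModule' A B)
    {E : CochainComplex (ModuleCat.{u} B) ℤ} (hE : DRingLib.IsBddFree E) (m : ℤ) :
    DRing.IsPseudoCoherent A m ((G A B).obj (DerivedCategory.Q.obj E)) := by
  have hB' := DRingLib.isPseudoCoherent'_iff_forall.1 hB
  let V : Dual.D A → Prop := fun X => ∀ n, DRing.IsPseudoCoherent A n X
  have V_iso : ∀ {X Y : Dual.D A}, (X ≅ Y) → V X → V Y := fun e h n =>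
    DRingLib.isPseudoCoherent_of_iso e (h n)
  have V_zero : ∀ {X : Dual.D A}, IsZero X → V X := fun hX n =>
    DRingLib.isPseudoCoherent_of_isZero fun i _ => (DRingLib.Hn A i).map_isZero hX
  have hfree : ∀ (k : ℕ) (j : ℤ),
      V ((DerivedCategory.singleFunctor (ModuleCat.{u} A) j).obj
        ((F A B).obj (ModuleCat.of B (Fin k → B)))) := by
    intro k j
    induction k with
    | zero =>
      exact V_zero ((DerivedCategory.singleFunctor (ModuleCat.{u} A) j).map_isZero
        ((F A B).map_isZero (ModuleCat.isZero_of_subsingleton _)))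
    | succ k ih =>
      have h1 : V ((DerivedCategory.singleFunctor (ModuleCat.{u} A) j).obj
          ((F A B).obj (ModuleCat.of B B))) := fun n =>
        DRingLib.isPseudoCoherent_singleFunctor _ (DRingLib.isPseudoCoherentModule_of_equiv
          ({ AddEquiv.refl B with map_smul' := fun r x => Algebra.smul_def r x } :
            B ≃ₗ[A] ((F A B).obj (ModuleCat.of B B))) (hB' (n - j)))
      let S := DerivedCategory.singleFunctor (ModuleCat.{u} A) j
      haveI : Limits.PreservesBinaryBiproducts (F A B) :=
        Limits.preservesBinaryBiproducts_of_preservesBiproducts _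
      haveI : Limits.PreservesBinaryBiproducts S :=
        Limits.preservesBinaryBiproducts_of_preservesBiproducts _
      refine V_iso (S.mapIso ((F A B).mapIso (ModuleCat.biprodIsoProd (ModuleCat.of B B)
        (ModuleCat.of B (Fin k → B)) ≪≫
        (Fin.consLinearEquiv B (fun _ : Fin (k + 1) => B)).toModuleIso))) ?_
      refine V_iso (S.mapIso ((F A B).mapBiprod (ModuleCat.of B B)
        (ModuleCat.of B (Fin k → B))) ≪≫ S.mapBiprod ((F A B).obj (ModuleCat.of B B))
          ((F A B).obj (ModuleCat.of B (Fin k → B)))).symm ?_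
      exact fun n => DRingLib.isPseudoCoherent_obj₂ _
        (Pretriangulated.binaryBiproductTriangle_distinguished _ _) n (h1 n) (ih n)
  have hD : DRingLib.Devissable (fun X : Dual.D B => V ((G A B).obj X)) :=
    { iso := fun e h => V_iso ((G A B).mapIso e) h
      zero := fun h => V_zero ((G A B).map_isZero h)
      ext := fun T hT h1 h3 n =>
        DRingLib.isPseudoCoherent_obj₂ _ ((G A B).map_distinguished T hT) n (h1 n) (h3 n) }
  obtain ⟨a, b, hv, hf⟩ := hE
  refine hD.of_terms a (b + 1 - a).toNat E (fun i hi => hv i (by omega)) (fun i => ?_) m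
  haveI := (hf i).1
  haveI := (hf i).2
  rcases subsingleton_or_nontrivial B with hs | hs
  · haveI : Subsingleton (E.X i) := Module.subsingleton B _
    exact V_zero ((G A B).map_isZero ((DerivedCategory.singleFunctor _ i).map_isZero
      (ModuleCat.isZero_of_subsingleton _)))
  exact V_iso ((DerivedCategory.singleFunctor (ModuleCat.{u} A) i).mapIso ((F A B).mapIso
      (Module.finBasis B (E.X i)).equivFun.symm.toModuleIso) ≪≫
    ((F A B).mapDerivedCategorySingleFunctor i).symm.app (E.X i)) (hfree _ i)

theorem isPseudoCoherent_G_iff (hB : DRing.IsPseudoCoherentModule' A B) (K : Dual.D B) (m : ℤ) :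
    DRing.IsPseudoCoherent B m K ↔ DRing.IsPseudoCoherent A m ((G A B).obj K) := by
  constructor
  · intro h
    obtain ⟨E, α, hE, hα⟩ := DRingLib.isPseudoCoherent_iff.1 h
    obtain ⟨C, p, q, hC⟩ := Pretriangulated.distinguished_cocone_triangle α
    exact DRingLib.isPseudoCoherent_obj₂ _ ((G A B).map_distinguished _ hC) m
      (isPseudoCoherent_G_bddFree hB hE m)
      (DRingLib.isPseudoCoherent_of_isZero fun i hi => (isZero_Hn_iff _ i).2
        ((DRingLib.Approx.iff_cone m _ hC).1 hα i hi))
  · intro h
    obtain ⟨E₀, α₀, hE₀, hα₀⟩ := DRingLib.isPseudoCoherent_iff.1 h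
    obtain ⟨b₀, hb₀⟩ := hE₀.bddAbove
    have hKb : ∀ i, max b₀ m < i → IsZero ((DRingLib.Hn B i).obj K) := fun i hi => by
      have := hα₀.1 i (by omega)
      exact (isZero_Hn_iff (A := A) K i).1 ((DRingLib.isZero_Hn_Q E₀ i (hb₀ i (by omega))).of_iso
        (asIso ((DRingLib.Hn A i).map α₀)).symm)
    obtain ⟨b, hb, hbK⟩ : ∃ b, m ≤ b ∧ ∀ i, b < i → IsZero ((DRingLib.Hn B i).obj K) :=
      ⟨max b₀ m, le_max_right _ _, hKb⟩
    suffices ∀ j : ℕ, DRing.IsPseudoCoherent B (max (b + 1 - j) m) K by
      have := this (b + 1 - m).toNat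
      rwa [max_eq_right (by have := Int.self_le_toNat (b + 1 - m); omega)] at this
    intro j
    induction j with
    | zero => exact DRingLib.isPseudoCoherent_of_isZero fun i hi => hbK i (by omega)
    | succ j ih =>
      rcases le_or_gt (b + 1 - j) m with hj | hj
      · rwa [max_eq_right (by push_cast; omega), ← max_eq_right hj]
      obtain ⟨n, hn, hn', hmn⟩ : ∃ n, max (b + 1 - j) m = n + 1 ∧
          max (b + 1 - ((j + 1 : ℕ) : ℤ)) m = n ∧ m ≤ n :=
        ⟨b - j, by omega, by push_cast; omega, by omega⟩
      rw [hn] at ih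
      rw [hn']
      obtain ⟨E, α, hE, hα⟩ := DRingLib.isPseudoCoherent_iff.1 ih
      obtain ⟨C, p, q, hC⟩ := Pretriangulated.distinguished_cocone_triangle α
      have hCz : ∀ i, n < i → IsZero ((DRingLib.Hn B i).obj C) := fun i hi =>
        (DRingLib.Approx.iff_cone (n + 1) _ hC).1 hα i (by omega)
      have hpc := DRingLib.isPseudoCoherent_obj₃ _ ((G A B).map_distinguished _ hC) n
        (isPseudoCoherent_G_bddFree hB hE _) (DRingLib.isPseudoCoherent_mono hmn h)
      have hfin : Module.Finite B ((DRingLib.Hn B n).obj C) :=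
        finite_Hn C n (DRingLib.finite_of_isPseudoCoherent hpc fun i hi =>
          (isZero_Hn_iff C i).2 (hCz i hi))
      exact DRingLib.isPseudoCoherent_of_cone hE _ hC (Iso.refl _) hCz hfin

theorem isPseudoCoherent'_G_iff (hB : DRing.IsPseudoCoherentModule' A B) (K : Dual.D B) :
    DRing.IsPseudoCoherent' B K ↔ DRing.IsPseudoCoherent' A ((G A B).obj K) := by
  rw [DRingLib.isPseudoCoherent'_iff_forall, DRingLib.isPseudoCoherent'_iff_forall]
  exact forall_congr' fun m => isPseudoCoherent_G_iff hB K m

end Groth.Agent.TwoTermLib.Restr
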