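import Mathlib
import Groth.Agent.DTenLib.HomQis
import Groth.Agent.DTenLib.CoIndTensor
import Groth.Agent.DRingLib.Basic

/-!
# Hom complexes out of bounded above complexes of projectives; currying
-/

set_option autoImplicit false
set_option linter.style.haveILetI false

universe u

open CategoryTheory CategoryTheory.Limits HomologicalComplex MonoidalCategory
open CochainComplex.HomComplex
open DTenLib (ap homPre)

attribute [local instance] HasDerivedCategory.standard

namespace Groth.Agent.TwoTermLib.HomCx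

variable {A : Type u} [CommRing A]

theorem isInvertedBy_homCxQ (P : DRing.Cx A) [P.IsKProjective] :
    (HomologicalComplex.quasiIso (ModuleCat.{u} A) (ComplexShape.up ℤ)).IsInvertedBy
      (DRing.homCxQ P) := fun L M f (hf : QuasiIso f) => by
  haveI := hf
  haveI : QuasiIso (DRing.homCxMap P f) := DTenLib.quasiIso_homCxMap f
  exact inferInstanceAs (IsIso (DerivedCategory.Q.map (DRing.homCxMap P f)))

/-- `RHom(P, L) = Hom(P, L)` for K-projective `P`. -/
noncomputable def rHomObjIso (P : DRing.Cx A) [P.IsKProjective] [DRing.HasRHomCx P] (L : DRing.Cx A) :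
    DerivedCategory.Q.obj (DRing.homCx P L) ≅ (DRing.RHomCx P).obj (DerivedCategory.Q.obj L) :=
  haveI := Functor.isIso_of_isRightDerivedFunctor_of_inverts (DRing.RHomCx P)
    ((DRing.homCxQ P).totalRightDerivedUnit DerivedCategory.Q
      (HomologicalComplex.quasiIso (ModuleCat.{u} A) (ComplexShape.up ℤ)))
    (W := HomologicalComplex.quasiIso (ModuleCat.{u} A) (ComplexShape.up ℤ))
    (isInvertedBy_homCxQ P)
  @asIso _ _ _ _ (((DRing.homCxQ P).totalRightDerivedUnit DerivedCategory.Q
      (HomologicalComplex.quasiIso (ModuleCat.{u} A) (ComplexShape.up ℤ))).app L)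
    (NatIso.isIso_app_of_isIso _ L)

section Curry

variable (K L M : DRing.Cx A)

/-- Uncurrying, degreewise. -/
noncomputable def uMap {n : ℤ} (z : (DRing.homCx K (DRing.homCx L M)).X n) (m m' : ℤ)
    (hm : m + n = m') : (K ⊗ L).X m ⟶ M.X m' :=
  mapBifunctorDesc (F := curriedTensor (ModuleCat.{u} A))
    (c := ComplexShape.up ℤ) fun p q (h : p + q = m) => ModuleCat.MonoidalCategory.tensorLift
      (fun (k : K.X p) (x : L.X q) =>
        ((ap (((ap z).v p (p + n) rfl).hom k)).v q m' (by omega)).hom x)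
      (fun k k' x => by rw [map_add]; rfl) (fun c k x => by rw [map_smul]; rfl)
      (fun k x x' => map_add _ _ _) (fun c k x => map_smul _ _ _)

theorem uMap_ι {n : ℤ} (z : (DRing.homCx K (DRing.homCx L M)).X n) (m m' : ℤ) (hm : m + n = m')
    (p q : ℤ) (h : p + q = m) (j : ℤ) (hj : p + n = j) (k : K.X p) (x : L.X q) :
    (uMap K L M z m m' hm).hom ((KFlatLib.ιT K L p q m h).hom (k ⊗ₜ x)) =
      ((ap (((ap z).v p j hj).hom k)).v q m' (by omega)).hom x := by
  subst hj
  have h1 : KFlatLib.ιT K L p q m h ≫ uMap K L M z m m' hm = _ := ι_mapBifunctorDesc _ p q h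
  exact congr($(h1).hom (k ⊗ₜ x))

theorem tensor_term_ext {m m' : ℤ} {f g : (K ⊗ L).X m ⟶ M.X m'}
    (h : ∀ (p q : ℤ) (hpq : p + q = m) (k : K.X p) (x : L.X q),
      f.hom ((KFlatLib.ιT K L p q m hpq).hom (k ⊗ₜ x)) =
        g.hom ((KFlatLib.ιT K L p q m hpq).hom (k ⊗ₜ x))) : f = g :=
  mapBifunctor.hom_ext fun p q hpq => ModuleCat.MonoidalCategory.tensor_ext fun k x => h p q hpq k x

theorem v_add {P Q : DRing.Cx A} {n : ℤ} (z z' : (DRing.homCx P Q).X n) (p q : ℤ) (h : p + n = q)
    (x : P.X p) : ((ap (z + z')).v p q h).hom x = ((ap z).v p q h).hom x + ((ap z').v p q h).hom x :=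
  rfl

theorem v_smul {P Q : DRing.Cx A} {n : ℤ} (c : A) (z : (DRing.homCx P Q).X n) (p q : ℤ)
    (h : p + n = q) (x : P.X p) : ((ap (c • z)).v p q h).hom x = c • ((ap z).v p q h).hom x :=
  rfl

/-- Uncurrying cochains. -/
noncomputable def uncurryF (n : ℤ) :
    (DRing.homCx K (DRing.homCx L M)).X n →ₗ[A] (DRing.homCx (K ⊗ L) M).X n where
  toFun z := Cochain.mk (uMap K L M z)
  map_add' z z' := Cochain.ext _ _ fun m m' hm => tensor_term_ext K L M fun p q h k x => by
    show (uMap K L M (z + z') m m' hm).hom _ = (uMap K L M z m m' hm).hom _ + (uMap K L M z' m m' hm).hom _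
    rw [uMap_ι K L M (z + z') m m' hm p q h _ rfl, uMap_ι K L M z m m' hm p q h _ rfl,
      uMap_ι K L M z' m m' hm p q h _ rfl, v_add, v_add]
  map_smul' c z := Cochain.ext _ _ fun m m' hm => tensor_term_ext K L M fun p q h k x => by
    show (uMap K L M (c • z) m m' hm).hom _ = c • (uMap K L M z m m' hm).hom _
    rw [uMap_ι K L M (c • z) m m' hm p q h _ rfl, uMap_ι K L M z m m' hm p q h _ rfl, v_smul,
      v_smul]

theorem uncurryF_ι (n : ℤ) (z : (DRing.homCx K (DRing.homCx L M)).X n) (m m' : ℤ) (hm : m + n = m')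
    (p q : ℤ) (h : p + q = m) (j : ℤ) (hj : p + n = j) (k : K.X p) (x : L.X q) :
    ((ap (uncurryF K L M n z)).v m m' hm).hom ((KFlatLib.ιT K L p q m h).hom (k ⊗ₜ x)) =
      ((ap (((ap z).v p j hj).hom k)).v q m' (by omega)).hom x :=
  uMap_ι K L M z m m' hm p q h j hj k x

theorem bijective_uncurryF (n : ℤ) : Function.Bijective (uncurryF K L M n) := by
  constructor
  · intro z z' h
    refine Cochain.ext _ _ fun p j hj => ModuleCat.hom_ext (LinearMap.ext fun k => ?_)
    refine Cochain.ext _ _ fun q m' hq => ModuleCat.hom_ext (LinearMap.ext fun x => ?_)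
    have := congrArg (fun w => ((ap w).v (p + q) m' (by omega)).hom
      ((KFlatLib.ιT K L p q (p + q) rfl).hom (k ⊗ₜ x))) h
    exact ((uncurryF_ι K L M n z _ _ _ p q rfl j hj k x).symm.trans this).trans
      (uncurryF_ι K L M n z' _ _ _ p q rfl j hj k x)
  · intro w
    let z : (DRing.homCx K (DRing.homCx L M)).X n := Cochain.mk fun p j hj =>
      DTenLib.curryC K L M fun q q' hq =>
        KFlatLib.ιT K L p q (p + q) rfl ≫ (ap w).v (p + q) q' (by omega)
    refine ⟨z, Cochain.ext _ _ fun m m' hm => tensor_term_ext K L M fun p q h k x => ?_⟩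
    refine (uncurryF_ι K L M n z m m' hm p q h (p + n) rfl k x).trans ?_
    subst h
    rfl

theorem uncurryF_comm (n n' : ℤ) (hn : n + 1 = n') (z : (DRing.homCx K (DRing.homCx L M)).X n) :
    ((DRing.homCx (K ⊗ L) M).d n n').hom (uncurryF K L M n z) =
      uncurryF K L M n' (((DRing.homCx K (DRing.homCx L M)).d n n').hom z) := by
  refine Cochain.ext _ _ fun m m' hm => tensor_term_ext K L M fun p q h k x => ?_
  show ((ap (((DRing.homCx (K ⊗ L) M).d n n').hom (uncurryF K L M n z))).v m m' hm).hom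
      ((KFlatLib.ιT K L p q m h).hom (k ⊗ₜ x)) =
    ((ap (uncurryF K L M n' (((DRing.homCx K (DRing.homCx L M)).d n n').hom z))).v m m' hm).hom
      ((KFlatLib.ιT K L p q m h).hom (k ⊗ₜ x))
  rw [DTenLib.homCx_d_v hn _ m m' hm (m' - 1) (m + 1) rfl rfl,
    uncurryF_ι K L M n z m (m' - 1) _ p q h (p + n) rfl,
    uncurryF_ι K L M n' _ m m' hm p q h (p + n') rfl,
    DTenLib.homCx_d_v hn z p (p + n') rfl (p + n) (p + 1) (by omega) rfl]
  show _ = ((ap (((DRing.homCx L M).d (p + n) (p + n')).hom (((ap z).v p (p + n) rfl).hom k)) +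
    n'.negOnePow.val • ap (((ap z).v (p + 1) (p + n') (by omega)).hom ((K.d p (p + 1)).hom k))).v
      q m' (by omega)).hom x
  rw [Cochain.add_v, Cochain.smul_v, ModuleCat.hom_add, LinearMap.add_apply, ModuleCat.hom_zsmul,
    LinearMap.smul_apply]
  change _ = ((ap (((DRing.homCx L M).d (p + n) (p + n')).hom _)).v q m' (by omega)).hom x + _
  rw [DTenLib.homCx_d_v (show p + n + 1 = p + n' by omega) _ q m' (by omega) (m' - 1) (q + 1) rfl rfl]
  have hd := DTenLib.tensor_d_apply (L := K) (K := L) p q m (m + 1) h rfl k x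
  rw [show ((K ⊗ L).d m (m + 1)).hom ((KFlatLib.ιT K L p q m h).hom (k ⊗ₜ x)) = _ from hd, map_add,
    Units.smul_def p.negOnePow, map_zsmul,
    uncurryF_ι K L M n z (m + 1) m' _ (p + 1) q _ (p + n') (by omega),
    uncurryF_ι K L M n z (m + 1) m' _ p (q + 1) _ (p + n) rfl]
  simp only [Units.smul_def, smul_add, smul_smul, ← Units.val_mul, ← Int.negOnePow_add]
  rw [show n' + p = p + n' from add_comm _ _]
  abel

/-- `Hom(K, Hom(L, M)) ≅ Hom(K ⊗ L, M)`. -/
noncomputable def curryIso : DRing.homCx K (DRing.homCx L M) ≅ DRing.homCx (K ⊗ L) M :=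
  Hom.isoOfComponents
    (fun n => (LinearEquiv.ofBijective (uncurryF K L M n) (bijective_uncurryF K L M n)).toModuleIso)
    fun n n' hn => ModuleCat.hom_ext (LinearMap.ext fun z => uncurryF_comm K L M n n' hn z)

end Curry

section Homotopy

variable {P P' : DRing.Cx A} (K : DRing.Cx A)

theorem homPre_apply (a : P ⟶ P') (n : ℤ) (z : (DRing.homCx P' K).X n) :
    ((homPre K a).f n).hom z = (Cochain.ofHom a).comp (ap z) (zero_add n) :=
  Cochain.ext _ _ fun p q h => by
    rw [Cochain.zero_cochain_comp_v, Cochain.ofHom_v]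
    rfl

/-- Composition with a cochain of degree `-1`, with its sign. -/
noncomputable def preHomotopyLin (h : Cochain P P' (-1)) (i j : ℤ) (hij : j + 1 = i) :
    (DRing.homCx P' K).X i ⟶ (DRing.homCx P K).X j :=
  ModuleCat.ofHom
    { toFun := fun z => i.negOnePow • h.comp (ap z) (by omega : -1 + i = j)
      map_add' := fun z z' =>
        (congrArg (i.negOnePow • ·) (Cochain.comp_add h (ap z) (ap z') (by omega : -1 + i = j))).trans
          (smul_add _ _ _)
      map_smul' := fun c z =>
        (congrArg (i.negOnePow • ·) (Cochain.comp_smul h c (ap z) (by omega : -1 + i = j))).trans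
          (smul_comm _ _ _) }

theorem preHomotopyLin_apply (h : Cochain P P' (-1)) (i j : ℤ) (hij : j + 1 = i)
    (z : (DRing.homCx P' K).X i) : (preHomotopyLin K h i j hij).hom z =
      i.negOnePow • h.comp (ap z) (by omega : -1 + i = j) := rfl

/-- Precomposition preserves homotopies. -/
noncomputable def homPreHomotopy {a b : P ⟶ P'} (H : Homotopy a b) :
    Homotopy (homPre K a) (homPre K b) where
  hom i j := if hij : j + 1 = i then preHomotopyLin K (Cochain.ofHomotopy H) i j hij else 0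
  zero i j hij := dif_neg hij
  comm p := by
    refine ModuleCat.hom_ext (LinearMap.ext fun z => ?_)
    rw [dNext_eq _ (show (ComplexShape.up ℤ).Rel p (p + 1) from rfl),
      prevD_eq _ (show (ComplexShape.up ℤ).Rel (p - 1) p from sub_add_cancel p 1),
      dif_pos rfl, dif_pos (sub_add_cancel p 1)]
    change ap (((homPre K a).f p).hom z) =
      ap ((preHomotopyLin K (Cochain.ofHomotopy H) (p + 1) p rfl).hom (δ p (p + 1) (ap z))) +
        δ (p - 1) p (ap ((preHomotopyLin K (Cochain.ofHomotopy H) p (p - 1) (sub_add_cancel p 1)).hom z)) +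
        ap (((homPre K b).f p).hom z)
    rw [preHomotopyLin_apply, preHomotopyLin_apply, homPre_apply, homPre_apply]
    change _ = (p + 1).negOnePow • (Cochain.ofHomotopy H).comp (δ p (p + 1) (ap z)) _ +
      δ (p - 1) p (p.negOnePow • (Cochain.ofHomotopy H).comp (ap z) _) + _
    rw [δ_units_smul, δ_comp (Cochain.ofHomotopy H) (ap z) (by omega : -1 + p = p - 1) 0 (p + 1) p
      (by omega) (by omega) rfl, δ_ofHomotopy, Cochain.sub_comp, Int.negOnePow_succ]
    simp only [Units.smul_def, Units.val_neg, neg_smul, smul_add, smul_sub, smul_smul,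
      ← Units.val_mul, Int.units_mul_self, Units.val_one, one_smul, ap]
    abel

theorem homPre_comp {P'' : DRing.Cx A} (a : P ⟶ P') (b : P' ⟶ P'') :
    homPre K (a ≫ b) = homPre K b ≫ homPre K a :=
  HomologicalComplex.hom_ext _ _ fun n => ModuleCat.hom_ext (LinearMap.ext fun z =>
    Cochain.ext _ _ fun p q h => ModuleCat.hom_ext (LinearMap.ext fun x => rfl))

theorem homPre_id : homPre K (𝟙 P) = 𝟙 (DRing.homCx P K) :=
  HomologicalComplex.hom_ext _ _ fun n => ModuleCat.hom_ext (LinearMap.ext fun z =>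
    Cochain.ext _ _ fun p q h => ModuleCat.hom_ext (LinearMap.ext fun x => rfl))

/-- Precomposition with a homotopy equivalence. -/
noncomputable def homPreEquiv (e : HomotopyEquiv P P') :
    HomotopyEquiv (DRing.homCx P' K) (DRing.homCx P K) where
  hom := homPre K e.hom
  inv := homPre K e.inv
  homotopyHomInvId := ((Homotopy.ofEq (homPre_comp K e.inv e.hom).symm).trans
    (homPreHomotopy K e.homotopyInvHomId)).trans (Homotopy.ofEq (homPre_id K))
  homotopyInvHomId := ((Homotopy.ofEq (homPre_comp K e.hom e.inv).symm).trans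
    (homPreHomotopy K e.homotopyHomInvId)).trans (Homotopy.ofEq (homPre_id K))

end Homotopy

theorem acyclic_homCx (P : DRing.Cx A) [P.IsKProjective] {X : DRing.Cx A}
    (hX : ∀ i, IsZero (X.homology i)) : ∀ i, IsZero ((DRing.homCx P X).homology i) := by
  haveI : QuasiIso (0 : X ⟶ X) := ⟨fun i => by
    rw [quasiIsoAt_iff_isIso_homologyMap]
    exact Limits.IsZero.isIso (hX i) (hX i) _⟩
  have h0 : DRing.homCxMap P (0 : X ⟶ X) = 0 := HomologicalComplex.hom_ext _ _ fun n =>
    ModuleCat.hom_ext (LinearMap.ext fun z => by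
      show (ap z).comp (Cochain.ofHom (0 : X ⟶ X)) (add_zero n) = 0
      rw [Cochain.ofHom_zero, Cochain.comp_zero])
  intro i
  have h := (DTenLib.quasiIso_homCxMap (P := P) (0 : X ⟶ X)).quasiIsoAt i
  rw [quasiIsoAt_iff_isIso_homologyMap, h0, homologyMap_zero] at h
  exact (isIsoZeroEquivIsoZero _ _ h).1.isZero_iff.2 (isZero_zero _)

/-- Tensoring preserves homotopy equivalences. -/
noncomputable def tensorEquiv (L : DRing.Cx A) {X Y : DRing.Cx A} (e : HomotopyEquiv X Y) :
    HomotopyEquiv (L ⊗ X) (L ⊗ Y) where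
  hom := KFlatLib.tMap (𝟙 L) e.hom
  inv := KFlatLib.tMap (𝟙 L) e.inv
  homotopyHomInvId := ((Homotopy.ofEq ((tensorHom_comp_tensorHom _ _ _ _).trans
      (congrArg (fun f => f ⊗ₘ (e.hom ≫ e.inv)) (Category.id_comp (𝟙 L))))).trans
    (mapBifunctorMapHomotopy₂ (𝟙 L) e.homotopyHomInvId (curriedTensor (ModuleCat.{u} A))
      (ComplexShape.up ℤ))).trans (Homotopy.ofEq (id_tensorHom_id L X))
  homotopyInvHomId := ((Homotopy.ofEq ((tensorHom_comp_tensorHom _ _ _ _).trans
      (congrArg (fun f => f ⊗ₘ (e.inv ≫ e.hom)) (Category.id_comp (𝟙 L))))).trans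
    (mapBifunctorMapHomotopy₂ (𝟙 L) e.homotopyInvHomId (curriedTensor (ModuleCat.{u} A))
      (ComplexShape.up ℤ))).trans (Homotopy.ofEq (id_tensorHom_id L Y))

/-- K-projective complexes isomorphic in `D(A)` are homotopy equivalent. -/
theorem exists_homotopyEquiv {E P : DRing.Cx A} [E.IsKProjective] [P.IsKProjective]
    (i : DerivedCategory.Q.obj E ≅ DerivedCategory.Q.obj P) : Nonempty (HomotopyEquiv E P) := by
  let q := HomotopyCategory.quotient (ModuleCat.{u} A) (ComplexShape.up ℤ)
  let e := DerivedCategory.quotientCompQhIso (ModuleCat.{u} A)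
  let i' : DerivedCategory.Qh.obj (q.obj E) ≅ DerivedCategory.Qh.obj (q.obj P) :=
    e.app E ≪≫ i ≪≫ (e.app P).symm
  obtain ⟨u, hu⟩ := (CochainComplex.IsKProjective.Qh_map_bijective E (q.obj P)).2 i'.hom
  obtain ⟨v, hv⟩ := (CochainComplex.IsKProjective.Qh_map_bijective P (q.obj E)).2 i'.inv
  refine ⟨HomotopyCategory.homotopyEquivOfIso ⟨u, v, ?_, ?_⟩⟩
  · refine (CochainComplex.IsKProjective.Qh_map_bijective E (q.obj E)).1 ?_
    rw [Functor.map_comp, hu, hv, i'.hom_inv_id, CategoryTheory.Functor.map_id]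
  · refine (CochainComplex.IsKProjective.Qh_map_bijective P (q.obj P)).1 ?_
    rw [Functor.map_comp, hu, hv, i'.inv_hom_id, CategoryTheory.Functor.map_id]

/-- The Hom complex from a perfect bounded above complex of projectives into a K-flat complex
is K-flat. -/
theorem isKFlat_homCx (P K : DRing.Cx A) (b : ℤ) (hb : DRing.VanishesAbove P b)
    (hP : ∀ i, Module.Projective A (P.X i)) (hperf : DRing.IsPerfect A (DRing.toD P))
    (hK : DRing.IsKFlat A K) : DRing.IsKFlat A (DRing.homCx P K) := by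
  obtain ⟨E, a, c, hE, hEf, ⟨i⟩⟩ := hperf
  haveI := DRingLib.isKProjective_of_projective E c (fun j hj => hE j (Or.inr hj)) fun j => (hEf j).2
  haveI := DRingLib.isKProjective_of_projective P b hb hP
  obtain ⟨e⟩ := exists_homotopyEquiv i
  intro L hL j
  refine IsZero.of_iso ?_ ((tensorEquiv L (homPreEquiv K e)).toHomologyIso j)
  refine KFlatLib.acyclic_tensor_symm (K := L) (L := DRing.homCx E K) (fun n => ?_) j
  haveI := DTenLib.quasiIso_asCx (E := E) (J := K) (P := L) hE hEf
  have h : IsIso (homologyMap (DTenLib.asCx E K L) n) :=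
    (quasiIsoAt_iff_isIso_homologyMap _ _).mp (QuasiIso.quasiIsoAt n)
  exact IsZero.of_iso (acyclic_homCx E
    (KFlatLib.acyclic_tensor_symm (K := K) (L := L) (hK L hL)) n) (@asIso _ _ _ _ _ h)

end Groth.Agent.TwoTermLib.HomCx
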