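import Groth.Agent.TwoTermLib.Two
import Groth.Agent.DRingLib.Devissage

/-!
# Projective amplitude and splitting across a degree
-/

set_option autoImplicit false
set_option linter.style.haveILetI false

universe u

open CategoryTheory CategoryTheory.Limits HomologicalComplex

attribute [local instance] HasDerivedCategory.standard

namespace Groth.Agent.TwoTermLib

variable {R : Type u} [CommRing R] {P : CochainComplex (ModuleCat.{u} R) ℤ}
  {N : ModuleCat.{u} R} {n : ℤ}

/-- The complex with `N` in degree `n`. -/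
noncomputable abbrev Sn (n : ℤ) (N : ModuleCat.{u} R) : CochainComplex (ModuleCat.{u} R) ℤ :=
  (HomologicalComplex.single (ModuleCat.{u} R) (ComplexShape.up ℤ) n).obj N

/-- `N[-n]` is represented by `N` in degree `n`. -/
noncomputable def eSn (n : ℤ) (N : ModuleCat.{u} R) :
    ((DerivedCategory.singleFunctor (ModuleCat.{u} R) 0).obj N)⟦-n⟧ ≅
      DerivedCategory.Q.obj (Sn n N) :=
  ((DerivedCategory.singleFunctors (ModuleCat.{u} R)).shiftIso (-n) n 0 (neg_add_cancel n)).app N

/-- A cocycle in degree `n` as a map to `N` in degree `n`. -/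
noncomputable def toSn (φ : P.X n ⟶ N) (hφ : ∀ i, i + 1 = n → P.d i n ≫ φ = 0) : P ⟶ Sn n N :=
  mkHomToSingle φ fun i hi => hφ i hi

theorem toSn_f (φ : P.X n ⟶ N) (hφ : ∀ i, i + 1 = n → P.d i n ≫ φ = 0) :
    (toSn φ hφ).f n = φ ≫ (singleObjXSelf (ComplexShape.up ℤ) n N).inv :=
  mkHomToSingle_f _ _

theorem exists_eq_toSn (f : P ⟶ Sn n N) : ∃ φ hφ, f = toSn φ hφ := by
  refine ⟨f.f n ≫ (singleObjXSelf (ComplexShape.up ℤ) n N).hom, fun i _ => ?_, ?_⟩
  · rw [← f.comm_assoc i n, single_obj_d, zero_comp, comp_zero]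
  · apply to_single_hom_ext
    rw [toSn_f, Category.assoc, Iso.hom_inv_id, Category.comp_id]

theorem toSn_comp_map {N' : ModuleCat.{u} R} (φ : P.X n ⟶ N)
    (hφ : ∀ i, i + 1 = n → P.d i n ≫ φ = 0) (g : N ⟶ N') :
    toSn φ hφ ≫ (HomologicalComplex.single (ModuleCat.{u} R) (ComplexShape.up ℤ) n).map g =
      toSn (φ ≫ g) (fun i hi => by rw [← Category.assoc, hφ i hi, zero_comp]) := by
  apply to_single_hom_ext
  rw [comp_f, toSn_f, toSn_f, single_map_f_self]
  simp

theorem homotopic_toSn_iff (φ : P.X n ⟶ N) (hφ : ∀ i, i + 1 = n → P.d i n ≫ φ = 0) :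
    Nonempty (Homotopy (toSn φ hφ) 0) ↔
      ∃ h : P.X (n + 1) ⟶ N, φ = P.d n (n + 1) ≫ h := by
  constructor
  · rintro ⟨H⟩
    refine ⟨H.hom (n + 1) n ≫ (singleObjXSelf (ComplexShape.up ℤ) n N).hom, ?_⟩
    have h := H.comm n
    rw [dNext_eq H.hom (show (ComplexShape.up ℤ).Rel n (n + 1) by simp),
      prevD_eq H.hom (show (ComplexShape.up ℤ).Rel (n - 1) n by simp),
      single_obj_d, comp_zero, add_zero, zero_f, add_zero, toSn_f] at h
    rw [← Category.assoc, ← h, Category.assoc, Iso.inv_hom_id, Category.comp_id]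
  · rintro ⟨h, rfl⟩
    let hh : ∀ i j : ℤ, (ComplexShape.up ℤ).Rel j i → (P.X i ⟶ (Sn n N).X j) := fun i j _ =>
      if hi : i = n + 1 ∧ j = n then eqToHom (by rw [hi.1]) ≫ h ≫
        (singleObjXSelf (ComplexShape.up ℤ) n N).inv ≫ eqToHom (by rw [hi.2])
      else 0
    refine ⟨(Homotopy.ofEq ?_).trans (Homotopy.nullHomotopy' hh)⟩
    apply to_single_hom_ext
    rw [Homotopy.nullHomotopicMap'_f (show (ComplexShape.up ℤ).Rel (n - 1) n by simp)
      (show (ComplexShape.up ℤ).Rel n (n + 1) by simp), toSn_f]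
    simp [hh, single_obj_d]

theorem Q_map_eq_zero_iff_of_isKProjective [P.IsKProjective]
    (K : CochainComplex (ModuleCat.{u} R) ℤ) (f : P ⟶ K) :
    DerivedCategory.Q.map f = 0 ↔ Nonempty (Homotopy f 0) := by
  constructor
  · intro h
    have h' : (HomotopyCategory.quotient (ModuleCat.{u} R) (ComplexShape.up ℤ)).map f = 0 := by
      apply (CochainComplex.IsKProjective.Qh_map_bijective P
        ((HomotopyCategory.quotient _ (ComplexShape.up ℤ)).obj K)).1
      rw [Functor.map_zero]
      exact h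
    exact ⟨HomotopyCategory.homotopyOfEq _ _ (h'.trans (Functor.map_zero _ _ _).symm)⟩
  · rintro ⟨H⟩
    show DerivedCategory.Qh.map
      ((HomotopyCategory.quotient (ModuleCat.{u} R) (ComplexShape.up ℤ)).map f) = _
    rw [HomotopyCategory.eq_of_homotopy _ _ H, Functor.map_zero, Functor.map_zero]
    rfl

theorem Q_map_eq_zero_iff_of_isKInjective (K : CochainComplex (ModuleCat.{u} R) ℤ)
    {L : CochainComplex (ModuleCat.{u} R) ℤ} [L.IsKInjective] (f : K ⟶ L) :
    DerivedCategory.Q.map f = 0 ↔ Nonempty (Homotopy f 0) := by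
  constructor
  · intro h
    have h' : (HomotopyCategory.quotient (ModuleCat.{u} R) (ComplexShape.up ℤ)).map f = 0 := by
      apply (CochainComplex.IsKInjective.Qh_map_bijective
        ((HomotopyCategory.quotient _ (ComplexShape.up ℤ)).obj K) L).1
      rw [Functor.map_zero]
      exact h
    exact ⟨HomotopyCategory.homotopyOfEq _ _ (h'.trans (Functor.map_zero _ _ _).symm)⟩
  · rintro ⟨H⟩
    show DerivedCategory.Qh.map
      ((HomotopyCategory.quotient (ModuleCat.{u} R) (ComplexShape.up ℤ)).map f) = _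
    rw [HomotopyCategory.eq_of_homotopy _ _ H, Functor.map_zero, Functor.map_zero]
    rfl

section KProj

variable [P.IsKProjective]

theorem exists_toSn (ξ : DerivedCategory.Q.obj P ⟶
      ((DerivedCategory.singleFunctor (ModuleCat.{u} R) 0).obj N)⟦-n⟧) :
    ∃ φ hφ, ξ = DerivedCategory.Q.map (toSn (P := P) (N := N) (n := n) φ hφ) ≫ (eSn n N).inv := by
  obtain ⟨f, hf⟩ := DRingLib.Q_map_surjective P (Sn n N) (ξ ≫ (eSn n N).hom)
  obtain ⟨φ, hφ, rfl⟩ := exists_eq_toSn f
  exact ⟨φ, hφ, by rw [hf, Category.assoc, Iso.hom_inv_id, Category.comp_id]⟩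

theorem toSn_comp_eq_zero_iff (φ : P.X n ⟶ N) (hφ : ∀ i, i + 1 = n → P.d i n ≫ φ = 0) :
    DerivedCategory.Q.map (toSn φ hφ) ≫ (eSn n N).inv = 0 ↔
      ∃ h : P.X (n + 1) ⟶ N, φ = P.d n (n + 1) ≫ h := by
  rw [← homotopic_toSn_iff φ hφ, ← Q_map_eq_zero_iff_of_isKProjective]
  constructor
  · intro h
    exact (cancel_mono (eSn n N).inv).1 (h.trans zero_comp.symm)
  · intro h
    rw [h, zero_comp]

end KProj

/-- `coker(P^{n-1} → P^n)`. -/
abbrev CK (P : CochainComplex (ModuleCat.{u} R) ℤ) (i j : ℤ) : ModuleCat.{u} R :=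
  ModuleCat.of R (P.X j ⧸ LinearMap.range (P.d i j).hom)

/-- Vanishing of `Hom(K, M[-a])` on all modules gives a factorisation of the projection. -/
theorem exists_factor_of_vanishing [P.IsKProjective] {K : Dual.D R}
    (e : DerivedCategory.Q.obj P ≅ K) (a : ℤ)
    (h : ∀ (M : Type u) [AddCommGroup M] [Module R M], Subsingleton (K ⟶ (Dual.inD R M)⟦-a⟧)) :
    ∃ g : P.X (a + 1) ⟶ CK P (a - 1) a,
      ModuleCat.ofHom (Submodule.mkQ _) = P.d a (a + 1) ≫ g := by
  have hφ : ∀ i, i + 1 = a → P.d i a ≫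
      (ModuleCat.ofHom (Submodule.mkQ _) : P.X a ⟶ CK P (a - 1) a) = 0 := by
    intro i hi
    obtain rfl : i = a - 1 := by omega
    apply ModuleCat.hom_ext
    ext y
    simp only [ModuleCat.hom_comp, ModuleCat.hom_ofHom, ModuleCat.hom_zero, LinearMap.coe_comp,
      Function.comp_apply, LinearMap.zero_apply, Submodule.mkQ_apply,
      Submodule.Quotient.mk_eq_zero]
    exact ⟨y, rfl⟩
  refine (toSn_comp_eq_zero_iff _ hφ).1 ?_
  have := h (CK P (a - 1) a)
  rw [← cancel_epi e.inv, comp_zero]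
  exact Subsingleton.elim (α := K ⟶ (Dual.inD R (CK P (a - 1) a))⟦-a⟧) _ _

/-- ... hence no cohomology in that degree. -/
theorem isZero_homology_of_vanishing [P.IsKProjective] {K : Dual.D R}
    (e : DerivedCategory.Q.obj P ≅ K) (a : ℤ)
    (h : ∀ (M : Type u) [AddCommGroup M] [Module R M], Subsingleton (K ⟶ (Dual.inD R M)⟦-a⟧)) :
    IsZero ((DerivedCategory.homologyFunctor (ModuleCat.{u} R) a).obj K) := by
  obtain ⟨g, hg⟩ := exists_factor_of_vanishing e a h
  refine IsZero.of_iso ?_ (PQLib.homologyIso e a)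
  rw [← exactAt_iff_isZero_homology, exactAt_iff' P (a - 1) a (a + 1) (by simp) (by simp),
    ShortComplex.moduleCat_exact_iff]
  intro x hx
  have h0 : (Submodule.mkQ (LinearMap.range (P.d (a - 1) a).hom)) x = 0 := by
    have := congrArg (fun k => (ConcreteCategory.hom k) x) hg
    refine this.trans ?_
    rw [ModuleCat.comp_apply]
    exact (congrArg _ hx).trans (map_zero _)
  exact (Submodule.Quotient.mk_eq_zero _).1 h0

/-- A projector onto the image of the differential makes the next cokernel projective. -/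
theorem projective_coker (i j : ℤ) (hj : Module.Projective R (P.X j))
    (g : P.X j →ₗ[R] P.X j) (h1 : ∀ x, g (P.d i j x) = P.d i j x)
    (h2 : ∀ y, g y ∈ LinearMap.range (P.d i j).hom) : Module.Projective R (CK P i j) := by
  let s : (P.X j ⧸ LinearMap.range (P.d i j).hom) →ₗ[R] P.X j :=
    Submodule.liftQ _ (LinearMap.id - g) (by
      rintro _ ⟨x, rfl⟩
      simp [LinearMap.mem_ker, h1])
  refine Module.Projective.of_split s (Submodule.mkQ _) (LinearMap.ext fun z => ?_)
  obtain ⟨y, rfl⟩ := Submodule.Quotient.mk_surjective _ z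
  simp only [s, LinearMap.coe_comp, Function.comp_apply, Submodule.liftQ_apply,
    Submodule.mkQ_apply, LinearMap.id_coe, id_eq, LinearMap.sub_apply, Submodule.Quotient.mk_sub,
    (Submodule.Quotient.mk_eq_zero _).2 (h2 y), sub_zero]

theorem projective_coker_of_vanishing [P.IsKProjective] {K : Dual.D R}
    (e : DerivedCategory.Q.obj P ≅ K) (a : ℤ) (hP : Module.Projective R (P.X (a + 1)))
    (h : ∀ (M : Type u) [AddCommGroup M] [Module R M], Subsingleton (K ⟶ (Dual.inD R M)⟦-a⟧)) :
    Module.Projective R (CK P a (a + 1)) := by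
  obtain ⟨g, hg⟩ := exists_factor_of_vanishing e a h
  let dbar : (P.X a ⧸ LinearMap.range (P.d (a - 1) a).hom) →ₗ[R] P.X (a + 1) :=
    Submodule.liftQ _ (P.d a (a + 1)).hom (by
      rintro _ ⟨x, rfl⟩
      rw [LinearMap.mem_ker, ← ModuleCat.comp_apply, P.d_comp_d]
      rfl)
  refine projective_coker a (a + 1) hP (dbar ∘ₗ g.hom) (fun x => ?_) fun y => ?_
  · show dbar ((P.d a (a + 1) ≫ g).hom x) = _
    rw [← hg]
    rfl
  · obtain ⟨x, hx⟩ := Submodule.Quotient.mk_surjective _ (g y)
    exact ⟨x, by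
      show _ = dbar (g y)
      rw [← hx]
      rfl⟩

theorem truncGE_projective (hP : ∀ i, Module.Projective R (P.X i)) (n m : ℤ) (hm : m + 1 = n)
    (hC : Module.Projective R (CK P m n)) (i : ℤ) :
    Module.Projective R ((P.truncGE n).X i) := by
  obtain rfl : m = n - 1 := by omega
  rcases lt_trichotomy i n with hi | hi | hi
  · have := DRingLib.free_of_isZero (CochainComplex.isZero_of_isStrictlyGE (P.truncGE n) n i hi)
    exact Module.Projective.of_free
  · subst hi
    exact Module.Projective.of_equiv (DRingLib.truncGEXCoker P i).symm.toLinearEquiv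
  · have := hP i
    exact Module.Projective.of_equiv (P.truncGEXIso n i hi).symm.toLinearEquiv

theorem quasiIsoAt_isIso_Hn {X Y : CochainComplex (ModuleCat.{u} R) ℤ} (f : X ⟶ Y) (i : ℤ)
    [QuasiIsoAt f i] :
    IsIso ((DerivedCategory.homologyFunctor (ModuleCat.{u} R) i).map
      (DerivedCategory.Q.map f)) :=
  ((MorphismProperty.isomorphisms _).arrow_mk_iso_iff
    (Arrow.isoMk ((DerivedCategory.homologyFunctorFactors (ModuleCat.{u} R) i).app X)
      ((DerivedCategory.homologyFunctorFactors (ModuleCat.{u} R) i).app Y)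
      ((DerivedCategory.homologyFunctorFactors (ModuleCat.{u} R) i).hom.naturality f).symm :
      Arrow.mk ((DerivedCategory.homologyFunctor _ i).map (DerivedCategory.Q.map f)) ≅
        Arrow.mk (homologyMap f i))).2
    ((quasiIsoAt_iff_isIso_homologyMap f i).1 inferInstance)

open DerivedCategory.TStructure in
theorem isIso_Hn_truncGEπ (K : Dual.D R) (n i : ℤ) (hi : n ≤ i) :
    IsIso ((DerivedCategory.homologyFunctor (ModuleCat.{u} R) i).map
      ((t.truncGEπ n).app K)) := by
  have hT := t.triangleLTGE_distinguished n K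
  have h1 : ∀ j, n ≤ j → IsZero ((DerivedCategory.homologyFunctor (ModuleCat.{u} R) j).obj
      ((t.triangleLTGE n).obj K).obj₁) := fun j hj => by
    haveI : DerivedCategory.IsLE ((t.triangleLTGE n).obj K).obj₁ (n - 1) :=
      inferInstanceAs (t.IsLE ((t.truncLT n).obj K) (n - 1))
    exact DerivedCategory.isZero_of_isLE _ (n - 1) j (by omega)
  haveI := (DerivedCategory.HomologySequence.mono_homologyMap_mor₂_iff _ hT i).2
    ((h1 i hi).eq_of_src _ _)
  haveI := (DerivedCategory.HomologySequence.epi_homologyMap_mor₂_iff _ hT i (i + 1) rfl).2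
    ((h1 (i + 1) (by omega)).eq_of_tgt _ _)
  exact isIso_of_mono_of_epi
    ((DerivedCategory.homologyFunctor (ModuleCat.{u} R) i).map ((t.triangleLTGE n).obj K).mor₂)

open DerivedCategory.TStructure in
theorem isIso_descTruncGE {K X : Dual.D R} (f : K ⟶ X) (n : ℤ) [t.IsGE X n]
    (hf : ∀ i, n ≤ i → IsIso ((DerivedCategory.homologyFunctor (ModuleCat.{u} R) i).map f)) :
    IsIso (t.descTruncGE f n) := by
  rw [DerivedCategory.isIso_iff]
  intro i
  by_cases hi : n ≤ i
  · have := isIso_Hn_truncGEπ K n i hi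
    have h : IsIso ((DerivedCategory.homologyFunctor (ModuleCat.{u} R) i).map
        ((t.truncGEπ n).app K ≫ t.descTruncGE f n)) := by
      rw [t.π_descTruncGE]
      exact hf i hi
    rw [Functor.map_comp] at h
    exact IsIso.of_isIso_comp_left
      ((DerivedCategory.homologyFunctor (ModuleCat.{u} R) i).map ((t.truncGEπ n).app K)) _
  · haveI : DerivedCategory.IsGE ((t.truncGE n).obj K) n :=
      t.isGE_truncGE_obj K n n le_rfl
    exact (DerivedCategory.isZero_of_isGE _ n i (by omega)).isIso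
      (DerivedCategory.isZero_of_isGE X n i (by omega)) _

open DerivedCategory.TStructure in
/-- The complex truncation computes the truncation in the derived category. -/
theorem nonempty_truncGE_iso {K : Dual.D R} (e : DerivedCategory.Q.obj P ≅ K) (n : ℤ) :
    Nonempty (DerivedCategory.Q.obj (P.truncGE n) ≅ (t.truncGE n).obj K) := by
  haveI : (P.truncGE n).IsGE n := inferInstance
  haveI : t.IsGE (DerivedCategory.Q.obj (P.truncGE n)) n :=
    inferInstanceAs (DerivedCategory.IsGE (DerivedCategory.Q.obj (P.truncGE n)) n)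
  have : IsIso (t.descTruncGE (e.inv ≫ DerivedCategory.Q.map (P.πTruncGE n)) n) := by
    refine isIso_descTruncGE _ n fun i hi => ?_
    have := P.quasiIsoAt_πTruncGE n i hi
    have := quasiIsoAt_isIso_Hn (P.πTruncGE n) i
    rw [Functor.map_comp]
    infer_instance
  exact ⟨(asIso (t.descTruncGE (e.inv ≫ DerivedCategory.Q.map (P.πTruncGE n)) n)).symm⟩

/-- No maps from a complex of projectives in degrees `≥ n` to an object in degrees `< n`. -/
theorem hom_eq_zero_of_disjoint [P.IsKProjective] {n m : ℤ}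
    (hP : ∀ i, i < n → IsZero (P.X i)) (hm : m < n) {X Y : Dual.D R}
    (e : DerivedCategory.Q.obj P ≅ X) (hY : DerivedCategory.IsLE Y m) (f : X ⟶ Y) : f = 0 := by
  obtain ⟨C, hC, ⟨eC⟩⟩ := DerivedCategory.exists_iso_Q_obj_of_isLE Y m
  obtain ⟨g, hg⟩ := DRingLib.Q_map_surjective P C (e.hom ≫ f ≫ eC.hom)
  have : g = 0 := by
    ext1 i
    by_cases hi : i < n
    · exact (hP i hi).eq_of_src _ _
    · exact (C.isZero_of_isStrictlyLE m i (by omega)).eq_of_tgt _ _
  rw [this, Functor.map_zero] at hg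
  exact (cancel_mono eC.hom).1 ((cancel_epi e.hom).1
    (hg.symm.trans (by rw [zero_comp, comp_zero])))

open DerivedCategory.TStructure in
/-- Splitting of `K` once `τ_{≥ n} K` has projective amplitude `≥ n`. -/
theorem exists_split (hP : ∀ i, Module.Projective R (P.X i)) (b : ℤ)
    (hb : ∀ i, b < i → IsZero (P.X i)) {K : Dual.D R} (e : DerivedCategory.Q.obj P ≅ K)
    (n m : ℤ) (hm : m + 1 = n) (hC : Module.Projective R (CK P m n)) (l : ℤ) (hl : l ≤ n)
    (hH : ∀ i, l ≤ i → i < n → IsZero ((DerivedCategory.homologyFunctor (ModuleCat.{u} R) i).obj K))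
    [HasBinaryBiproduct ((t.truncLT l).obj K) ((t.truncGE n).obj K)] :
    (∃ f : K ≅ (t.truncLT l).obj K ⊞ (t.truncGE n).obj K,
      (t.truncLTι l).app K ≫ f.hom = biprod.inl ∧
        f.hom ≫ biprod.snd = (t.truncGEπ n).app K) ∧
      ∃ (P' : DRing.Cx R) (b' : ℤ), DRing.VanishesOutside P' n b' ∧
        (∀ i : ℤ, Module.Projective R (P'.X i)) ∧
        Nonempty (DRing.toD P' ≅ (t.truncGE n).obj K) := by
  have hproj := truncGE_projective hP n m hm hC
  obtain ⟨eT⟩ := nonempty_truncGE_iso e n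
  have hv := DRingLib.vanishesOutside_truncGE hb n
  refine ⟨?_, P.truncGE n, b, hv, hproj, ⟨eT⟩⟩
  haveI := DRingLib.isKProjective_of_projective (P.truncGE n) b (fun i hi => hv i (Or.inr hi))
    hproj
  haveI hGl : t.IsGE ((t.truncGE n).obj K) l :=
    haveI := t.isGE_truncGE_obj K n n le_rfl
    t.isGE_of_ge _ l n hl
  let u := t.descTruncGE ((t.truncGEπ n).app K) l
  have hu : IsIso u := by
    refine isIso_descTruncGE _ l fun i hi => ?_
    by_cases hin : n ≤ i
    · exact isIso_Hn_truncGEπ K n i hin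
    · haveI : DerivedCategory.IsGE ((t.truncGE n).obj K) n :=
        t.isGE_truncGE_obj K n n le_rfl
      exact (hH i hi (by omega)).isIso (DerivedCategory.isZero_of_isGE _ n i (by omega)) _
  have hδ : inv u ≫ (t.truncGEδLT l).app K = 0 := by
    refine hom_eq_zero_of_disjoint (fun i hi => hv i (Or.inl hi)) (m := l - 2) (by omega) eT ?_ _
    haveI := t.isLE_truncLT_obj K l (l - 1)
    exact t.isLE_shift ((t.truncLT l).obj K) (l - 1) 1 (l - 2) (by omega)
  let T := Pretriangulated.Triangle.mk ((t.truncLTι l).app K) ((t.truncGEπ n).app K)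
    (inv u ≫ (t.truncGEδLT l).app K)
  have hT : T ∈ distTriang (Dual.D R) := by
    refine Pretriangulated.isomorphic_distinguished _ (t.triangleLTGE_distinguished l K) _
      (Pretriangulated.Triangle.isoMk _ _ (Iso.refl _) (Iso.refl _) (asIso u).symm ?_ ?_ ?_)
    · exact (Category.comp_id _).trans (Category.id_comp _).symm
    · show (t.truncGEπ n).app K ≫ inv u = 𝟙 K ≫ (t.truncGEπ l).app K
      rw [Category.id_comp, IsIso.comp_inv_eq, t.π_descTruncGE]
    · show (inv u ≫ (t.truncGEδLT l).app K) ≫ (𝟙 ((t.truncLT l).obj K))⟦(1 : ℤ)⟧' =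
        inv u ≫ (t.truncGEδLT l).app K
      simp
  obtain ⟨f, hf1, hf2⟩ := Pretriangulated.exists_iso_binaryBiproduct_of_distTriang T hT hδ
  exact ⟨f, hf1, hf2.symm⟩

/-- Maps from a complex with no term in degree `n` to `N[-n]` vanish. -/
theorem subsingleton_hom_of_isZero [P.IsKProjective] (h : IsZero (P.X n)) {K : Dual.D R}
    (e : DerivedCategory.Q.obj P ≅ K) :
    Subsingleton (K ⟶ ((DerivedCategory.singleFunctor (ModuleCat.{u} R) 0).obj N)⟦-n⟧) := by
  refine subsingleton_of_forall_eq 0 fun ξ => (cancel_epi e.hom).1 ?_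
  obtain ⟨φ, hφ, hξ⟩ := exists_toSn (e.hom ≫ ξ)
  rw [hξ, comp_zero, (toSn_comp_eq_zero_iff φ hφ).2 ⟨0, h.eq_of_src _ _⟩]

/-- Detecting `H^n` with injective modules. -/
theorem isZero_homology_of_vanishing_injective (K : Dual.D R) (n : ℤ)
    (h : ∀ (M : Type u) [AddCommGroup M] [Module R M], Subsingleton (K ⟶ (Dual.inD R M)⟦-n⟧)) :
    IsZero ((DerivedCategory.homologyFunctor (ModuleCat.{u} R) n).obj K) := by
  obtain ⟨X, ⟨e⟩⟩ := PQLib.exists_model K
  refine IsZero.of_iso ?_ (PQLib.homologyIso e n)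
  rw [← exactAt_iff_isZero_homology, exactAt_iff' X (n - 1) n (n + 1) (by simp) (by simp),
    ShortComplex.moduleCat_exact_iff]
  intro x hx
  obtain ⟨p⟩ : Nonempty (InjectivePresentation (CK X (n - 1) n)) :=
    EnoughInjectives.presentation _
  let q : X.X n ⟶ CK X (n - 1) n := ModuleCat.ofHom (Submodule.mkQ _)
  have hφ : ∀ i, i + 1 = n → X.d i n ≫ q ≫ p.f = 0 := by
    intro i hi
    obtain rfl : i = n - 1 := by omega
    rw [← Category.assoc]
    have : X.d (n - 1) n ≫ q = 0 := by
      apply ModuleCat.hom_ext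
      ext y
      simp only [q, ModuleCat.hom_comp, ModuleCat.hom_ofHom, ModuleCat.hom_zero,
        LinearMap.coe_comp, Function.comp_apply, LinearMap.zero_apply, Submodule.mkQ_apply,
        Submodule.Quotient.mk_eq_zero]
      exact ⟨y, rfl⟩
    rw [this, zero_comp]
  haveI : Injective p.J := p.injective
  haveI : (Sn n p.J).IsStrictlyGE n := inferInstance
  haveI : ∀ i, Injective ((Sn n p.J).X i) := fun i => by
    by_cases hi : i = n
    · subst hi
      exact Injective.of_iso (singleObjXSelf _ i p.J).symm inferInstance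
    · exact (isZero_single_obj_X _ _ _ _ hi).injective
  haveI := CochainComplex.isKInjective_of_injective (Sn n p.J) n
  have hz : DerivedCategory.Q.map (toSn (q ≫ p.f) hφ) = 0 := by
    have := h p.J
    rw [← cancel_epi e.inv, ← cancel_mono (eSn n p.J).inv, comp_zero, zero_comp]
    exact Subsingleton.elim (α := K ⟶ (Dual.inD R p.J)⟦-n⟧) _ _
  obtain ⟨k, hk⟩ := (homotopic_toSn_iff _ hφ).1
    ((Q_map_eq_zero_iff_of_isKInjective _ _).1 hz)
  have h0 : p.f (q x) = 0 := by
    rw [← ModuleCat.comp_apply, hk, ModuleCat.comp_apply]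
    exact (congrArg _ hx).trans (map_zero _)
  exact (Submodule.Quotient.mk_eq_zero _).1
    ((ModuleCat.mono_iff_injective p.f).1 p.mono (h0.trans (map_zero _).symm))

end Groth.Agent.TwoTermLib
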