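import Groth.Agent.ProjLib.Auslander
import Groth.Agent.CommAlgDim.LocPD
import Groth.Agent.S6964
import Groth.Agent.DRingLib.Devissage

/-!
# Objects of `D(R)` for rings of finite global dimension
-/

set_option autoImplicit false
set_option linter.style.haveILetI false

universe u

open CategoryTheory CategoryTheory.Limits

attribute [local instance] HasDerivedCategory.standard

namespace Groth.Agent.TwoTermLib.GlDim

variable {R : Type u} [CommRing R]

/-- A regular ring of dimension `≤ d` has global dimension `≤ d`. -/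
theorem hasProjectiveDimensionLT_of_regular [IsNoetherianRing R]
    (hreg : ∀ p : PrimeSpectrum R, IsRegularLocalRing (Localization.AtPrime p.asIdeal)) (d : ℕ)
    (hd : ringKrullDim R ≤ d) (M : ModuleCat.{u} R) : HasProjectiveDimensionLT M (d + 1) := by
  refine ProjLib.hasProjectiveDimensionLT_of_cyclic d (fun I => ?_) M
  refine (ModuleCat.hasProjectiveDimensionLE_iff_forall_maximalSpectrum d _).2 fun m => ?_
  let S := m.asIdeal.primeCompl
  haveI : IsLocalizedModule S ((ModuleCat.of R (R ⧸ I)).localizedModuleMkLinearMap S) :=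
    ModuleCat.localizedModule_isLocalizedModule (ModuleCat.of R (R ⧸ I)) S
  haveI : IsRegularLocalRing (Localization.AtPrime m.asIdeal) := hreg m.toPrimeSpectrum
  have h := CommAlgDim.pdlt_of_isRegularLocalRing (Localization.AtPrime m.asIdeal)
    (LocalizedModule S (R ⧸ I))
  have hle : ((IsLocalRing.maximalIdeal (Localization.AtPrime m.asIdeal)).spanFinrank : WithBot ℕ∞)
      ≤ (d : WithBot ℕ∞) := by
    rw [IsRegularLocalRing.spanFinrank_maximalIdeal (R := Localization.AtPrime m.asIdeal),
      IsLocalization.AtPrime.ringKrullDim_eq_height m.asIdeal]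
    exact le_trans Ideal.height_le_ringKrullDim_of_isPrime hd
  have hle' : (IsLocalRing.maximalIdeal (Localization.AtPrime m.asIdeal)).spanFinrank ≤ d := by
    exact_mod_cast hle
  exact CommAlgDim.PDLT.of_equiv (LinearEquiv.extendScalarsOfIsLocalization S (Localization S)
    (IsLocalizedModule.linearEquiv S (LocalizedModule.mkLinearMap S (R ⧸ I))
      ((ModuleCat.of R (R ⧸ I)).localizedModuleMkLinearMap S))) (h.mono (by omega))

/-- Projective amplitude of a module in degree `0`. -/
theorem exists_projective_rep_module (d : ℕ) (M : ModuleCat.{u} R)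
    (hM : HasProjectiveDimensionLT M (d + 1)) :
    ∃ P : DRing.Cx R, DRing.VanishesOutside P (-(d : ℤ)) 0 ∧ (∀ i, Module.Projective R (P.X i)) ∧
      Nonempty (DRing.toD P ≅ Dual.inD R M) := by
  have h4 : (∀ n : ℤ, (n < -(d : ℤ) - 1 ∨ 0 < n) → Subsingleton (Dual.HD R (Dual.inD R M) n)) ∧
      ∀ (N : Type u) [AddCommGroup N] [Module R N],
        Subsingleton (DRing.ExtD R (Dual.inD R M) (Dual.inD R N) (-(-(d : ℤ)) + 1)) := by
    refine ⟨fun n hn => ModuleCat.subsingleton_of_isZero
      (PQLib.isZero_homology_single M 0 n (by omega)), fun N _ _ => ?_⟩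
    rw [show (-(-(d : ℤ)) + 1) = ((d + 1 : ℕ) : ℤ) by push_cast; ring]
    haveI := HasProjectiveDimensionLT.subsingleton M (d + 1) (d + 1) le_rfl (ModuleCat.of R N)
    exact (Abelian.Ext.homEquiv (X := M) (Y := ModuleCat.of R N) (n := d + 1)).symm.subsingleton
  exact ((S6964.result R (Dual.inD R M) (-(d : ℤ)) 0).out 3 0).1 h4

variable (d : ℕ) (hgl : ∀ M : ModuleCat.{u} R, HasProjectiveDimensionLT M (d + 1))
include hgl

/-- A bounded object has a representative by projectives in a bounded range. -/
theorem exists_projective_rep (K : Dual.D R) (a b : ℤ)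
    (hK : ∀ i, i < a ∨ b < i → IsZero ((DRingLib.Hn R i).obj K)) :
    ∃ P : DRing.Cx R, DRing.VanishesOutside P (a - d) b ∧ (∀ i, Module.Projective R (P.X i)) ∧
      Nonempty (DRing.toD P ≅ K) := by
  let V : Dual.D R → Prop := fun X => ∀ (N : Type u) [AddCommGroup N] [Module R N] (i : ℤ),
    -(a - d) < i → Subsingleton (X ⟶ (Dual.inD R N)⟦i⟧)
  have hV : DRingLib.Devissable V :=
    { iso := fun {X Y} e h N _ _ i hi =>
        (e.homCongr (Iso.refl _)).subsingleton_congr.1 (h N i hi)
      zero := fun {X} hX N _ _ i _ => ⟨fun f g => hX.eq_of_src f g⟩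
      ext := fun T hT h1 h3 N _ _ i hi => subsingleton_of_forall_eq 0 fun f => by
        haveI := h1 N i hi
        obtain ⟨g, hg⟩ := Pretriangulated.Triangle.yoneda_exact₂ _ hT f
          (Subsingleton.elim (α := T.obj₁ ⟶ (Dual.inD R N)⟦i⟧) _ _)
        haveI := h3 N i hi
        rw [hg, Subsingleton.elim (α := T.obj₃ ⟶ (Dual.inD R N)⟦i⟧) g 0]
        exact comp_zero }
  have hVK : V K := hV.of_homology a (b + 1 - a).toNat K (fun i hi => hK i (by omega)) fun j => by
    intro N _ _ i hi
    by_cases hj : a ≤ j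
    · obtain ⟨P, hv, hP, ⟨e⟩⟩ := exists_projective_rep_module d ((DRingLib.Hn R j).obj K) (hgl _)
      haveI := DRingLib.isKProjective_of_projective P 0 (fun k hk => hv k (Or.inr hk)) hP
      obtain ⟨n, hn⟩ : ∃ n, i + j = -n := ⟨-(i + j), (neg_neg _).symm⟩
      have h0 : Subsingleton (Dual.inD R ((DRingLib.Hn R j).obj K) ⟶ (Dual.inD R N)⟦i + j⟧) := by
        rw [hn]
        exact subsingleton_hom_of_isZero (hv n (by omega)) e
      refine (((DRingLib.singleShiftIso ((DRingLib.Hn R j).obj K) j).homCongr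
        (Iso.refl _))).subsingleton_congr.1 ?_
      exact (((shiftEquiv' (Dual.D R) (-j) j (neg_add_cancel j)).toAdjunction.homEquiv _ _).trans
        ((Iso.refl _).homCongr ((shiftFunctorAdd' (Dual.D R) i j (i + j) rfl).app
          (Dual.inD R N)).symm)).subsingleton_congr.2 h0
    · exact ⟨fun f g => ((DerivedCategory.singleFunctor (ModuleCat.{u} R) j).map_isZero
        (hK j (Or.inl (by omega)))).eq_of_src f g⟩
  have h4 : (∀ n : ℤ, (n < a - d - 1 ∨ b < n) → Subsingleton (Dual.HD R K n)) ∧
      ∀ (N : Type u) [AddCommGroup N] [Module R N],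
        Subsingleton (DRing.ExtD R K (Dual.inD R N) (-(a - d) + 1)) :=
    ⟨fun n hn => ModuleCat.subsingleton_of_isZero (hK n (by omega)), fun N _ _ => hVK N _ (by omega)⟩
  exact ((S6964.result R K (a - d) b).out 3 0).1 h4

/-- Morphisms across a gap of length `d` vanish. -/
theorem hom_eq_zero {K L : Dual.D R} (b k : ℤ) (hKb : ∀ i, b < i → IsZero ((DRingLib.Hn R i).obj K))
    (hK : ∀ i, i ≤ k → IsZero ((DRingLib.Hn R i).obj K)) (hL : DerivedCategory.IsLE L (k - d))
    (f : K ⟶ L) : f = 0 := by
  obtain ⟨P, hv, hP, ⟨e⟩⟩ := exists_projective_rep d hgl K (k + 1) b (by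
    rintro i (hi | hi)
    · exact hK i (by omega)
    · exact hKb i hi)
  haveI := DRingLib.isKProjective_of_projective P b (fun i hi => hv i (Or.inr hi)) hP
  exact hom_eq_zero_of_disjoint (fun i hi => hv i (Or.inl hi)) (by omega) e hL f

end Groth.Agent.TwoTermLib.GlDim
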