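import Mathlib
import Groth.Agent.TwoTermLib.HomCx
import Groth.Agent.DerLib.KInjDerived
import Groth.Agent.DerLib.KInjUse
import Groth.Agent.DRingLib.Amplitude

/-!
# `RHom(E, -)` on K-injective complexes; duals of perfect complexes
-/

set_option autoImplicit false
set_option linter.style.haveILetI false

universe u

open CategoryTheory CategoryTheory.Limits HomologicalComplex
open CochainComplex.HomComplex
open DTenLib (ap homPre)

attribute [local instance] HasDerivedCategory.standard

namespace Groth.Agent.TwoTermLib.RHomEval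

variable {A : Type u} [CommRing A]

theorem enoughKInj : DerLib.KInjDerived.EnoughKInj (ModuleCat.{u} A) := fun K => by
  obtain ⟨I, f, hI, hf, -⟩ := DerLib.KInjRes.exists_resolution K
  exact ⟨I, f, hI, (HomologicalComplex.mem_quasiIso_iff _).1 hf.2⟩

variable (E : DRing.Cx A)

/-- Postcomposition with a cochain. -/
noncomputable def postLin {L L' : DRing.Cx A} (h : Cochain L L' (-1)) (i j : ℤ) (hij : j + 1 = i) :
    (DRing.homCx E L).X i ⟶ (DRing.homCx E L').X j :=
  ModuleCat.ofHom
    { toFun := fun z => (ap z).comp h (by omega : i + -1 = j)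
      map_add' := fun z z' => Cochain.add_comp _ _ _ _
      map_smul' := fun c z => Cochain.smul_comp _ _ _ _ }

/-- Postcomposition preserves homotopies. -/
noncomputable def homCxMapHomotopy {L L' : DRing.Cx A} {a b : L ⟶ L'} (H : Homotopy a b) :
    Homotopy (DRing.homCxMap E a) (DRing.homCxMap E b) where
  hom i j := if hij : j + 1 = i then postLin E (Cochain.ofHomotopy H) i j hij else 0
  zero i j hij := dif_neg hij
  comm p := by
    refine ModuleCat.hom_ext (LinearMap.ext fun z => ?_)
    rw [dNext_eq _ (show (ComplexShape.up ℤ).Rel p (p + 1) from rfl),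
      prevD_eq _ (show (ComplexShape.up ℤ).Rel (p - 1) p from sub_add_cancel p 1),
      dif_pos rfl, dif_pos (sub_add_cancel p 1)]
    change (ap z).comp (Cochain.ofHom a) (add_zero p) =
      (δ p (p + 1) (ap z)).comp (Cochain.ofHomotopy H) (by omega : p + 1 + -1 = p) +
        δ (p - 1) p ((ap z).comp (Cochain.ofHomotopy H) (by omega : p + -1 = p - 1)) +
        (ap z).comp (Cochain.ofHom b) (add_zero p)
    rw [δ_comp (ap z) (Cochain.ofHomotopy H) (by omega : p + -1 = p - 1) (p + 1) 0 p
      (by omega) rfl (by omega), δ_ofHomotopy, Cochain.comp_sub,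
      show ((-1 : ℤ).negOnePow) = -1 by rw [Int.negOnePow_odd _ ⟨-1, by norm_num⟩]]
    simp only [Units.smul_def, Units.val_neg, Units.val_one, neg_smul, one_smul]
    abel

/-- `Hom(E, -)` on the homotopy category, into the derived category. -/
noncomputable def hF : HomotopyCategory (ModuleCat.{u} A) (ComplexShape.up ℤ) ⥤ Dual.D A :=
  CategoryTheory.Quotient.lift _ (DRing.homCxQ E) fun L L' f g ⟨H⟩ => by
    show DerivedCategory.Q.map (DRing.homCxMap E f) = DerivedCategory.Q.map (DRing.homCxMap E g)
    exact (congrArg DerivedCategory.Qh.map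
      (HomotopyCategory.eq_of_homotopy _ _ (homCxMapHomotopy E H)) :)

variable [DRing.HasRHomCx E]

/-- The unit of `RHom(E, -)`, on the homotopy category. -/
noncomputable def hα : hF E ⟶ DerivedCategory.Qh ⋙ DRing.RHomCx E where
  app X := ((DRing.homCxQ E).totalRightDerivedUnit DerivedCategory.Q
    (HomologicalComplex.quasiIso (ModuleCat.{u} A) (ComplexShape.up ℤ))).app X.as
  naturality X Y f := by
    obtain ⟨g, rfl⟩ := (HomotopyCategory.quotient (ModuleCat.{u} A) (ComplexShape.up ℤ)).map_surjective
      (X := X.as) (Y := Y.as) f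
    exact ((DRing.homCxQ E).totalRightDerivedUnit DerivedCategory.Q
      (HomologicalComplex.quasiIso (ModuleCat.{u} A) (ComplexShape.up ℤ))).naturality g

theorem isRightDerived_hα : (DRing.RHomCx E).IsRightDerivedFunctor (hα E)
    (HomotopyCategory.quasiIso (ModuleCat.{u} A) (ComplexShape.up ℤ)) := by
  let W := HomologicalComplex.quasiIso (ModuleCat.{u} A) (ComplexShape.up ℤ)
  let α := (DRing.homCxQ E).totalRightDerivedUnit DerivedCategory.Q W
  haveI : (DRing.RHomCx E).IsLeftKanExtension α :=
    Functor.IsRightDerivedFunctor.isLeftKanExtension _ _ W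
  let q := HomotopyCategory.quotient (ModuleCat.{u} A) (ComplexShape.up ℤ)
  refine ⟨⟨⟨IsInitial.ofUniqueHom
    (fun s => StructuredArrow.homMk ((DRing.RHomCx E).descOfIsLeftKanExtension α s.right
        ({ app := fun L => s.hom.app (q.obj L)
           naturality := fun L L' g => s.hom.naturality (q.map g) } :
          DRing.homCxQ E ⟶ DerivedCategory.Q ⋙ s.right))
      (NatTrans.ext (funext fun X =>
        (DRing.RHomCx E).descOfIsLeftKanExtension_fac_app α s.right _ X.as)))
    (fun s m => StructuredArrow.hom_ext _ _ ((DRing.RHomCx E).hom_ext_of_isLeftKanExtension α _ _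
      (NatTrans.ext (funext fun K => (NatTrans.congr_app (StructuredArrow.w m) ⟨K⟩).trans
        ((DRing.RHomCx E).descOfIsLeftKanExtension_fac_app α s.right
          ({ app := fun L => s.hom.app (q.obj L)
             naturality := fun L L' g => s.hom.naturality (q.map g) } :
            DRing.homCxQ E ⟶ DerivedCategory.Q ⋙ s.right) K).symm))))⟩⟩⟩

/-- `RHom(E, I) = Hom(E, I)` for K-injective `I`. -/
noncomputable def rHomKInjIso (I : DRing.Cx A) [I.IsKInjective] :
    DerivedCategory.Q.obj (DRing.homCx E I) ≅ (DRing.RHomCx E).obj (DerivedCategory.Q.obj I) :=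
  haveI := isRightDerived_hα E
  @asIso _ _ _ _ ((hα E).app ((HomotopyCategory.quotient (ModuleCat.{u} A) (ComplexShape.up ℤ)).obj I))
    (DerLib.KInjDerived.isIso_app (DRing.RHomCx E) (hα E) enoughKInj I)

/-- `RHom(E, M)` computed with a K-projective complex quasi-isomorphic to `E`. -/
theorem nonempty_rHomIso {F : DRing.Cx A} [F.IsKProjective]
    (i : DerivedCategory.Q.obj F ≅ DerivedCategory.Q.obj E) (M : DRing.Cx A) :
    Nonempty ((DRing.RHomCx E).obj (DerivedCategory.Q.obj M) ≅
      DerivedCategory.Q.obj (DRing.homCx F M)) := by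
  obtain ⟨π, hπ⟩ := DRingLib.exists_qis_of_iso F E i
  obtain ⟨I, f, hI, hf⟩ := enoughKInj M
  haveI := hI
  haveI := hf
  haveI := hπ
  haveI : QuasiIso (homPre I π) := DTenLib.quasiIso_homPre π
  haveI : QuasiIso (DRing.homCxMap F f) := DTenLib.quasiIso_homCxMap f
  exact ⟨(DRing.RHomCx E).mapIso (asIso (DerivedCategory.Q.map f)) ≪≫ (rHomKInjIso E I).symm ≪≫
    asIso (DerivedCategory.Q.map (homPre I π)) ≪≫ (asIso (DerivedCategory.Q.map (DRing.homCxMap F f))).symm⟩

section Dual

variable (F : DRing.Cx A)

/-- The ring in degree `0`. -/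
noncomputable abbrev A₀ (A : Type u) [CommRing A] : DRing.Cx A :=
  (single (ModuleCat.{u} A) (ComplexShape.up ℤ) 0).obj (ModuleCat.of A A)

theorem isZero_A₀ {q : ℤ} (hq : q ≠ 0) : IsZero ((A₀ A).X q) := isZero_single_obj_X _ 0 _ q hq

/-- The generator of degree `0` as an equivalence. -/
noncomputable def eA : (A₀ A).X 0 ≃ₗ[A] A :=
  (singleObjXSelf (ComplexShape.up ℤ) 0 (ModuleCat.of A A)).toLinearEquiv

omit [DRing.HasRHomCx E] in
theorem cochain_A₀_ext {n : ℤ} {w w' : (DRing.homCx F (A₀ A)).X n}
    (h : ∀ x : F.X (-n), ((ap w).v (-n) 0 (by omega)).hom x = ((ap w').v (-n) 0 (by omega)).hom x) :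
    w = w' := by
  refine Cochain.ext _ _ fun p q hpq => ?_
  by_cases hq : q = 0
  · subst hq
    obtain rfl : p = -n := by omega
    exact ModuleCat.hom_ext (LinearMap.ext h)
  · exact (isZero_A₀ hq).eq_of_tgt _ _

/-- The degree `n` term of the dual. -/
noncomputable def dualXEquiv (n : ℤ) :
    (DRing.homCx F (A₀ A)).X n ≃ₗ[A] (F.X (-n) →ₗ[A] A) :=
  LinearEquiv.ofBijective
    { toFun := fun w => eA.toLinearMap.comp ((ap w).v (-n) 0 (by omega)).hom
      map_add' := fun w w' => LinearMap.ext fun x => map_add eA _ _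
      map_smul' := fun c w => LinearMap.ext fun x =>
        (congrArg eA (HomCx.v_smul c w _ _ _ x)).trans (map_smul eA c _) }
    ⟨fun w w' h => cochain_A₀_ext F fun x => eA.injective (LinearMap.congr_fun h x), fun φ => by
      refine ⟨Cochain.mk fun p q hpq =>
        if hq : q = 0 then
          (F.XIsoOfEq (show p = -n by omega)).hom ≫ ModuleCat.ofHom (eA.symm.toLinearMap.comp φ) ≫
            ((A₀ A).XIsoOfEq hq).inv
        else 0, LinearMap.ext fun x => ?_⟩
      simp [ap]⟩

theorem finite_projective_dual (hF : DRing.TermwiseFiniteProjective F) (n : ℤ) :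
    Module.Finite A ((DRing.homCx F (A₀ A)).X n) ∧ Module.Projective A ((DRing.homCx F (A₀ A)).X n) := by
  haveI := (hF (-n)).1
  haveI := (hF (-n)).2
  exact ⟨Module.Finite.equiv (dualXEquiv F n).symm, Module.Projective.of_equiv (dualXEquiv F n).symm⟩

theorem vanishes_dual {a b : ℤ} (hF : DRing.VanishesOutside F a b) :
    DRing.VanishesOutside (DRing.homCx F (A₀ A)) (-b) (-a) := fun n hn => by
  haveI : Subsingleton ((DRing.homCx F (A₀ A)).X n) := by
    haveI := ModuleCat.subsingleton_of_isZero (hF (-n) (by omega))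
    exact (dualXEquiv F n).toEquiv.subsingleton
  exact ModuleCat.isZero_of_subsingleton _

/-- Evaluation into the double dual, in each degree. -/
noncomputable def evF (p : ℤ) :
    F.X p ⟶ (DRing.homCx (DRing.homCx F (A₀ A)) (A₀ A)).X p :=
  ModuleCat.ofHom
    { toFun := fun x => p.negOnePow • (Cochain.mk fun q q' h => ModuleCat.ofHom
        { toFun := fun z => ((ap z).v p q' (by omega)).hom x
          map_add' := fun z z' => rfl
          map_smul' := fun c z => rfl } :
          Cochain (DRing.homCx F (A₀ A)) (A₀ A) p)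
      map_add' := fun x x' => (congrArg (p.negOnePow • ·) (Cochain.ext _ _ fun q q' h =>
        ModuleCat.hom_ext (LinearMap.ext fun z => map_add ((ap z).v p q' (by omega)).hom x x'))).trans
          (smul_add _ _ _)
      map_smul' := fun c x => (congrArg (p.negOnePow • ·) (Cochain.ext _ _ fun q q' h =>
        ModuleCat.hom_ext (LinearMap.ext fun z => map_smul ((ap z).v p q' (by omega)).hom c x))).trans
          (smul_comm _ _ _) }

theorem evF_apply (p q q' : ℤ) (h : q + p = q') (x : F.X p) (z : (DRing.homCx F (A₀ A)).X q) :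
    ((ap ((evF F p).hom x)).v q q' h).hom z =
      p.negOnePow • ((ap z).v p q' (by omega)).hom x := rfl

/-- Evaluation into the double dual. -/
noncomputable def evDual : F ⟶ DRing.homCx (DRing.homCx F (A₀ A)) (A₀ A) where
  f p := evF F p
  comm' := by
    rintro p p' (rfl : p + 1 = p')
    refine ModuleCat.hom_ext (LinearMap.ext fun x => ?_)
    refine cochain_A₀_ext (DRing.homCx F (A₀ A)) fun z => ?_
    show ((ap (((DRing.homCx (DRing.homCx F (A₀ A)) (A₀ A)).d p (p + 1)).hom ((evF F p).hom x))).v
      (-(p + 1)) 0 (by omega)).hom z = ((ap ((evF F (p + 1)).hom ((F.d p (p + 1)).hom x))).v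
      (-(p + 1)) 0 (by omega)).hom z
    rw [DTenLib.homCx_d_v rfl _ (-(p + 1)) 0 _ (0 - 1) (-p) rfl (by omega), evF_apply, evF_apply,
      evF_apply, DTenLib.homCx_d_v (show -(p + 1) + 1 = -p by omega) z p 0 (by omega) (0 - 1) (p + 1) rfl rfl]
    rw [show (A₀ A).d (0 - 1) 0 = 0 from (isZero_A₀ (by omega)).eq_of_src _ _]
    simp [Units.smul_def, smul_smul, ← Units.val_mul, ← Int.negOnePow_add, Int.negOnePow_succ,
      Int.negOnePow_neg]

theorem quasiIso_evDual (hF : DRing.TermwiseFiniteProjective F) : QuasiIso (evDual F) := by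
  haveI : ∀ p, IsIso ((evDual F).f p) := fun p => by
    haveI := (hF p).1
    haveI := (hF p).2
    have hpp : F.X (-(-p)) = F.X p := by rw [neg_neg]
    refine (ConcreteCategory.isIso_iff_bijective _).2 ⟨fun x y hxy => ?_, fun w => ?_⟩
    · refine (Module.bijective_dual_eval A (F.X p)).1 (LinearMap.ext fun φ => ?_)
      let z : (DRing.homCx F (A₀ A)).X (-p) := Cochain.mk fun r q' h =>
        if hq : q' = 0 then
          (F.XIsoOfEq (show r = p by omega)).hom ≫ ModuleCat.ofHom (eA.symm.toLinearMap.comp φ) ≫
            ((A₀ A).XIsoOfEq hq).inv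
        else 0
      have h1 := congrArg (fun t => ((ap t).v (-p) 0 (by omega)).hom z) hxy
      have h2 : p.negOnePow • ((ap z).v p 0 (by omega)).hom x =
          p.negOnePow • ((ap z).v p 0 (by omega)).hom y := h1
      have h3 := congrArg eA ((smul_left_cancel_iff p.negOnePow).1 h2)
      simpa [z, ap, Module.Dual.eval_apply] using h3
    · let mkz : (F.X p →ₗ[A] A) → (DRing.homCx F (A₀ A)).X (-p) := fun φ =>
        Cochain.mk fun r q' h =>
        if hq : q' = 0 then
          (F.XIsoOfEq (show r = p by omega)).hom ≫ ModuleCat.ofHom (eA.symm.toLinearMap.comp φ) ≫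
            ((A₀ A).XIsoOfEq hq).inv
        else 0
      have hz : ∀ φ (x : F.X p), ((ap (mkz φ)).v p 0 (by omega)).hom x = eA.symm (φ x) :=
        fun φ x => by simp [mkz, ap]
      have hmkz : ∀ z, mkz (eA.toLinearMap.comp ((ap z).v p 0 (by omega)).hom) = z := fun z => by
        refine Cochain.ext _ _ fun r q' h => ?_
        by_cases hq : q' = 0
        · subst hq
          obtain rfl : r = p := by omega
          refine ModuleCat.hom_ext (LinearMap.ext fun x => ?_)
          exact (hz _ x).trans (eA.symm_apply_apply _)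
        · exact (isZero_A₀ hq).eq_of_tgt _ _
      let Φ : (F.X p →ₗ[A] A) →ₗ[A] A :=
        { toFun := fun φ => eA (((ap w).v (-p) 0 (by omega)).hom (mkz φ))
          map_add' := fun φ ψ => by
            rw [show mkz (φ + ψ) = mkz φ + mkz ψ from Cochain.ext _ _ fun r q' h => by
              by_cases hq : q' = 0
              · subst hq
                obtain rfl : r = p := by omega
                refine ModuleCat.hom_ext (LinearMap.ext fun x => ?_)
                exact (hz _ x).trans ((map_add eA.symm _ _).trans (congrArg₂ (· + ·) (hz φ x) (hz ψ x)).symm)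
              · exact (isZero_A₀ hq).eq_of_tgt _ _, map_add, map_add]
          map_smul' := fun c φ => by
            rw [show mkz (c • φ) = c • mkz φ from Cochain.ext _ _ fun r q' h => by
              by_cases hq : q' = 0
              · subst hq
                obtain rfl : r = p := by omega
                refine ModuleCat.hom_ext (LinearMap.ext fun x => ?_)
                exact (hz _ x).trans ((map_smul eA.symm _ _).trans (congrArg (c • ·) (hz φ x)).symm)
              · exact (isZero_A₀ hq).eq_of_tgt _ _, map_smul, map_smul]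
            rfl }
      obtain ⟨x, hx⟩ := (Module.bijective_dual_eval A (F.X p)).2 (p.negOnePow • Φ)
      refine ⟨x, cochain_A₀_ext (DRing.homCx F (A₀ A)) fun z => ?_⟩
      refine (evF_apply F p (-p) 0 (by omega) x z).trans (eA.injective ?_)
      have h4 := LinearMap.congr_fun hx (eA.toLinearMap.comp ((ap z).v p 0 (by omega)).hom)
      simp only [Module.Dual.eval_apply, Units.smul_def, LinearMap.smul_apply] at h4
      rw [Units.smul_def, map_zsmul]
      change ((p.negOnePow : ℤ)) • eA (((ap z).v p 0 _).hom x) = _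
      erw [h4]
      rw [smul_smul, ← Units.val_mul, Int.units_mul_self, Units.val_one, one_smul]
      exact congrArg (fun t => eA (A := A) (((ap w).v (-p) 0 (by omega)).hom t)) (hmkz z)
  haveI : IsIso (evDual F) := HomologicalComplex.Hom.isIso_of_components _
  infer_instance

end Dual

end Groth.Agent.TwoTermLib.RHomEval
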