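import Mathlib
import Groth.Agent.DRingLib.KFlat
import Groth.Agent.DRingLib.LBaseChange
import Groth.Agent.DRingLib.Amplitude
import Groth.Prelude.Def_DRing4

/-!
# The derived tensor product with a complex, computed by K-flat complexes
-/

set_option autoImplicit false
set_option linter.style.haveILetI false

universe u

open CategoryTheory CategoryTheory.Limits HomologicalComplex MonoidalCategory

attribute [local instance] HasDerivedCategory.standard

namespace Groth.Agent.TwoTermLib.LTCx

variable {R : Type u} [CommRing R]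

theorem quasiIso_tMap_of_kFlat {P Q : CochainComplex (ModuleCat.{u} R) ℤ} (α : P ⟶ Q) [QuasiIso α]
    (hP : DRing.IsKFlat R P) (hQ : DRing.IsKFlat R Q) (L : CochainComplex (ModuleCat.{u} R) ℤ) :
    QuasiIso (KFlatLib.tMap α (𝟙 L)) := by
  have := DRingLib.quasiIso_tensor_of_kFlat α hP hQ L
  have h := KFlatLib.tensorFlipIso_natural α (𝟙 L)
  have : QuasiIso ((KFlatLib.tensorFlipIso P L).hom ≫ KFlatLib.tMap α (𝟙 L)) := by
    rw [← h]
    infer_instance
  exact quasiIso_of_comp_left (KFlatLib.tensorFlipIso P L).hom _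

variable (L : CochainComplex (ModuleCat.{u} R) ℤ)

theorem isIso_tensorCxQ_map {P Q : CochainComplex (ModuleCat.{u} R) ℤ} (α : P ⟶ Q)
    (hP : DRing.IsKFlat R P) (hQ : DRing.IsKFlat R Q) (hα : QuasiIso α) :
    IsIso ((DRing.tensorCxQ R L).map α) := by
  haveI := hα
  have h : QuasiIso (KFlatLib.tMap α (𝟙 L)) := quasiIso_tMap_of_kFlat α hP hQ L
  have heq : (tensorRight L).map α = KFlatLib.tMap α (𝟙 L) := (tensorHom_id α L).symm
  show IsIso (DerivedCategory.Q.map ((tensorRight L).map α))
  rw [DerivedCategory.isIso_Q_map_iff_quasiIso, heq]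
  exact h

variable [DRing.HasLTensorCx R L]

theorem isIso_counit (P : CochainComplex (ModuleCat.{u} R) ℤ) (hP : DRing.IsKFlat R P) :
    IsIso (((DRing.tensorCxQ R L).totalLeftDerivedCounit DerivedCategory.Q
      (HomologicalComplex.quasiIso (ModuleCat.{u} R) (ComplexShape.up ℤ))).app P) := by
  let W := HomologicalComplex.quasiIso (ModuleCat.{u} R) (ComplexShape.up ℤ)
  have hψ : ∀ K, W ((DRingLib.resψ R).app K) := fun K => DRingLib.quasiIso_resψ K
  have hR : W.IsInvertedBy (DRingLib.resP R ⋙ DRing.tensorCxQ R L) := fun K M f (hf : QuasiIso f) => by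
    refine isIso_tensorCxQ_map L _ (DRingLib.good_resP K).1 (DRingLib.good_resP M).1 ?_
    have := DRingLib.quasiIso_resψ K
    have := DRingLib.quasiIso_resψ M
    have : QuasiIso ((DRingLib.resP R).map f ≫ (DRingLib.resψ R).app M) := by
      rw [(DRingLib.resψ R).naturality f]
      change QuasiIso ((DRingLib.resψ R).app K ≫ f)
      exact quasiIso_comp _ _
    exact quasiIso_of_comp_right ((DRingLib.resP R).map f) ((DRingLib.resψ R).app M)
  let α := KFlatLib.derivedOfResα DerivedCategory.Q W (DRing.tensorCxQ R L) (DRingLib.resP R)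
    (DRingLib.resψ R) hR
  haveI := KFlatLib.isRightKanExtension_derivedOfRes DerivedCategory.Q W (DRing.tensorCxQ R L)
    (DRingLib.resP R) (DRingLib.resψ R) hψ
    (fun K => isIso_tensorCxQ_map L _ (DRingLib.good_resP _).1 (DRingLib.good_resP _).1 (hψ _)) hR
  have : IsIso (α.app P) := by
    simp only [α, KFlatLib.derivedOfResα_app]
    have := isIso_tensorCxQ_map L _ (DRingLib.good_resP P).1 hP (hψ P)
    exact @IsIso.comp_isIso _ _ _ _ _ _ _
      (inferInstanceAs (IsIso ((Localization.fac _ hR DerivedCategory.Q).app P).hom)) this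
  haveI : ((DRing.tensorCxQ R L).totalLeftDerived DerivedCategory.Q W).IsRightKanExtension
      ((DRing.tensorCxQ R L).totalLeftDerivedCounit DerivedCategory.Q W) :=
    Functor.IsLeftDerivedFunctor.isRightKanExtension _ _ W
  exact KFlatLib.isIso_app_of_isRightKanExtension _ _ _ α P

/-- `K ⊗ᴸ L` for a K-flat representative. -/
noncomputable def objIso (P : CochainComplex (ModuleCat.{u} R) ℤ) (hP : DRing.IsKFlat R P) :
    (DRing.LTensorCx R L).obj (DerivedCategory.Q.obj P) ≅ DerivedCategory.Q.obj (P ⊗ L) :=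
  @asIso _ _ _ _ _ (isIso_counit L P hP)

omit [DRing.HasLTensorCx R L]

theorem isZero_tensor_X {P Q : CochainComplex (ModuleCat.{u} R) ℤ} (n : ℤ)
    (h : ∀ p q, p + q = n → IsZero (P.X p) ∨ IsZero (Q.X q)) : IsZero ((P ⊗ Q).X n) := by
  rw [IsZero.iff_id_eq_zero]
  refine mapBifunctor.hom_ext fun p q hpq => ?_
  rcases h p q hpq with hz | hz
  · exact ((tensorRight (Q.X q)).map_isZero hz).eq_of_src _ _
  · exact ((tensorLeft (P.X p)).map_isZero hz).eq_of_src _ _

theorem projective_tensor_X {P Q : CochainComplex (ModuleCat.{u} R) ℤ}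
    (hP : ∀ i, Module.Projective R (P.X i)) (hQ : ∀ i, Module.Projective R (Q.X i)) (n : ℤ) :
    Module.Projective R ((P ⊗ Q).X n) := by
  refine (IsProjective.iff_projective _).mpr ⟨fun f e _ => ?_⟩
  have hlift : ∀ p q (h : (ComplexShape.π (ComplexShape.up ℤ) (ComplexShape.up ℤ)
      (ComplexShape.up ℤ)) (p, q) = n), ∃ l, l ≫ e =
        ιMapBifunctor P Q (curriedTensor (ModuleCat.{u} R)) (ComplexShape.up ℤ) p q n h ≫ f := by
    intro p q h
    haveI := hP p
    haveI := hQ q
    haveI : Projective (((curriedTensor (ModuleCat.{u} R)).obj (P.X p)).obj (Q.X q)) :=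
      (IsProjective.iff_projective _).mp (inferInstanceAs
        (Module.Projective R (TensorProduct R (P.X p) (Q.X q))))
    exact ⟨Projective.factorThru _ e, Projective.factorThru_comp _ e⟩
  choose l hl using hlift
  refine ⟨mapBifunctorDesc l, mapBifunctor.hom_ext fun p q h => ?_⟩
  rw [ι_mapBifunctorDesc_assoc, hl]

theorem finite_tensor_X {P Q : CochainComplex (ModuleCat.{u} R) ℤ}
    (hP : ∀ i, Module.Finite R (P.X i)) (hQ : ∀ i, Module.Finite R (Q.X i)) {b c : ℤ}
    (hb : ∀ i, b < i → IsZero (P.X i)) (hc : ∀ i, c < i → IsZero (Q.X i)) (n : ℤ) :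
    Module.Finite R ((P ⊗ Q).X n) := by
  classical
  let ι := fun p : ℤ => ιMapBifunctor P Q (curriedTensor (ModuleCat.{u} R)) (ComplexShape.up ℤ)
    p (n - p) n (by show p + (n - p) = n; omega)
  let S : Submodule R ((P ⊗ Q).X n) := (Finset.Icc (n - c) b).sup fun p => LinearMap.range (ι p).hom
  have hS : S = ⊤ := by
    rw [← Submodule.ker_mkQ S, LinearMap.ker_eq_top]
    have : (ModuleCat.ofHom S.mkQ : (P ⊗ Q).X n ⟶ ModuleCat.of R (((P ⊗ Q).X n) ⧸ S)) = 0 := by
      refine mapBifunctor.hom_ext fun p q h => ?_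
      obtain rfl : q = n - p := by
        have : p + q = n := h
        omega
      by_cases hp : p ∈ Finset.Icc (n - c) b
      · apply ModuleCat.hom_ext
        refine LinearMap.ext fun x => ?_
        exact (Submodule.Quotient.mk_eq_zero _).2
          (Finset.le_sup (f := fun p => LinearMap.range (ι p).hom) hp ⟨x, rfl⟩)
      · rw [Finset.mem_Icc, not_and_or, not_le, not_le] at hp
        rcases hp with hp | hp
        · exact ((tensorLeft (P.X p)).map_isZero (hc (n - p) (by omega))).eq_of_src _ _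
        · exact ((tensorRight (Q.X (n - p))).map_isZero (hb p hp)).eq_of_src _ _
    exact congrArg ModuleCat.Hom.hom this
  refine ⟨?_⟩
  rw [← hS]
  refine Submodule.fg_finset_sup _ _ fun p _ => ?_
  haveI := hP p
  haveI := hQ (n - p)
  haveI : Module.Finite R (((curriedTensor (ModuleCat.{u} R)).obj (P.X p)).obj (Q.X (n - p))) :=
    inferInstanceAs (Module.Finite R (TensorProduct R (P.X p) (Q.X (n - p))))
  rw [LinearMap.range_eq_map]
  exact Submodule.FG.map _ Module.Finite.fg_top

end Groth.Agent.TwoTermLib.LTCx
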