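import Mathlib
import Groth.Agent.DRingLib.Amplitude
import Groth.Agent.DRingLib.AmplitudeTri

/-!
# Exactness of complexes of finite free modules from their fibres
-/

set_option autoImplicit false
set_option linter.style.haveILetI false

universe u

open CategoryTheory CategoryTheory.Limits HomologicalComplex TensorProduct

attribute [local instance] HasDerivedCategory.standard

namespace Groth.Agent.TwoTermLib.Fibre

section Core

variable {R : Type u} [CommRing R] (k : Type u) [Field k] [Algebra R k]
  {A B C : Type u} [AddCommGroup A] [Module R A] [AddCommGroup B] [Module R B]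
  [AddCommGroup C] [Module R C]

/-- Lifting a map between reductions. -/
theorem exists_lift (hk : Function.Surjective (algebraMap R k)) [Module.Projective R B]
    (s' : (k ⊗[R] B) →ₗ[k] (k ⊗[R] A)) :
    ∃ s : B →ₗ[R] A, ∀ b, (1 : k) ⊗ₜ[R] s b = s' (1 ⊗ₜ b) := by
  obtain ⟨s, hs⟩ := Module.projective_lifting_property (TensorProduct.mk R k A 1)
    ((s'.restrictScalars R) ∘ₗ TensorProduct.mk R k B 1) (TensorProduct.mk_surjective R A k hk)
  exact ⟨s, fun b => LinearMap.congr_fun hs b⟩

/-- Over a field an exact pair of maps admits a contracting homotopy in the middle. -/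
theorem exists_homotopy_of_exact {U V W : Type u} [AddCommGroup U] [Module k U] [AddCommGroup V]
    [Module k V] [AddCommGroup W] [Module k W] (f : U →ₗ[k] V) (g : V →ₗ[k] W)
    (h : Function.Exact f g) :
    ∃ (s : V →ₗ[k] U) (t : W →ₗ[k] V), ∀ v, f (s v) + t (g v) = v := by
  obtain ⟨v, hv⟩ := g.rangeRestrict.exists_rightInverse_of_surjective g.range_rangeRestrict
  obtain ⟨t, ht⟩ := LinearMap.exists_extend v
  have hgt : ∀ x, g (t (g x)) = g x := fun x => by
    have h1 : t (g x) = v ⟨g x, LinearMap.mem_range_self g x⟩ :=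
      LinearMap.congr_fun ht ⟨g x, LinearMap.mem_range_self g x⟩
    rw [h1]
    exact congrArg Subtype.val (LinearMap.congr_fun hv ⟨g x, LinearMap.mem_range_self g x⟩)
  obtain ⟨w, hw⟩ := f.rangeRestrict.exists_rightInverse_of_surjective f.range_rangeRestrict
  let q : V →ₗ[k] LinearMap.range f :=
    (LinearMap.id - t ∘ₗ g).codRestrict _ fun x => (h _).1 (by simp [hgt])
  refine ⟨w ∘ₗ q, t, fun x => ?_⟩
  have h2 : f (w (q x)) = (q x : V) := congrArg Subtype.val (LinearMap.congr_fun hw (q x))
  simp only [LinearMap.comp_apply, h2]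
  simp [q]

/-- An endomorphism of a finite free module reducing to the identity is invertible up to a
non-zero scalar of `k`, by a polynomial in itself. -/
theorem exists_poly [Module.Finite R B] [Module.Free R B] (e : B →ₗ[R] B)
    (he : ∀ b, (1 : k) ⊗ₜ[R] e b = 1 ⊗ₜ b) :
    ∃ (r : R) (q : Polynomial R), algebraMap R k r ≠ 0 ∧
      Polynomial.aeval e q * e = r • (1 : Module.End R B) := by
  rcases subsingleton_or_nontrivial R with hR | hR
  · exact absurd (by rw [← map_one (algebraMap R k), Subsingleton.elim (1 : R) 0, map_zero])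
      (one_ne_zero (α := k))
  classical
  let bs := Module.Free.chooseBasis R B
  have hdet : algebraMap R k (LinearMap.det e) = 1 := by
    rw [← LinearMap.det_toMatrix bs, RingHom.map_det]
    have : (algebraMap R k).mapMatrix (LinearMap.toMatrix bs bs e) = 1 := by
      ext i j
      have h := congrArg (fun z => TensorProduct.rid R k ((bs.coord i).baseChange k z)) (he (bs j))
      simp only [LinearMap.baseChange_tmul, TensorProduct.rid_tmul, Module.Basis.coord_apply,
        Algebra.smul_def, mul_one, Module.Basis.repr_self] at h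
      rw [RingHom.mapMatrix_apply, Matrix.map_apply, LinearMap.toMatrix_apply, h,
        Finsupp.single_apply, Matrix.one_apply]
      by_cases hij : i = j
      · subst hij
        simp
      · simp [hij, Ne.symm hij]
    rw [this, Matrix.det_one]
  refine ⟨-(e.charpoly.coeff 0), e.charpoly.divX, ?_, ?_⟩
  · rw [map_neg, neg_ne_zero]
    intro h0
    have := congrArg (algebraMap R k) (LinearMap.det_eq_sign_charpoly_coeff e)
    rw [map_mul, h0, mul_zero, hdet] at this
    exact one_ne_zero this
  · have h := e.aeval_self_charpoly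
    rw [← Polynomial.divX_mul_X_add e.charpoly, map_add, map_mul, Polynomial.aeval_X,
      Polynomial.aeval_C, add_eq_zero_iff_eq_neg] at h
    rw [h, neg_smul, Algebra.algebraMap_eq_smul_one]

theorem exists_intertwine (f : A →ₗ[R] B) (e : B →ₗ[R] B) (v : A →ₗ[R] A) (h : e ∘ₗ f = f ∘ₗ v)
    (q : Polynomial R) : ∃ u : A →ₗ[R] A, (Polynomial.aeval e q) ∘ₗ f = f ∘ₗ u := by
  induction q using Polynomial.induction_on' with
  | add p q hp hq =>
    obtain ⟨u, hu⟩ := hp
    obtain ⟨u', hu'⟩ := hq
    exact ⟨u + u', by rw [map_add, LinearMap.add_comp, LinearMap.comp_add, hu, hu']⟩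
  | monomial n c =>
    refine ⟨c • v ^ n, ?_⟩
    rw [Polynomial.aeval_monomial, Algebra.algebraMap_eq_smul_one, smul_mul_assoc, one_mul,
      LinearMap.smul_comp, LinearMap.comp_smul]
    congr 1
    induction n with
    | zero => rfl
    | succ n ih =>
      rw [pow_succ, pow_succ, Module.End.mul_eq_comp, Module.End.mul_eq_comp,
        LinearMap.comp_assoc, h, ← LinearMap.comp_assoc, ih, LinearMap.comp_assoc]

/-- Exactness of the fibre gives a homotopy up to a scalar invertible in the fibre. -/
theorem exists_scalar_homotopy (hk : Function.Surjective (algebraMap R k)) [Module.Finite R B]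
    [Module.Free R B] [Module.Projective R C] (f : A →ₗ[R] B) (g : B →ₗ[R] C)
    (hgf : g ∘ₗ f = 0) (hex : Function.Exact (f.baseChange k) (g.baseChange k)) :
    ∃ (r : R) (s : B →ₗ[R] A) (t : C →ₗ[R] B), algebraMap R k r ≠ 0 ∧
      f ∘ₗ s + t ∘ₗ g = r • LinearMap.id := by
  obtain ⟨s', t', hst⟩ := exists_homotopy_of_exact k _ _ hex
  obtain ⟨s, hs⟩ := exists_lift k hk s'
  obtain ⟨t, ht⟩ := exists_lift k hk t'
  let e : B →ₗ[R] B := f ∘ₗ s + t ∘ₗ g
  obtain ⟨r, q, hr, hq⟩ := exists_poly k e fun b => by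
    simp only [e, LinearMap.add_apply, LinearMap.comp_apply, TensorProduct.tmul_add]
    rw [ht, show (1 : k) ⊗ₜ[R] f (s b) = f.baseChange k (1 ⊗ₜ s b) from rfl, hs,
      show (1 : k) ⊗ₜ[R] g b = g.baseChange k (1 ⊗ₜ b) from rfl, hst]
  obtain ⟨u, hu⟩ := exists_intertwine f e (s ∘ₗ f) (by
    rw [LinearMap.add_comp, LinearMap.comp_assoc, LinearMap.comp_assoc, hgf, LinearMap.comp_zero,
      add_zero]) q
  refine ⟨r, u ∘ₗ s, (Polynomial.aeval e q) ∘ₗ t, hr, ?_⟩
  rw [← Module.End.one_eq_id, ← hq, Module.End.mul_eq_comp, ← LinearMap.comp_assoc, ← hu,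
    LinearMap.comp_assoc, LinearMap.comp_assoc, ← LinearMap.comp_add]

end Core

variable {R : Type u} [CommRing R]

/-- Exactness after tensoring with any module, from scalar homotopies. -/
theorem exact_rTensor_of_homotopies {A B C : Type u} [AddCommGroup A] [Module R A] [AddCommGroup B]
    [Module R B] [AddCommGroup C] [Module R C] (f : A →ₗ[R] B) (g : B →ₗ[R] C) (hgf : g ∘ₗ f = 0)
    (h : ∀ m : Ideal R, m.IsMaximal → ∃ (r : R) (s : B →ₗ[R] A) (t : C →ₗ[R] B), r ∉ m ∧
      f ∘ₗ s + t ∘ₗ g = r • LinearMap.id)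
    (N : Type u) [AddCommGroup N] [Module R N] :
    Function.Exact (f.rTensor N) (g.rTensor N) := by
  intro x
  refine ⟨fun hx => ?_, ?_⟩
  · by_contra hne
    let J : Ideal R := Submodule.comap (LinearMap.toSpanSingleton R _ x)
      (LinearMap.range (f.rTensor N))
    have hJ : J ≠ ⊤ := fun htop => hne (by
      have : (1 : R) ∈ J := htop ▸ Submodule.mem_top
      simpa [J] using this)
    obtain ⟨m, hm, hJm⟩ := Ideal.exists_le_maximal J hJ
    obtain ⟨r, s, t, hr, hst⟩ := h m hm
    refine hr (hJm ⟨s.rTensor N x, ?_⟩)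
    have h2 := congrArg (fun φ => LinearMap.rTensor N φ x) hst
    simp only [LinearMap.rTensor_add, LinearMap.rTensor_comp, LinearMap.add_apply,
      LinearMap.comp_apply, hx, map_zero, add_zero, LinearMap.rTensor_smul, LinearMap.rTensor_id,
      LinearMap.smul_apply, LinearMap.id_coe, id_eq] at h2
    simpa using h2
  · rintro ⟨y, rfl⟩
    rw [← LinearMap.comp_apply, ← LinearMap.rTensor_comp, hgf, LinearMap.rTensor_zero]
    rfl

/-- The fibre of a complex at `k` is exact at `i`. -/
def FibreExact (P : CochainComplex (ModuleCat.{u} R) ℤ) (k : Type u) [Field k] [Algebra R k]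
    (i : ℤ) : Prop :=
  Function.Exact ((P.d (i - 1) i).hom.baseChange k) ((P.d i (i + 1)).hom.baseChange k)

/-- Amplitude of a complex of finite free modules from the exactness of its fibres. -/
theorem amp_of_fibres {P : CochainComplex (ModuleCat.{u} R) ℤ}
    (hP : ∀ i, Module.Finite R (P.X i) ∧ Module.Free R (P.X i)) {a b : ℤ}
    (h : ∀ m : Ideal R, m.IsMaximal → ∀ i : ℤ, (i < a ∨ b < i) →
      ∃ (k : Type u) (_ : Field k) (_ : Algebra R k), Function.Surjective (algebraMap R k) ∧
        RingHom.ker (algebraMap R k) = m ∧ FibreExact P k i) :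
    DRingLib.Amp a b P := by
  intro N i hi
  rw [← exactAt_iff_isZero_homology, exactAt_iff' _ (i - 1) i (i + 1) (by simp) (by simp),
    CategoryTheory.ShortComplex.ShortExact.moduleCat_exact_iff_function_exact]
  refine exact_rTensor_of_homotopies (P.d (i - 1) i).hom (P.d i (i + 1)).hom ?_ (fun m hm => ?_) N
  · rw [← ModuleCat.hom_comp, P.d_comp_d]
    rfl
  · obtain ⟨k, _, _, hk, hker, hex⟩ := h m hm i hi
    haveI := (hP i).1
    haveI := (hP i).2
    haveI := (hP (i + 1)).2
    obtain ⟨r, s, t, hr, hst⟩ := exists_scalar_homotopy k hk (P.d (i - 1) i).hom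
      (P.d i (i + 1)).hom (by rw [← ModuleCat.hom_comp, P.d_comp_d]; rfl) hex
    exact ⟨r, s, t, fun hrm => hr (RingHom.mem_ker.1 (hker.symm ▸ hrm)), hst⟩

/-- Vanishing of derived base change to a field gives exactness of the fibre. -/
theorem fibreExact_of_subsingleton {k : Type u} [Field k] (φ : R →+* k)
    [DRing.HasLBaseChange φ] {P : CochainComplex (ModuleCat.{u} R) ℤ} (hP : DRing.IsKFlat R P)
    {K : Dual.D R} (e : DerivedCategory.Q.obj P ≅ K) (i : ℤ)
    (h : Subsingleton (Dual.HD k ((DRing.LBaseChange φ).obj K) i)) :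
    @FibreExact R _ P k _ φ.toAlgebra i := by
  letI := φ.toAlgebra
  have h0 : IsZero ((((ModuleCat.extendScalars.{u, u, u} φ).mapHomologicalComplex
      (ComplexShape.up ℤ)).obj P).homology i) :=
    (@ModuleCat.isZero_of_subsingleton _ _ _ h).of_iso
      ((DerivedCategory.homologyFunctor (ModuleCat.{u} k) i).mapIso
        ((DRing.LBaseChange φ).mapIso e.symm ≪≫ DRingLib.lBaseChangeObjIso φ P hP) ≪≫
        (DerivedCategory.homologyFunctorFactors (ModuleCat.{u} k) i).app _).symm
  rw [← exactAt_iff_isZero_homology, exactAt_iff' _ (i - 1) i (i + 1) (by simp) (by simp),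
    CategoryTheory.ShortComplex.ShortExact.moduleCat_exact_iff_function_exact] at h0
  exact h0

/-- A pseudo-coherent object with fibre bounds is perfect of bounded amplitude. -/
theorem perfect_of_amp {P : CochainComplex (ModuleCat.{u} R) ℤ} {a b b' : ℤ}
    (hb : ∀ i, b' < i → IsZero (P.X i)) (hP : ∀ i, Module.Finite R (P.X i) ∧ Module.Free R (P.X i))
    (hA : DRingLib.Amp a b P) {K : Dual.D R} (e : DerivedCategory.Q.obj P ≅ K) :
    DRing.IsPerfect R K ∧ DRing.HasTorAmplitudeIn R a b K :=
  ⟨DRingLib.isPerfect_of_amp hb (fun i => ⟨(hP i).1, by have := (hP i).2; exact Module.Projective.of_free⟩) hA e,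
    (DRingLib.hasTorAmplitudeIn_iff_amp (DRingLib.isKFlat_of_free P b' hb fun i => (hP i).2) e).2 hA⟩

end Groth.Agent.TwoTermLib.Fibre
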