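import Mathlib
import Groth.Agent.TwoTermLib.LTCx
import Groth.Agent.DRingLib.TorBalance
import Groth.Agent.KFlatLib.AlgMore

/-!
# K-flatness of truncations with flat terms, and tor amplitude bounded below
-/

set_option autoImplicit false
set_option linter.style.haveILetI false

universe u

open CategoryTheory CategoryTheory.Limits HomologicalComplex MonoidalCategory
open scoped TensorProduct
open KFlatLib (tT tMap tensorN)

attribute [local instance] HasDerivedCategory.standard

namespace Groth.Agent.TwoTermLib.KFlatTrunc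

variable {R : Type u} [CommRing R]

theorem flat_of_exact {K F Q : Type u} [AddCommGroup K] [Module R K] [AddCommGroup F] [Module R F]
    [AddCommGroup Q] [Module R Q] [Module.Flat R F] [Module.Flat R Q] (f : K →ₗ[R] F)
    (g : F →ₗ[R] Q) (hf : Function.Injective f) (hfg : Function.Exact f g)
    (hg : Function.Surjective g) : Module.Flat R K := by
  rw [Module.Flat.iff_rTensor_preserves_injective_linearMap]
  intro N N' _ _ _ _ φ hφ
  have h₁ : Function.Injective (f.lTensor N) :=
    LinearMap.lTensor_injective_of_exact_of_flat g hg f hf hfg N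
  have h₂ : Function.Injective (φ.rTensor F) :=
    Module.Flat.rTensor_preserves_injective_linearMap φ hφ
  have h : Function.Injective (φ.rTensor F ∘ₗ f.lTensor N) := h₂.comp h₁
  rw [LinearMap.rTensor_comp_lTensor, ← LinearMap.lTensor_comp_rTensor, LinearMap.coe_comp] at h
  exact h.of_comp

theorem flat_truncGE_X {P : CochainComplex (ModuleCat.{u} R) ℤ} {a : ℤ}
    (hf : ∀ i, Module.Flat R (P.X i))
    (h : ∀ N : ModuleCat.{u} R, IsZero ((tensorN P N).homology (a - 1))) (i : ℤ) :
    Module.Flat R ((P.truncGE a).X i) := by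
  rcases lt_trichotomy i a with hi | hi | hi
  · have := DRingLib.free_of_isZero (CochainComplex.isZero_of_isStrictlyGE (P.truncGE a) a i hi)
    infer_instance
  · subst hi
    have := hf i
    have := KFlatLib.flat_coker_of_homology P i h
    exact Module.Flat.of_linearEquiv (DRingLib.truncGEXCoker P i).toLinearEquiv
  · have := hf i
    exact Module.Flat.of_linearEquiv (P.truncGEXIso a i hi).toLinearEquiv

/-- A short exact sequence with K-flat first two terms and flat last terms. -/
theorem isKFlat_X₃ {A B C : CochainComplex (ModuleCat.{u} R) ℤ} {f : A ⟶ B} {g : B ⟶ C}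
    {w : f ≫ g = 0} (hS : (ShortComplex.mk f g w).ShortExact)
    (h₁ : DRing.IsKFlat R A) (h₂ : DRing.IsKFlat R B)
    (h₃ : ∀ i, Module.Flat R (C.X i)) : DRing.IsKFlat R C := by
  intro L hL i
  have h := KFlatLib.shortExact_tMap L hS h₃
  exact ShortComplex.Exact.isZero_of_both_zeros (h.homology_exact₃ i (i + 1) rfl)
    ((h₂ L hL i).eq_of_src _ _) ((h₁ L hL (i + 1)).eq_of_tgt _ _)

theorem isIso_πTruncGE_f (P : CochainComplex (ModuleCat.{u} R) ℤ) (a i : ℤ) (hi : a < i) :
    IsIso ((P.πTruncGE a).f i) := by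
  refine (ComplexShape.Embedding.isIso_liftExtend_f_iff (ComplexShape.embeddingUpIntGE a)
    (HomologicalComplex.restrictionToTruncGE' P (ComplexShape.embeddingUpIntGE a))
    (HomologicalComplex.restrictionToTruncGE'_hasLift P _) (i := (i - a).natAbs)
    (by show a + ((i - a).natAbs : ℤ) = i; omega)).mpr ?_
  refine HomologicalComplex.isIso_restrictionToTruncGE' P _ _ fun h => ?_
  rw [ComplexShape.boundaryGE_embeddingUpIntGE_iff, Int.natAbs_eq_zero] at h
  omega

theorem isKFlat_truncGE {P : CochainComplex (ModuleCat.{u} R) ℤ} (a : ℤ)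
    (hP : DRing.IsKFlat R P) (hf : ∀ i, Module.Flat R (P.X i))
    (hE : ∀ i, Module.Flat R ((P.truncGE a).X i)) : DRing.IsKFlat R (P.truncGE a) := by
  haveI : ∀ n, Epi ((P.πTruncGE a).f n) := fun n =>
    inferInstanceAs (Epi ((HomologicalComplex.πTruncGE P (ComplexShape.embeddingUpIntGE a)).f n))
  haveI : Epi (P.πTruncGE a) := epi_of_epi_f _ fun _ => inferInstance
  have hS : (ShortComplex.mk (kernel.ι (P.πTruncGE a)) (P.πTruncGE a)
      (kernel.condition _)).ShortExact :=
    { exact := ShortComplex.exact_of_f_is_kernel _ (kernelIsKernel (P.πTruncGE a)) }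
  have hdeg := (HomologicalComplex.shortExact_iff_degreewise_shortExact _).mp hS
  refine isKFlat_X₃ (A := kernel (P.πTruncGE a)) (B := P) (C := P.truncGE a) hS ?_ hP hE
  refine KFlatLib.isKFlat_of_bounded_flat (kernel (P.πTruncGE a)) a (fun i hi => ?_) fun i => ?_
  · haveI := isIso_πTruncGE_f P a i hi
    have hz : (kernel.ι (P.πTruncGE a)).f i = 0 := by
      rw [← cancel_mono ((P.πTruncGE a).f i), zero_comp, ← comp_f, kernel.condition, zero_f]
    haveI : Mono ((kernel.ι (P.πTruncGE a)).f i) := (hdeg i).mono_f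
    exact IsZero.of_mono_eq_zero _ hz
  · have := hf i
    have := hE i
    exact flat_of_exact ((kernel.ι (P.πTruncGE a)).f i).hom ((P.πTruncGE a).f i).hom
      ((ModuleCat.mono_iff_injective _).mp (hdeg i).mono_f)
      ((ShortComplex.ShortExact.moduleCat_exact_iff_function_exact _).mp (hdeg i).exact)
      ((ModuleCat.epi_iff_surjective _).mp (hdeg i).epi_g)

theorem homology_tensorN_iso (M : ModuleCat.{u} R) (E : CochainComplex (ModuleCat.{u} R) ℤ)
    (hE : DRing.IsKFlat R E) (P : ProjectiveResolution M) (i : ℤ) :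
    IsZero ((P.cochainComplex ⊗ E).homology i) ↔ IsZero ((tensorN E M).homology i) := by
  obtain ⟨e⟩ := DRingLib.nonempty_singleTensorIso M E
  have q : QuasiIso (tMap P.π' (𝟙 E)) := KFlatLib.quasiIso_tMap_right hE P.π'
  have i₁ : IsIso (homologyMap (tMap P.π' (𝟙 E)) i) :=
    (quasiIsoAt_iff_isIso_homologyMap _ _).mp (q.quasiIsoAt i)
  let H := homologyFunctor (ModuleCat.{u} R) (ComplexShape.up ℤ) i
  exact Iso.isZero_iff ((@asIso _ _ _ _ _ i₁) ≪≫ H.mapIso e ≪≫ H.mapIso
    ((NatIso.mapHomologicalComplex (BraidedCategory.tensorLeftIsoTensorRight M)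
      (ComplexShape.up ℤ)).app E))

theorem isZero_tensor_iff_of_iso {P X Y : CochainComplex (ModuleCat.{u} R) ℤ}
    (hP : DRing.IsKFlat R P) (e : DerivedCategory.Q.obj X ≅ DerivedCategory.Q.obj Y) (i : ℤ) :
    IsZero ((P ⊗ X).homology i) ↔ IsZero ((P ⊗ Y).homology i) := by
  obtain ⟨Z, s, hs, g, hg⟩ := DerivedCategory.right_fac e.hom
  haveI := hs
  have hgi : IsIso (DerivedCategory.Q.map g) := by
    have h : DerivedCategory.Q.map g = DerivedCategory.Q.map s ≫ e.hom := by
      rw [hg, IsIso.hom_inv_id_assoc]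
    rw [h]
    infer_instance
  haveI : QuasiIso s := (DerivedCategory.isIso_Q_map_iff_quasiIso (φ := s)).mp hs
  haveI : QuasiIso g := (DerivedCategory.isIso_Q_map_iff_quasiIso (φ := g)).mp hgi
  have i₁ : IsIso (homologyMap (tMap (𝟙 P) s) i) := (quasiIsoAt_iff_isIso_homologyMap _ _).mp
    ((KFlatLib.quasiIso_tMap_left hP s).quasiIsoAt i)
  have i₂ : IsIso (homologyMap (tMap (𝟙 P) g) i) := (quasiIsoAt_iff_isIso_homologyMap _ _).mp
    ((KFlatLib.quasiIso_tMap_left hP g).quasiIsoAt i)
  exact Iso.isZero_iff ((@asIso _ _ _ _ _ i₁).symm ≪≫ @asIso _ _ _ _ _ i₂)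

/-- Vanishing of the cohomology of `M[0] ⊗ᴸ K`. -/
theorem subsingleton_HD_iff (K : CochainComplex (ModuleCat.{u} R) ℤ) [DRing.HasLTensorCx R K]
    (M : ModuleCat.{u} R) (P : ProjectiveResolution M) (i : ℤ) :
    Subsingleton (Dual.HD R ((DRing.LTensorCx R K).obj
      (DRing.toD ((CochainComplex.singleFunctor (ModuleCat.{u} R) 0).obj M))) i) ↔
      IsZero ((P.cochainComplex ⊗ K).homology i) := by
  let e : DerivedCategory.Q.obj P.cochainComplex ≅
      DRing.toD ((CochainComplex.singleFunctor (ModuleCat.{u} R) 0).obj M) :=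
    asIso (DerivedCategory.Q.map P.π')
  let e' := (DRing.LTensorCx R K).mapIso e.symm ≪≫
    LTCx.objIso K P.cochainComplex (DRingLib.isKFlat_projectiveResolution P)
  refine ModuleCat.isZero_of_iff_subsingleton.symm.trans (((DRingLib.Hn R i).mapIso e').isZero_iff.trans ?_)
  exact ⟨fun h => DRingLib.isZero_homology_of_Hn h, fun h => DRingLib.isZero_Hn_of_homology h⟩

end Groth.Agent.TwoTermLib.KFlatTrunc
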