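import Mathlib
import Groth.Agent.TwoTermLib.KFlatTrunc
import Groth.Agent.DRingLib.AmplitudeBC
import Groth.Agent.PQLib.Derived

/-!
# Tor amplitude over a base ring of complexes over an algebra

For a ring map `φ : R → A` and a complex `P` of `A`-modules, tor amplitude of `P` over `R` is read
off the complexes `P ⊗_A (A ⊗_R Q)` for resolutions `Q` of `R`-modules.
-/

set_option autoImplicit false
set_option linter.style.haveILetI false

universe u

open CategoryTheory CategoryTheory.Limits HomologicalComplex MonoidalCategory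
open Functor.LaxMonoidal
open KFlatLib (tT tMap tensorN)

attribute [local instance] HasDerivedCategory.standard

namespace Groth.Agent.TwoTermLib.RelAmp

variable {R A B : Type u} [CommRing R] [CommRing A] [CommRing B] (φ : R →+* A) (ψ : A →+* B)

/-- Restriction of scalars on complexes. -/
noncomputable abbrev resCx : CochainComplex (ModuleCat.{u} A) ℤ ⥤ CochainComplex (ModuleCat.{u} R) ℤ :=
  DRing.restrictCx φ

/-- `P|_R ⊗_R Q ≅ (P ⊗_A (A ⊗_R Q))|_R`. -/
noncomputable def tensorResIso (P : CochainComplex (ModuleCat.{u} A) ℤ)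
    (Q : CochainComplex (ModuleCat.{u} R) ℤ) :
    ((resCx φ).obj P ⊗ Q : CochainComplex (ModuleCat.{u} R) ℤ) ≅
      (resCx φ).obj (P ⊗ (DRingLib.extCx φ).obj Q) :=
  KFlatLib.totalMapIso (KFlatLib.extTensor φ) (curriedTensor (ModuleCat.{u} R))
    (ModuleCat.restrictScalars φ) (𝟭 (ModuleCat.{u} R)) (ModuleCat.restrictScalars φ)
    (fun a b => asIso (KFlatLib.projHom φ a b)) (fun f b => KFlatLib.projHom_natural_left φ f b)
    (fun a {_ _} g => KFlatLib.projHom_natural_right φ a g) P Q ≪≫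
  ((ModuleCat.restrictScalars φ).mapHomologicalComplex (ComplexShape.up ℤ)).mapIso
    (KFlatLib.totalMapIso (KFlatLib.extTensor φ) (curriedTensor (ModuleCat.{u} A)) (𝟭 (ModuleCat.{u} A))
      (ModuleCat.extendScalars.{u, u, u} φ) (𝟭 (ModuleCat.{u} A))
      (fun _ _ => Iso.refl _) (fun _ _ => (Category.comp_id _).trans (Category.id_comp _).symm)
      (fun _ {_ _} _ => (Category.comp_id _).trans (Category.id_comp _).symm) P Q).symm

theorem isZero_restrictScalars_iff (M : ModuleCat.{u} A) :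
    IsZero ((ModuleCat.restrictScalars.{u} φ).obj M) ↔ IsZero M := by
  rw [ModuleCat.isZero_iff_subsingleton, ModuleCat.isZero_iff_subsingleton]
  rfl

theorem isZero_homology_resCx_iff (M : CochainComplex (ModuleCat.{u} A) ℤ) (i : ℤ) :
    IsZero (((resCx φ).obj M).homology i) ↔ IsZero (M.homology i) :=
  (((M.sc i).mapHomologyIso (ModuleCat.restrictScalars.{u} φ)).isZero_iff).trans
    (isZero_restrictScalars_iff φ _)

theorem isZero_tensor_res_iff (P : CochainComplex (ModuleCat.{u} A) ℤ)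
    (Q : CochainComplex (ModuleCat.{u} R) ℤ) (i : ℤ) :
    IsZero ((Q ⊗ (resCx φ).obj P).homology i) ↔
      IsZero ((P ⊗ (DRingLib.extCx φ).obj Q).homology i) :=
  (Iso.isZero_iff ((homologyFunctor (ModuleCat.{u} R) (ComplexShape.up ℤ) i).mapIso
    (KFlatLib.tensorFlipIso ((resCx φ).obj P) Q ≪≫ tensorResIso φ P Q))).trans
    (isZero_homology_resCx_iff φ _ i)

theorem homology_tensorN_iff (M : ModuleCat.{u} R) {Q : CochainComplex (ModuleCat.{u} R) ℤ}
    (π : Q ⟶ (CochainComplex.singleFunctor (ModuleCat.{u} R) 0).obj M) [QuasiIso π]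
    {E : CochainComplex (ModuleCat.{u} R) ℤ} (hE : DRing.IsKFlat R E) (i : ℤ) :
    IsZero ((Q ⊗ E).homology i) ↔ IsZero ((tensorN E M).homology i) := by
  obtain ⟨e⟩ := DRingLib.nonempty_singleTensorIso M E
  have q : QuasiIso (tMap π (𝟙 E)) := KFlatLib.quasiIso_tMap_right hE π
  have i₁ : IsIso (homologyMap (tMap π (𝟙 E)) i) :=
    (quasiIsoAt_iff_isIso_homologyMap _ _).mp (q.quasiIsoAt i)
  let H := homologyFunctor (ModuleCat.{u} R) (ComplexShape.up ℤ) i
  exact Iso.isZero_iff ((@asIso _ _ _ _ _ i₁) ≪≫ H.mapIso e ≪≫ H.mapIso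
    ((NatIso.mapHomologicalComplex (BraidedCategory.tensorLeftIsoTensorRight M)
      (ComplexShape.up ℤ)).app E))

/-- Vanishing of `H^i(N ⊗ᴸ_R P|_R)` for every `N`. -/
def Vanish (P : CochainComplex (ModuleCat.{u} A) ℤ) (i : ℤ) : Prop :=
  ∀ N : ModuleCat.{u} R,
    IsZero ((P ⊗ (DRingLib.extCx φ).obj (projectiveResolution N).cochainComplex).homology i)

/-- A tor amplitude bound gives vanishing for every resolution. -/
theorem isZero_of_hasTorAmplitudeIn (P : CochainComplex (ModuleCat.{u} A) ℤ) {a c : ℤ}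
    (h : DRing.HasTorAmplitudeIn R a c (DerivedCategory.Q.obj ((resCx φ).obj P)))
    (M : ModuleCat.{u} R) {Q : CochainComplex (ModuleCat.{u} R) ℤ} (hQ : DRing.IsKFlat R Q)
    (π : Q ⟶ (CochainComplex.singleFunctor (ModuleCat.{u} R) 0).obj M) [QuasiIso π]
    (i : ℤ) (hi : i < a ∨ c < i) :
    IsZero ((P ⊗ (DRingLib.extCx φ).obj Q).homology i) := by
  obtain ⟨C, hC, ⟨e⟩⟩ := DRingLib.exists_good_rep (DerivedCategory.Q.obj ((resCx φ).obj P))
  rw [← isZero_tensor_res_iff, ← KFlatTrunc.isZero_tensor_iff_of_iso hQ e,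
    homology_tensorN_iff M π hC.1]
  exact DRingLib.amp_of_hasTorAmplitudeIn h hC.1 e M i hi

/-- The criterion for tor amplitude over the base. -/
theorem hasTorAmplitudeIn_res_iff (P : CochainComplex (ModuleCat.{u} A) ℤ) (a c : ℤ) :
    DRing.HasTorAmplitudeIn R a c (DerivedCategory.Q.obj ((resCx φ).obj P)) ↔
      ∀ i : ℤ, (i < a ∨ c < i) → Vanish φ P i := by
  refine ⟨fun h i hi N => isZero_of_hasTorAmplitudeIn φ P h N
    (DRingLib.isKFlat_projectiveResolution _) (projectiveResolution N).π' i hi, fun h => ?_⟩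
  obtain ⟨C, hC, ⟨e⟩⟩ := DRingLib.exists_good_rep (DerivedCategory.Q.obj ((resCx φ).obj P))
  refine DRingLib.hasTorAmplitudeIn_of_amp hC.1 e fun N i hi => ?_
  rw [← homology_tensorN_iff N (projectiveResolution N).π' hC.1,
    KFlatTrunc.isZero_tensor_iff_of_iso (DRingLib.isKFlat_projectiveResolution _) e,
    isZero_tensor_res_iff]
  exact h i hi N

/-- Base change commutes with tensor products of complexes. -/
noncomputable def tensorExtIso (X Y : CochainComplex (ModuleCat.{u} A) ℤ) :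
    ((DRingLib.extCx ψ).obj X ⊗ (DRingLib.extCx ψ).obj Y : CochainComplex (ModuleCat.{u} B) ℤ) ≅
      (DRingLib.extCx ψ).obj (X ⊗ Y) :=
  KFlatLib.totalMapIso (curriedTensor (ModuleCat.{u} A)) (curriedTensor (ModuleCat.{u} B))
    (ModuleCat.extendScalars.{u, u, u} ψ) (ModuleCat.extendScalars.{u, u, u} ψ)
    (ModuleCat.extendScalars.{u, u, u} ψ)
    (fun a b => Functor.Monoidal.μIso (ModuleCat.extendScalars.{u, u, u} ψ) a b)
    (fun f b => μ_natural_left (ModuleCat.extendScalars.{u, u, u} ψ) f b)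
    (fun a {_ _} g => μ_natural_right (ModuleCat.extendScalars.{u, u, u} ψ) a g) X Y

/-- Base change in two steps. -/
noncomputable def extCompIso {χ : R →+* B} (h : χ = ψ.comp φ)
    (K : CochainComplex (ModuleCat.{u} R) ℤ) :
    (DRingLib.extCx ψ).obj ((DRingLib.extCx φ).obj K) ≅ (DRingLib.extCx χ).obj K :=
  let e := ModuleCat.extendScalarsComp φ ψ
  (Hom.isoOfComponents (fun n => e.app (K.X n))
    (fun i j _ => (e.hom.naturality (K.d i j)).symm)).symm ≪≫
      eqToIso (by subst h; rfl)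

/-- The base change of `P ⊗ (A ⊗_R Q)`. -/
noncomputable def baseChangeIso {χ : R →+* B} (h : χ = ψ.comp φ)
    (P : CochainComplex (ModuleCat.{u} A) ℤ) (Q : CochainComplex (ModuleCat.{u} R) ℤ) :
    ((DRingLib.extCx ψ).obj P ⊗ (DRingLib.extCx χ).obj Q : CochainComplex (ModuleCat.{u} B) ℤ) ≅
      (DRingLib.extCx ψ).obj (P ⊗ (DRingLib.extCx φ).obj Q) :=
  MonoidalCategory.tensorIso (Iso.refl _) (extCompIso φ ψ h Q).symm ≪≫ tensorExtIso ψ P ((DRingLib.extCx φ).obj Q)

end Groth.Agent.TwoTermLib.RelAmp
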