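import Mathlib
import Groth.Agent.TwoTermLib.RelAmp

/-!
# Vanishing of cohomology is local at maximal ideals
-/

set_option autoImplicit false
set_option linter.style.haveILetI false

universe u

open CategoryTheory CategoryTheory.Limits HomologicalComplex MonoidalCategory
open scoped TensorProduct

attribute [local instance] HasDerivedCategory.standard

namespace Groth.Agent.TwoTermLib.LocAmp

variable {A B : Type u} [CommRing A] [CommRing B]

theorem subsingleton_of_maximal (M : Type u) [AddCommGroup M] [Module B M]
    (h : ∀ m : Ideal B, ∀ _ : m.IsMaximal, Subsingleton (Localization.AtPrime m ⊗[B] M)) :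
    Subsingleton M := by
  refine subsingleton_of_forall_eq 0 fun x => ?_
  suffices (⊤ : Ideal B) ≤ LinearMap.ker (LinearMap.toSpanSingleton B M x) by
    simpa using this (Submodule.mem_top (x := (1 : B)))
  by_contra hne
  obtain ⟨m, hm, hle⟩ := Ideal.exists_le_maximal
    (LinearMap.ker (LinearMap.toSpanSingleton B M x)) fun e => hne (top_le_iff.mpr e)
  haveI := hm
  have := h m hm
  obtain ⟨⟨s, hs⟩, hsx⟩ := (IsLocalizedModule.eq_zero_iff m.primeCompl
    (TensorProduct.mk B (Localization.AtPrime m) M 1) (m := x)).1 (Subsingleton.elim _ _)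
  exact hs (hle hsx)

theorem isZero_homology_of_maximal (C : CochainComplex (ModuleCat.{u} B) ℤ) (j : ℤ)
    (h : ∀ m : Ideal B, ∀ _ : m.IsMaximal,
      IsZero (((DRingLib.extCx (algebraMap B (Localization.AtPrime m))).obj C).homology j)) :
    IsZero (C.homology j) := by
  have : Subsingleton (C.homology j) := subsingleton_of_maximal (B := B) (C.homology j) fun m hm => by
    haveI := hm
    obtain ⟨e⟩ := DRingLib.exists_homology_extCx_iso (algebraMap B (Localization.AtPrime m))
      (RingHom.flat_algebraMap_iff.2
        (IsLocalization.flat (Localization.AtPrime m) m.primeCompl)) C j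
    have : Subsingleton ((ModuleCat.extendScalars.{u, u, u}
        (algebraMap B (Localization.AtPrime m))).obj (C.homology j)) :=
      ModuleCat.subsingleton_of_isZero ((h m hm).of_iso e.symm)
    exact (DRingLib.extendScalarsEquiv (C.homology j)).toEquiv.symm.subsingleton
  exact ModuleCat.isZero_of_subsingleton _

/-- Base change of a resolution along a flat map is a resolution. -/
theorem exists_qis_extCx (θ : A →+* B) (hθ : θ.Flat) (N : ModuleCat.{u} A)
    {Q : CochainComplex (ModuleCat.{u} A) ℤ}
    (π : Q ⟶ (CochainComplex.singleFunctor (ModuleCat.{u} A) 0).obj N) [QuasiIso π] :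
    ∃ π' : (DRingLib.extCx θ).obj Q ⟶ (CochainComplex.singleFunctor (ModuleCat.{u} B) 0).obj
      ((ModuleCat.extendScalars.{u, u, u} θ).obj N), QuasiIso π' := by
  let e : (DRingLib.extCx θ).obj ((CochainComplex.singleFunctor (ModuleCat.{u} A) 0).obj N) ≅
      (CochainComplex.singleFunctor (ModuleCat.{u} B) 0).obj
        ((ModuleCat.extendScalars.{u, u, u} θ).obj N) :=
    (singleMapHomologicalComplex (ModuleCat.extendScalars.{u, u, u} θ) (ComplexShape.up ℤ) 0).app N
  haveI : QuasiIso ((DRingLib.extCx θ).map π) :=
    KFlatLib.quasiIso_map_of_cone _ π fun i => DRingLib.isZero_homology_extCx θ hθ _ i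
      ((KFlatLib.acyclic_cone_iff π).mpr inferInstance i)
  exact ⟨(DRingLib.extCx θ).map π ≫ e.hom, inferInstance⟩

end Groth.Agent.TwoTermLib.LocAmp
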