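import Mathlib
import Groth.Agent.DRingLib.Amplitude
import Groth.Agent.DRingLib.AmplitudeTri
import Groth.Agent.DRingLib.PCohMore

/-!
# Derived base change along a surjection with nilpotent kernel
-/

set_option autoImplicit false
set_option linter.style.haveILetI false

universe u

open CategoryTheory CategoryTheory.Limits HomologicalComplex TensorProduct

attribute [local instance] HasDerivedCategory.standard

namespace Groth.Agent.TwoTermLib.Nil

variable {A : Type u} [CommRing A] {B : Type u} [CommRing B]

theorem isZero_tensorN_iff (C : CochainComplex (ModuleCat.{u} A) ℤ) (N : Type u) [AddCommGroup N]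
    [Module A N] (i : ℤ) :
    IsZero ((KFlatLib.tensorN C (ModuleCat.of A N)).homology i) ↔
      Function.Exact ((C.d (i - 1) i).hom.rTensor N) ((C.d i (i + 1)).hom.rTensor N) := by
  rw [← exactAt_iff_isZero_homology, exactAt_iff' _ (i - 1) i (i + 1) (by simp) (by simp),
    CategoryTheory.ShortComplex.ShortExact.moduleCat_exact_iff_function_exact]
  rfl

/-- `(B ⊗_A C) ⊗_B N = C ⊗_A N`. -/
theorem isZero_extCx_tensorN_iff (φ : A →+* B) (C : CochainComplex (ModuleCat.{u} A) ℤ)
    (N : Type u) [AddCommGroup N] [Module A N] [Module B N]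
    (hN : ∀ (r : A) (x : N), φ r • x = r • x) (i : ℤ) :
    IsZero ((KFlatLib.tensorN ((DRingLib.extCx φ).obj C) (ModuleCat.of B N)).homology i) ↔
      IsZero ((KFlatLib.tensorN C (ModuleCat.of A N)).homology i) := by
  letI := φ.toAlgebra
  haveI : IsScalarTower A B N := IsScalarTower.of_algebraMap_smul hN
  rw [isZero_tensorN_iff, isZero_tensorN_iff]
  let c : ∀ (X : Type u) [AddCommGroup X] [Module A X],
      TensorProduct B (TensorProduct A B X) N ≃+ TensorProduct A X N :=
    fun X _ _ => ((TensorProduct.comm B _ _).toAddEquiv.trans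
      (TensorProduct.AlgebraTensorModule.cancelBaseChange A B B N X).toAddEquiv).trans
      (TensorProduct.comm A N X).toAddEquiv
  show Function.Exact (((C.d (i - 1) i).hom.baseChange B).rTensor N)
      (((C.d i (i + 1)).hom.baseChange B).rTensor N) ↔ _
  refine (Function.Exact.iff_of_ladder_addEquiv (e₁ := c _) (e₂ := c _) (e₃ := c _)
    (f₁₂ := (((C.d (i - 1) i).hom.baseChange B).rTensor N).toAddMonoidHom)
    (f₂₃ := (((C.d i (i + 1)).hom.baseChange B).rTensor N).toAddMonoidHom)
    (g₁₂ := ((C.d (i - 1) i).hom.rTensor N).toAddMonoidHom)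
    (g₂₃ := ((C.d i (i + 1)).hom.rTensor N).toAddMonoidHom) ?_ ?_).symm
  all_goals
    ext x
    induction x using TensorProduct.induction_on with
    | zero => simp
    | add x y hx hy => simp_all
    | tmul z m =>
      induction z using TensorProduct.induction_on with
      | zero => simp
      | add x y hx hy => simp_all [TensorProduct.add_tmul]
      | tmul b z => simp [c]

/-- A module killed by the kernel of a surjection is a module over the target. -/
noncomputable abbrev moduleOfKilled (φ : A →+* B) (hφ : Function.Surjective φ) (N : Type u)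
    [AddCommGroup N] [Module A N] (hN : Module.IsTorsionBySet A N (RingHom.ker φ)) : Module B N :=
  letI := hN.module
  Module.compHom N (RingHom.quotientKerEquivOfSurjective hφ).symm.toRingHom

/-- Dévissage along a nilpotent kernel. -/
theorem isZero_tensorN_of_nil (J : Ideal A) (hJ : IsNilpotent J)
    (C : CochainComplex (ModuleCat.{u} A) ℤ) (hC : ∀ n, Module.Flat A (C.X n)) (i : ℤ)
    (h : ∀ (N : Type u) [AddCommGroup N] [Module A N], Module.IsTorsionBySet A N J →
      IsZero ((KFlatLib.tensorN C (ModuleCat.of A N)).homology i))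
    (N : Type u) [AddCommGroup N] [Module A N] :
    IsZero ((KFlatLib.tensorN C (ModuleCat.of A N)).homology i) := by
  obtain ⟨k, hk⟩ := hJ
  suffices ∀ (j : ℕ) (M : Type u) [AddCommGroup M] [Module A M],
      J ^ j • (⊤ : Submodule A M) = ⊥ →
        IsZero ((KFlatLib.tensorN C (ModuleCat.of A M)).homology i) from
    this k N (by rw [hk]; simp)
  intro j
  induction j with
  | zero =>
    intro M _ _ hM
    refine h M ?_
    rintro x ⟨a, -⟩
    have : x ∈ (⊥ : Submodule A M) := hM ▸ (by simp)
    simp [(Submodule.mem_bot A).1 this]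
  | succ j ih =>
    intro M _ _ hM
    let S : Submodule A M := J ^ j • ⊤
    let f₁ : ModuleCat.of A S ⟶ ModuleCat.of A M := ModuleCat.ofHom S.subtype
    let f₂ : ModuleCat.of A M ⟶ ModuleCat.of A (M ⧸ S) := ModuleCat.ofHom S.mkQ
    let g : ∀ {X Y : ModuleCat.{u} A}, (X ⟶ Y) →
        (KFlatLib.tensorN C X ⟶ KFlatLib.tensorN C Y) := fun f =>
      (NatTrans.mapHomologicalComplex ((MonoidalCategory.tensoringRight (ModuleCat.{u} A)).map f)
        (ComplexShape.up ℤ)).app C
    let T : ShortComplex (CochainComplex (ModuleCat.{u} A) ℤ) := ShortComplex.mk (g f₁) (g f₂) (by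
      ext n : 1
      apply ModuleCat.hom_ext
      refine TensorProduct.ext' fun x y => ?_
      show x ⊗ₜ[A] (Submodule.Quotient.mk (y : M) : M ⧸ S) = 0
      rw [(Submodule.Quotient.mk_eq_zero S).2 y.2, TensorProduct.tmul_zero])
    have hT : T.ShortExact := by
      rw [HomologicalComplex.shortExact_iff_degreewise_shortExact]
      intro n
      haveI := hC n
      have hex := Module.Flat.lTensor_exact (C.X n) (R := A) (f := S.subtype) (g := S.mkQ)
        (LinearMap.exact_subtype_mkQ S)
      refine { exact := ?_, mono_f := ?_, epi_g := ?_ }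
      · rw [CategoryTheory.ShortComplex.ShortExact.moduleCat_exact_iff_function_exact]
        exact hex
      · exact (ModuleCat.mono_iff_injective _).2
          (Module.Flat.lTensor_preserves_injective_linearMap _ S.injective_subtype)
      · exact (ModuleCat.epi_iff_surjective _).2
          (LinearMap.lTensor_surjective _ S.mkQ_surjective)
    refine (hT.homology_exact₂ i).isZero_X₂ ((h S ?_).eq_of_src _ _) ((ih (M ⧸ S) ?_).eq_of_tgt _ _)
    · rintro ⟨x, hx⟩ ⟨a, ha⟩
      apply Subtype.ext
      show a • x = 0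
      have : a • x ∈ J ^ (j + 1) • (⊤ : Submodule A M) := by
        rw [pow_succ', mul_smul]
        exact Submodule.smul_mem_smul ha hx
      rwa [hM, Submodule.mem_bot] at this
    · rw [← Submodule.range_mkQ S, LinearMap.range_eq_map, ← Submodule.map_smul'', ← le_bot_iff,
        Submodule.map_le_iff_le_comap, Submodule.comap_bot, Submodule.ker_mkQ]

/-- Vanishing over `B` of the base change gives vanishing over `A`. -/
theorem isZero_tensorN_of_extCx (φ : A →+* B) (hφ : Function.Surjective φ)
    (hnil : IsNilpotent (RingHom.ker φ)) (C : CochainComplex (ModuleCat.{u} A) ℤ)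
    (hC : ∀ n, Module.Flat A (C.X n)) (i : ℤ)
    (h : ∀ N : ModuleCat.{u} B,
      IsZero ((KFlatLib.tensorN ((DRingLib.extCx φ).obj C) N).homology i))
    (N : Type u) [AddCommGroup N] [Module A N] :
    IsZero ((KFlatLib.tensorN C (ModuleCat.of A N)).homology i) :=
  isZero_tensorN_of_nil (RingHom.ker φ) hnil C hC i (fun M _ _ hM => by
    letI := moduleOfKilled φ hφ M hM
    refine (isZero_extCx_tensorN_iff φ C M (fun r x => ?_) i).1 (h (ModuleCat.of B M))
    letI := hM.module
    show ((RingHom.quotientKerEquivOfSurjective hφ).symm (φ r)) • x = r • x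
    rw [show (RingHom.quotientKerEquivOfSurjective hφ).symm (φ r) =
      Ideal.Quotient.mk (RingHom.ker φ) r from (RingEquiv.symm_apply_eq _).2 rfl]
    exact hM.mk_smul r x) N

/-- A nilpotent ideal does not see finite generation. -/
theorem eq_top_of_nil {J : Ideal A} (hJ : IsNilpotent J) {M : Type u} [AddCommGroup M] [Module A M]
    (S : Submodule A M) (h : ⊤ ≤ S ⊔ J • (⊤ : Submodule A M)) : S = ⊤ := by
  obtain ⟨k, hk⟩ := hJ
  have : ∀ j : ℕ, ⊤ ≤ S ⊔ J ^ j • (⊤ : Submodule A M) := fun j => by
    induction j with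
    | zero => simp
    | succ j ih =>
      calc (⊤ : Submodule A M) ≤ S ⊔ J • ⊤ := h
        _ ≤ S ⊔ J • (S ⊔ J ^ j • ⊤) := sup_le_sup_left (Submodule.smul_mono le_rfl ih) _
        _ ≤ S ⊔ J ^ (j + 1) • ⊤ := by
          rw [Submodule.smul_sup, ← mul_smul, ← pow_succ']
          exact sup_le le_sup_left (sup_le (le_sup_of_le_left Submodule.smul_le_right) le_sup_right)
  have := this k
  rw [hk] at this
  simpa using this

/-- Top cohomology finite after base change along a nilpotent kernel is finite. -/
theorem finite_top_homology (φ : A →+* B) (hφ : Function.Surjective φ)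
    (hnil : IsNilpotent (RingHom.ker φ)) (G : CochainComplex (ModuleCat.{u} A) ℤ) (n : ℤ)
    (hG : ∀ i, n < i → IsZero (G.X i))
    (hfin : Module.Finite B (((DRingLib.extCx φ).obj G).homology n)) :
    Module.Finite A (G.homology n) := by
  classical
  letI := φ.toAlgebra
  have hsurj : ∀ (X : ModuleCat.{u} A), Function.Surjective (TensorProduct.mk A B X 1) :=
    fun X => TensorProduct.mk_surjective A X B hφ
  have hker : ∀ (X : ModuleCat.{u} A) (x : X), (1 : B) ⊗ₜ[A] x = 0 →
      x ∈ RingHom.ker φ • (⊤ : Submodule A X) := by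
    intro X x hx
    let e : (A ⧸ RingHom.ker φ) ≃ₗ[A] B :=
      (Ideal.quotientKerAlgEquivOfSurjective (f := Algebra.ofId A B) hφ).toLinearEquiv
    have h2 : TensorProduct.quotTensorEquivQuotSMul X (RingHom.ker φ) ((1 : A ⧸ RingHom.ker φ) ⊗ₜ x) = 0 := by
      have h3 : e.rTensor X ((1 : A ⧸ RingHom.ker φ) ⊗ₜ x) = 0 := by
        rw [LinearEquiv.rTensor_tmul, show e 1 = 1 from map_one (Ideal.quotientKerAlgEquivOfSurjective (f := Algebra.ofId A B) hφ), hx]
      rw [(LinearEquiv.map_eq_zero_iff _).1 h3, map_zero]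
    rw [← map_one (Ideal.Quotient.mk (RingHom.ker φ)),
      TensorProduct.quotTensorEquivQuotSMul_mk_tmul, one_smul] at h2
    exact (Submodule.Quotient.mk_eq_zero _).1 h2
  let E := (DRingLib.extCx φ).obj G
  have hZ : Function.Surjective (G.iCycles n) ∧ Function.Surjective (E.iCycles n) := by
    have : IsIso (G.iCycles n) := G.isIso_iCycles n (n + 1) (by simp)
      ((hG (n + 1) (by omega)).eq_of_tgt _ _)
    have : IsIso (E.iCycles n) := E.isIso_iCycles n (n + 1) (by simp)
      (((ModuleCat.extendScalars.{u, u, u} φ).map_isZero (hG (n + 1) (by omega))).eq_of_tgt _ _)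
    exact ⟨((ConcreteCategory.isIso_iff_bijective _).1 inferInstance).2,
      ((ConcreteCategory.isIso_iff_bijective _).1 inferInstance).2⟩
  have hdecomp : ∀ (w : E.cycles n), E.homologyπ n w = 0 →
      ∃ y, E.iCycles n w = E.d (n - 1) n y := by
    intro w hw
    have hex : Function.Exact (E.toCycles (n - 1) n) (E.homologyπ n) := by
      let S := ShortComplex.mk (E.toCycles (n - 1) n) (E.homologyπ n)
        (E.toCycles_comp_homologyπ _ _)
      exact (CategoryTheory.ShortComplex.ShortExact.moduleCat_exact_iff_function_exact S).1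
        (S.exact_of_g_is_cokernel (E.homologyIsCokernel (n - 1) n (by simp)))
    obtain ⟨y, rfl⟩ := (hex w).1 hw
    refine ⟨y, ?_⟩
    rw [← ModuleCat.comp_apply, HomologicalComplex.toCycles_i]
  obtain ⟨t, ht⟩ := hfin.fg_top
  choose w hw using fun z : E.homology n =>
    (ModuleCat.epi_iff_surjective (E.homologyπ n)).1 inferInstance z
  choose x hx using fun z : E.homology n => hsurj (G.X n) (E.iCycles n (w z))
  let T : Submodule A (G.X n) :=
    Submodule.span A (x '' t) ⊔ LinearMap.range (G.d (n - 1) n).hom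
  have hT : T = ⊤ := by
    refine eq_top_of_nil hnil T fun v _ => ?_
    obtain ⟨v', hv'⟩ := hZ.2 ((1 : B) ⊗ₜ[A] v)
    have hmem : E.homologyπ n v' ∈ Submodule.span B (t : Set (E.homology n)) :=
      ht ▸ Submodule.mem_top
    obtain ⟨c, hc, hsum⟩ := Submodule.mem_span_set.1 hmem
    choose σ hσ using hφ
    let u : G.X n := c.sum fun z r => σ r • x z
    have hu : u ∈ Submodule.span A (x '' t) :=
      Submodule.sum_mem _ fun z hz => Submodule.smul_mem _ _
        (Submodule.subset_span ⟨z, hc hz, rfl⟩)
    obtain ⟨y, hy⟩ := hdecomp (v' - c.sum fun z r => r • w z) (by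
      rw [map_sub, map_finsuppSum]
      simp only [map_smul, hw]
      rw [hsum, sub_self])
    obtain ⟨y', hy'⟩ := hsurj (G.X (n - 1)) y
    rw [map_sub, map_finsuppSum, hv', ← hy'] at hy
    simp only [map_smul, ← hx] at hy
    have hy2 : (1 : B) ⊗ₜ[A] (v - u - G.d (n - 1) n y') = 0 := by
      rw [TensorProduct.tmul_sub, TensorProduct.tmul_sub]
      have hsum' : (1 : B) ⊗ₜ[A] u = c.sum fun z r => r • ((1 : B) ⊗ₜ[A] x z) := by
        simp only [u, Finsupp.sum, TensorProduct.tmul_sum]
        refine Finset.sum_congr rfl fun z _ => ?_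
        rw [TensorProduct.smul_tmul', smul_eq_mul, mul_one, ← TensorProduct.smul_tmul,
          Algebra.smul_def, mul_one]
        exact congrArg (· ⊗ₜ[A] x z) (hσ (c z))
      rw [hsum']
      exact sub_eq_zero.2 hy
    have hmem2 := hker _ _ hy2
    have hval : v = (u + G.d (n - 1) n y') + (v - u - G.d (n - 1) n y') := by abel
    rw [hval]
    exact Submodule.add_mem_sup (Submodule.add_mem_sup hu ⟨y', rfl⟩) hmem2
  refine ⟨?_⟩
  choose g hg using fun z : E.homology n => hZ.1 (x z)
  refine Submodule.fg_def.2 ⟨(fun z => G.homologyπ n (g z)) '' t, (t.finite_toSet.image _), ?_⟩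
  rw [eq_top_iff]
  intro z _
  obtain ⟨v, rfl⟩ := (ModuleCat.epi_iff_surjective (G.homologyπ n)).1 inferInstance z
  have hv : G.iCycles n v ∈ T := hT ▸ Submodule.mem_top
  obtain ⟨a, ha, _, ⟨y, rfl⟩, hay⟩ := Submodule.mem_sup.1 hv
  have ha' : a ∈ Submodule.map (G.iCycles n).hom (Submodule.span A (g '' t)) := by
    rw [Submodule.map_span, Set.image_image]
    simpa only [hg] using ha
  obtain ⟨a', ha', rfl⟩ := ha'
  have hva : v = a' + G.toCycles (n - 1) n y := by
    refine (ModuleCat.mono_iff_injective (G.iCycles n)).1 inferInstance ?_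
    rw [map_add, ← ModuleCat.comp_apply (G.toCycles _ _), HomologicalComplex.toCycles_i]
    exact hay.symm
  rw [hva, map_add, ← ModuleCat.comp_apply (G.toCycles _ _),
    HomologicalComplex.toCycles_comp_homologyπ]
  simp only [ModuleCat.hom_zero, LinearMap.zero_apply, add_zero]
  have := Submodule.mem_map_of_mem (f := (G.homologyπ n).hom) ha'
  rwa [Submodule.map_span, Set.image_image] at this

end Groth.Agent.TwoTermLib.Nil
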