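import Mathlib
import Groth.Agent.TwoTermLib.LocAmp
import Groth.Agent.TwoTermLib.Nil
import Groth.Agent.TwoTermLib.Fibre
import Groth.Agent.TwoTermLib.GlDim

/-!
# Tor amplitude from the fibres of a flat algebra of finite global dimension
-/

set_option autoImplicit false
set_option linter.style.haveILetI false

universe u

open CategoryTheory CategoryTheory.Limits HomologicalComplex MonoidalCategory
open KFlatLib (tensorN)
open scoped TensorProduct

attribute [local instance] HasDerivedCategory.standard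

namespace Groth.Agent.TwoTermLib.FibreAmp

variable {A B F : Type u} [CommRing A] [CommRing B] [CommRing F]

theorem isZero_homology_tensorN_of_iso (P : CochainComplex (ModuleCat.{u} B) ℤ)
    {M N : ModuleCat.{u} B} (e : M ≅ N) (i : ℤ) :
    IsZero ((tensorN P M).homology i) ↔ IsZero ((tensorN P N).homology i) :=
  ((homologyFunctor (ModuleCat.{u} B) (ComplexShape.up ℤ) i).mapIso
    ((NatIso.mapHomologicalComplex ((tensoringRight (ModuleCat.{u} B)).mapIso e)
      (ComplexShape.up ℤ)).app P)).isZero_iff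

/-- Tensoring with a flat base change of a resolution. -/
theorem isZero_tensor_extCx_iff (θ : A →+* B) (hθ : θ.Flat)
    {P : CochainComplex (ModuleCat.{u} B) ℤ} (hP : DRing.IsKFlat B P) (N : ModuleCat.{u} A)
    {Q : CochainComplex (ModuleCat.{u} A) ℤ}
    (π : Q ⟶ (CochainComplex.singleFunctor (ModuleCat.{u} A) 0).obj N) [QuasiIso π] (i : ℤ) :
    IsZero ((P ⊗ (DRingLib.extCx θ).obj Q).homology i) ↔
      IsZero ((tensorN P ((ModuleCat.extendScalars.{u, u, u} θ).obj N)).homology i) := by
  obtain ⟨π', hπ'⟩ := LocAmp.exists_qis_extCx θ hθ N π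
  refine Iff.trans ?_ (RelAmp.homology_tensorN_iff ((ModuleCat.extendScalars.{u, u, u} θ).obj N) π' hP i)
  exact ((homologyFunctor (ModuleCat.{u} B) (ComplexShape.up ℤ) i).mapIso
    (KFlatLib.tensorFlipIso ((DRingLib.extCx θ).obj Q) P)).isZero_iff

/-- Vanishing of `H^i(P|_A ⊗ᴸ N)` read on a K-flat complex `P` over a flat algebra. -/
theorem isZero_tensorN_ext_of_res (θ : A →+* B) (hθ : θ.Flat)
    {P : CochainComplex (ModuleCat.{u} B) ℤ} (hP : DRing.IsKFlat B P)
    {C : CochainComplex (ModuleCat.{u} A) ℤ} (hC : DRing.IsKFlat A C)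
    (e : DerivedCategory.Q.obj C ≅ DerivedCategory.Q.obj ((RelAmp.resCx θ).obj P))
    (N : ModuleCat.{u} A) (i : ℤ) :
    IsZero ((tensorN C N).homology i) ↔
      IsZero ((tensorN P ((ModuleCat.extendScalars.{u, u, u} θ).obj N)).homology i) := by
  rw [← isZero_tensor_extCx_iff θ hθ hP N (projectiveResolution N).π' i,
    ← RelAmp.isZero_tensor_res_iff, ← KFlatTrunc.isZero_tensor_iff_of_iso
      (DRingLib.isKFlat_projectiveResolution _) e,
    RelAmp.homology_tensorN_iff N (projectiveResolution N).π' hC]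

theorem isZero_tensorN_unit_iff {P : CochainComplex (ModuleCat.{u} B) ℤ} (i : ℤ) :
    IsZero ((tensorN P (ModuleCat.of B B)).homology i) ↔ IsZero (P.homology i) :=
  ((homologyFunctor (ModuleCat.{u} B) (ComplexShape.up ℤ) i).mapIso
    (Hom.isoOfComponents (fun n => ρ_ (P.X n))
      (fun p q _ => (rightUnitor_naturality (P.d p q)).symm) :
      tensorN P (𝟙_ (ModuleCat.{u} B)) ≅ P)).isZero_iff

/-- A flat algebra with fibre `F = B ⊗_A N` of global dimension at most `d`: vanishing of
`P ⊗ F` outside `[a, b]` gives vanishing of `P ⊗ k` outside `[a - d, b]` for `F`-modules `k`. -/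
theorem isZero_tensorN_of_fibre (ψ : B →+* F) (d : ℕ)
    (hgl : ∀ M : ModuleCat.{u} F, HasProjectiveDimensionLT M (d + 1))
    {P : CochainComplex (ModuleCat.{u} B) ℤ} (hP : DRing.IsKFlat B P) {a b : ℤ}
    (h : ∀ i, (i < a ∨ b < i) →
      IsZero ((tensorN P ((ModuleCat.restrictScalars.{u} ψ).obj (ModuleCat.of F F))).homology i))
    (k : Type u) [AddCommGroup k] [Module B k] [Module F k]
    (hk : ∀ (r : B) (x : k), ψ r • x = r • x) (i : ℤ) (hi : i < a - d ∨ b < i) :
    IsZero ((tensorN P (ModuleCat.of B k)).homology i) := by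
  letI : Module B F := Module.compHom F ψ
  have hF : ∀ (r : B) (x : F), ψ r • x = r • x := fun _ _ => rfl
  let PF := (DRingLib.extCx ψ).obj P
  have hPF : DRing.IsKFlat F PF := KFlatLib.isKFlat_extend ψ hP
  have hH : ∀ j, (j < a ∨ b < j) → IsZero ((DRingLib.Hn F j).obj (DerivedCategory.Q.obj PF)) :=
    fun j hj => DRingLib.isZero_Hn_of_homology ((isZero_tensorN_unit_iff j).1
      ((Nil.isZero_extCx_tensorN_iff ψ P F hF j).2 (h j hj)))
  obtain ⟨E, hv, hE, ⟨e⟩⟩ := GlDim.exists_projective_rep d hgl (DerivedCategory.Q.obj PF) a b hH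
  have hT : DRing.HasTorAmplitudeIn F (a - d) b (DerivedCategory.Q.obj PF) :=
    ⟨E, hv, fun j => by have := hE j; infer_instance, ⟨e⟩⟩
  exact (Nil.isZero_extCx_tensorN_iff ψ P k hk i).1
    (DRingLib.amp_of_hasTorAmplitudeIn hT hPF (Iso.refl _) (ModuleCat.of F k) i hi)

/-- Exactness of a fibre at a field. -/
theorem fibreExact_of_isZero (k : Type u) [Field k] [Algebra B k]
    (P : CochainComplex (ModuleCat.{u} B) ℤ) (i : ℤ)
    (h : IsZero ((tensorN P (ModuleCat.of B k)).homology i)) : Fibre.FibreExact P k i := by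
  rw [Nil.isZero_tensorN_iff] at h
  unfold Fibre.FibreExact
  refine (Function.Exact.iff_of_ladder_addEquiv
    (e₁ := (TensorProduct.comm B k (P.X (i - 1))).toAddEquiv)
    (e₂ := (TensorProduct.comm B k (P.X i)).toAddEquiv)
    (e₃ := (TensorProduct.comm B k (P.X (i + 1))).toAddEquiv)
    (f₁₂ := ((P.d (i - 1) i).hom.baseChange k).toAddMonoidHom)
    (f₂₃ := ((P.d i (i + 1)).hom.baseChange k).toAddMonoidHom)
    (g₁₂ := ((P.d (i - 1) i).hom.rTensor k).toAddMonoidHom)
    (g₂₃ := ((P.d i (i + 1)).hom.rTensor k).toAddMonoidHom) ?_ ?_).1 h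
  all_goals
    ext x
    induction x using TensorProduct.induction_on with
    | zero => simp
    | add x y hx hy => simp_all
    | tmul z m => simp

/-- Amplitude of a complex of finite free modules from fibres of finite global dimension. -/
theorem perfect_of_fibres {P : CochainComplex (ModuleCat.{u} B) ℤ} {b' : ℤ}
    (hb : ∀ i, b' < i → IsZero (P.X i)) (hP : ∀ i, Module.Finite B (P.X i) ∧ Module.Free B (P.X i))
    {K : Dual.D B} (e : DerivedCategory.Q.obj P ≅ K) {a b : ℤ}
    (h : ∀ m : Ideal B, m.IsMaximal → ∀ i : ℤ, (i < a ∨ b < i) →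
      IsZero ((tensorN P (ModuleCat.of B (B ⧸ m))).homology i)) :
    DRing.IsPerfect B K ∧ DRing.HasTorAmplitudeIn B a b K := by
  refine Fibre.perfect_of_amp hb hP (Fibre.amp_of_fibres hP fun m hm i hi => ?_) e
  letI : Field (B ⧸ m) := Ideal.Quotient.field m
  exact ⟨B ⧸ m, inferInstance, inferInstance, Ideal.Quotient.mk_surjective, Ideal.mk_ker,
    fibreExact_of_isZero (B ⧸ m) P i (h m hm i hi)⟩

end Groth.Agent.TwoTermLib.FibreAmp
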