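import Mathlib
import Groth.Agent.DTenLib.BaseChange
import Groth.Agent.DRingLib.LBaseChange

/-!
# Derived base change is left adjoint to restriction
-/

set_option autoImplicit false
set_option linter.style.haveILetI false

universe u

open CategoryTheory CategoryTheory.Limits HomologicalComplex

attribute [local instance] HasDerivedCategory.standard

open DTen DTenLib
open Groth.Agent.DerLib
open Groth.Agent.DRingLib (resP resψ quasiIso_resψ good_resP lBaseChangeObjIso lBaseChangeObjIso_natural)

namespace Groth.Agent.TwoTermLib.BCAdj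

variable {R A : Type u} [CommRing R] [CommRing A] (φ : R →+* A)

/-- `Q K ⟶ (Q (A ⊗ K))|_R`. -/
noncomputable def γ : (DerivedCategory.Q : DRing.Cx R ⥤ Dual.D R) ⟶
    (extCx φ ⋙ DerivedCategory.Q) ⋙ DRing.restrictD φ where
  app K := DerivedCategory.Q.map ((unitCx φ).app K) ≫ (resFactors φ).inv.app ((extCx φ).obj K)
  naturality K K' f := by
    have h1 := (unitCx φ).naturality f
    have h2 := (resFactors φ).inv.naturality ((extCx φ).map f)
    dsimp at h1 h2 ⊢
    rw [Category.assoc, ← h2, ← Category.assoc, ← Category.assoc, ← Functor.map_comp, ← Functor.map_comp, h1]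

theorem γ_naturality {K K' : DRing.Cx R} (s : K' ⟶ K) :
    DerivedCategory.Q.map s ≫ (γ φ).app K =
      (γ φ).app K' ≫ (DRing.restrictD φ).map (DerivedCategory.Q.map ((extCx φ).map s)) :=
  (γ φ).naturality s

theorem γ_comp {K : DRing.Cx R} {N : DRing.Cx A} (g : (extCx φ).obj K ⟶ N) :
    (γ φ).app K ≫ (DRing.restrictD φ).map (DerivedCategory.Q.map g) =
      DerivedCategory.Q.map ((unitCx φ).app K ≫ (resCx φ).map g) ≫ (resFactors φ).inv.app N := by
  show (DerivedCategory.Q.map _ ≫ _) ≫ _ = _
  rw [Functor.map_comp, Category.assoc, Category.assoc]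
  exact congrArg _ ((resFactors φ).inv.naturality g).symm

/-- The universal property of the termwise base change of a K-flat complex. -/
theorem bijective_γ {K : DRing.Cx R} (hK : KF K) (Y : Dual.D A) :
    Function.Bijective fun f : DerivedCategory.Q.obj ((extCx φ).obj K) ⟶ Y =>
      (γ φ).app K ≫ (DRing.restrictD φ).map f := by
  obtain ⟨N, hN, ⟨e⟩⟩ := KInjUse.exists_iso_Q_kInjective Y
  suffices h : Function.Bijective fun f : DerivedCategory.Q.obj ((extCx φ).obj K) ⟶ DerivedCategory.Q.obj N =>
      (γ φ).app K ≫ (DRing.restrictD φ).map f by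
    refine ⟨fun f f' hf => (cancel_mono e.hom).1 (h.1 ?_), fun ψ => ?_⟩
    · have h' := congrArg (· ≫ (DRing.restrictD φ).map e.hom) hf
      simpa only [Category.assoc, ← Functor.map_comp] using h'
    · obtain ⟨f, hf⟩ := h.2 (ψ ≫ (DRing.restrictD φ).map e.hom)
      refine ⟨f ≫ e.inv, ?_⟩
      simp only [Functor.map_comp] at hf ⊢
      rw [reassoc_of% hf, ← Functor.map_comp, e.hom_inv_id, CategoryTheory.Functor.map_id,
        Category.comp_id]
  constructor
  · intro f f' hf
    rw [← sub_eq_zero]
    obtain ⟨g, hg⟩ := KInjUse.Q_map_surjective ((extCx φ).obj K) N (f - f')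
    rw [← hg]
    have h0 : DerivedCategory.Q.map ((unitCx φ).app K ≫ (resCx φ).map g) = 0 := by
      rw [← cancel_mono ((resFactors φ).inv.app N), zero_comp, ← γ_comp, hg, Functor.map_sub,
        Preadditive.comp_sub]
      exact sub_eq_zero.2 hf
    obtain ⟨K', hK', s, hs, hnull⟩ := exists_kf_null h0
    have e1 : adjCx φ (s ≫ (unitCx φ).app K ≫ (resCx φ).map g) = (extCx φ).map s ≫ g := by
      rw [adjCx, Functor.map_comp, Category.assoc]
      exact congrArg _ (adjCx_unit φ g)
    have h2 := KInjUse.Q_map_zero_of_quotient (quotient_adjCx_eq_zero φ hnull)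
    rw [e1, Functor.map_comp] at h2
    have := isIso_Q_extCx_map φ hK' hK s
    rwa [← cancel_epi (DerivedCategory.Q.map ((extCx φ).map s)), comp_zero]
  · intro ψ
    obtain ⟨K', hK', s, hs, g, hsg⟩ := exists_kf_fraction (ψ ≫ (resFactors φ).hom.app N)
    have := isIso_Q_extCx_map φ hK' hK s
    refine ⟨inv (DerivedCategory.Q.map ((extCx φ).map s)) ≫ DerivedCategory.Q.map (adjCx φ g), ?_⟩
    show _ ≫ _ = ψ
    rw [← cancel_epi (DerivedCategory.Q.map s), ← Category.assoc, γ_naturality, Category.assoc,
      ← Functor.map_comp, IsIso.hom_inv_id_assoc, γ_comp, unit_adjCx, ← hsg, Category.assoc,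
      Category.assoc, Iso.hom_inv_id_app]
    exact congrArg _ (Category.comp_id ψ)

variable [DRing.HasLBaseChange φ]

/-- The unit, on complexes. -/
noncomputable def ηCx : (DerivedCategory.Q : DRing.Cx R ⥤ Dual.D R) ⟶
    DerivedCategory.Q ⋙ (DRing.LBaseChange φ ⋙ DRing.restrictD φ) where
  app K :=
    haveI := quasiIso_resψ K
    inv (DerivedCategory.Q.map ((resψ R).app K)) ≫ (γ φ).app ((resP R).obj K) ≫
      (DRing.restrictD φ).map ((lBaseChangeObjIso φ _ (good_resP K).1).inv ≫
        (DRing.LBaseChange φ).map (DerivedCategory.Q.map ((resψ R).app K)))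
  naturality K L f := by
    haveI := quasiIso_resψ K
    haveI := quasiIso_resψ L
    have e1 : DerivedCategory.Q.map ((resP R).map f) ≫ DerivedCategory.Q.map ((resψ R).app L) =
        DerivedCategory.Q.map ((resψ R).app K) ≫ DerivedCategory.Q.map f := by
      rw [← Functor.map_comp, ← Functor.map_comp]
      exact congrArg _ ((resψ R).naturality f)
    have e2 : DerivedCategory.Q.map f ≫ inv (DerivedCategory.Q.map ((resψ R).app L)) =
        inv (DerivedCategory.Q.map ((resψ R).app K)) ≫ DerivedCategory.Q.map ((resP R).map f) := by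
      rw [IsIso.comp_inv_eq, Category.assoc, e1, IsIso.inv_hom_id_assoc]
    have e3 := lBaseChangeObjIso_natural φ (good_resP K).1 (good_resP L).1 ((resP R).map f)
    have e4 : DerivedCategory.Q.map ((extCx φ).map ((resP R).map f)) ≫
        (lBaseChangeObjIso φ _ (good_resP L).1).inv =
        (lBaseChangeObjIso φ _ (good_resP K).1).inv ≫
          (DRing.LBaseChange φ).map (DerivedCategory.Q.map ((resP R).map f)) :=
      (CommSq.horiz_inv ⟨e3.symm⟩).w.symm
    show DerivedCategory.Q.map f ≫ inv _ ≫ (γ φ).app _ ≫ (DRing.restrictD φ).map _ =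
      (inv _ ≫ (γ φ).app _ ≫ (DRing.restrictD φ).map _) ≫
        (DRing.restrictD φ).map ((DRing.LBaseChange φ).map (DerivedCategory.Q.map f))
    rw [reassoc_of% e2, reassoc_of% (γ_naturality φ ((resP R).map f)), ← Functor.map_comp,
      reassoc_of% e4, ← Functor.map_comp, e1]
    simp only [Functor.map_comp, Category.assoc]

/-- The unit of the adjunction. -/
noncomputable def η : 𝟭 (Dual.D R) ⟶ DRing.LBaseChange φ ⋙ DRing.restrictD φ :=
  Localization.liftNatTrans DerivedCategory.Q
    (HomologicalComplex.quasiIso (ModuleCat.{u} R) (ComplexShape.up ℤ)) DerivedCategory.Q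
    (DerivedCategory.Q ⋙ (DRing.LBaseChange φ ⋙ DRing.restrictD φ)) _ _ (ηCx φ)

theorem η_app (K : DRing.Cx R) :
    (η φ).app (DerivedCategory.Q.obj K) = (ηCx φ).app K :=
  (Localization.liftNatTrans_app DerivedCategory.Q
    (HomologicalComplex.quasiIso (ModuleCat.{u} R) (ComplexShape.up ℤ)) DerivedCategory.Q
    (DerivedCategory.Q ⋙ (DRing.LBaseChange φ ⋙ DRing.restrictD φ)) _ _ (ηCx φ) K).trans
    ((Category.id_comp _).trans (Category.comp_id _))

theorem bijective_η (X : Dual.D R) (Y : Dual.D A) :
    Function.Bijective fun f : (DRing.LBaseChange φ).obj X ⟶ Y =>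
      (η φ).app X ≫ (DRing.restrictD φ).map f := by
  let K := DerivedCategory.Q.objPreimage X
  let e : DerivedCategory.Q.obj K ≅ X := DerivedCategory.Q.objObjPreimageIso X
  haveI := quasiIso_resψ K
  let t : DerivedCategory.Q.obj ((extCx φ).obj ((resP R).obj K)) ≅ (DRing.LBaseChange φ).obj X :=
    (lBaseChangeObjIso φ _ (good_resP K).1).symm ≪≫ (DRing.LBaseChange φ).mapIso
      (asIso (DerivedCategory.Q.map ((resψ R).app K)) ≪≫ e)
  have key : ∀ f : (DRing.LBaseChange φ).obj X ⟶ Y,
      DerivedCategory.Q.map ((resψ R).app K) ≫ e.hom ≫ (η φ).app X ≫ (DRing.restrictD φ).map f =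
        (γ φ).app ((resP R).obj K) ≫ (DRing.restrictD φ).map (t.hom ≫ f) := by
    intro f
    have hn : e.hom ≫ (η φ).app X = (η φ).app (DerivedCategory.Q.obj K) ≫
        (DRing.restrictD φ).map ((DRing.LBaseChange φ).map e.hom) := (η φ).naturality e.hom
    rw [reassoc_of% hn, η_app]
    show _ ≫ (inv _ ≫ (γ φ).app _ ≫ (DRing.restrictD φ).map _) ≫ _ ≫ _ = _
    simp [t]
  have hb := bijective_γ φ (good_resP K).1 Y
  constructor
  · intro f g h
    refine (cancel_epi t.hom).1 (hb.1 ?_)
    show (γ φ).app _ ≫ _ = (γ φ).app _ ≫ _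
    rw [← key, ← key]
    exact congrArg (fun w => DerivedCategory.Q.map ((resψ R).app K) ≫ e.hom ≫ w) h
  · intro w
    obtain ⟨g, hg⟩ := hb.2 (DerivedCategory.Q.map ((resψ R).app K) ≫ e.hom ≫ w)
    refine ⟨t.inv ≫ g, ?_⟩
    have h := key (t.inv ≫ g)
    rw [t.hom_inv_id_assoc] at h
    exact (cancel_epi e.hom).1 ((cancel_epi (DerivedCategory.Q.map ((resψ R).app K))).1 (h.trans hg))

/-- Derived base change is left adjoint to restriction. -/
noncomputable def adjunction : DRing.LBaseChange φ ⊣ DRing.restrictD φ :=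
  Adjunction.mkOfHomEquiv
    { homEquiv := fun X Y => Equiv.ofBijective _ (bijective_η φ X Y)
      homEquiv_naturality_left_symm := fun {X' X Y} f g => by
        refine (Equiv.symm_apply_eq _).2 ?_
        show f ≫ g = (η φ).app X' ≫ (DRing.restrictD φ).map
          ((DRing.LBaseChange φ).map f ≫ (Equiv.ofBijective _ (bijective_η φ X Y)).symm g)
        rw [Functor.map_comp]
        refine Eq.trans ?_ ((congrArg (· ≫ _) ((η φ).naturality f)).trans (Category.assoc _ _ _))
        exact ((congrArg (f ≫ ·) (Equiv.ofBijective_apply_symm_apply _ (bijective_η φ X Y) g)).symm.trans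
          (Category.assoc _ _ _).symm)
      homEquiv_naturality_right := fun {X Y Y'} f g => by
        show (η φ).app X ≫ (DRing.restrictD φ).map (f ≫ g) =
          ((η φ).app X ≫ (DRing.restrictD φ).map f) ≫ (DRing.restrictD φ).map g
        rw [Functor.map_comp, Category.assoc] }

end Groth.Agent.TwoTermLib.BCAdj
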