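import Groth.Agent.TwoTermLib.Ext

/-!
# Objects with cohomology in degrees `-1` and `0`
-/

set_option autoImplicit false
set_option linter.style.haveILetI false

universe u

open CategoryTheory CategoryTheory.Limits CategoryTheory.Pretriangulated

attribute [local instance] HasDerivedCategory.standard

namespace Groth.Agent.TwoTermLib

variable {R : Type u} [CommRing R]

/-- The hypothesis on the cohomology. -/
abbrev HT (K : Dual.D R) : Prop := ∀ i : ℤ, i ≠ -1 → i ≠ 0 → Subsingleton (Dual.HD R K i)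

theorem HT.isZero {K : Dual.D R} (hK : HT K) {i : ℤ} (h1 : i ≠ -1) (h0 : i ≠ 0) :
    IsZero ((DerivedCategory.homologyFunctor (ModuleCat.{u} R) i).obj K) :=
  @ModuleCat.isZero_of_subsingleton _ _ _ (hK i h1 h0)

theorem HT.isLE {K : Dual.D R} (hK : HT K) : DerivedCategory.IsLE K 0 :=
  (DerivedCategory.isLE_iff K 0).2 fun i hi => hK.isZero (by omega) (by omega)

theorem HT.isGE {K : Dual.D R} (hK : HT K) : DerivedCategory.IsGE K (-1) :=
  (DerivedCategory.isGE_iff K (-1)).2 fun i hi => hK.isZero (by omega) (by omega)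

/-- The canonical triangle `H^{-1}[1] → K → H^0 → `. -/
theorem exists_decomp {K : Dual.D R} (hK : HT K) :
    ∃ (M Q : ModuleCat.{u} R)
      (ι : (DerivedCategory.singleFunctor (ModuleCat.{u} R) (-1)).obj M ⟶ K)
      (π : K ⟶ (DerivedCategory.singleFunctor (ModuleCat.{u} R) 0).obj Q)
      (δ : (DerivedCategory.singleFunctor (ModuleCat.{u} R) 0).obj Q ⟶
        ((DerivedCategory.singleFunctor (ModuleCat.{u} R) (-1)).obj M)⟦(1 : ℤ)⟧),
      Triangle.mk ι π δ ∈ distTriang (Dual.D R) ∧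
      Nonempty (M ≅ (DerivedCategory.homologyFunctor (ModuleCat.{u} R) (-1)).obj K) ∧
      Nonempty (Q ≅ (DerivedCategory.homologyFunctor (ModuleCat.{u} R) 0).obj K) := by
  obtain ⟨A, Q, f, π, δ, hA, hT, hπ⟩ := exists_top K 0 hK.isLE
  have hB : ∀ i : ℤ, i ≠ 0 → IsZero ((DerivedCategory.homologyFunctor (ModuleCat.{u} R) i).obj
      ((DerivedCategory.singleFunctor (ModuleCat.{u} R) 0).obj Q)) := fun i hi =>
    PQLib.isZero_homology_single Q 0 i hi
  haveI : A.IsLE (-1) := hA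
  haveI : A.IsGE (-1) := (DerivedCategory.isGE_iff A (-1)).2 fun i hi =>
    (DerivedCategory.HomologySequence.exact₁ _ hT (i - 1) i (by omega)).isZero_X₂
      ((hB (i - 1) (by omega)).eq_of_src _ _)
      ((hK.isZero (show i ≠ -1 by omega) (by omega)).eq_of_tgt _ _)
  obtain ⟨M, ⟨e⟩⟩ := DerivedCategory.exists_iso_singleFunctor_obj_of_isGE_of_isLE A (-1)
  haveI : Mono ((DerivedCategory.homologyFunctor (ModuleCat.{u} R) (-1)).map f) :=
    (DerivedCategory.HomologySequence.mono_homologyMap_mor₁_iff _ hT (-2) (-1) (by norm_num)).2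
      ((hB (-2) (by norm_num)).eq_of_src _ _)
  haveI : Epi ((DerivedCategory.homologyFunctor (ModuleCat.{u} R) (-1)).map f) :=
    (DerivedCategory.HomologySequence.epi_homologyMap_mor₁_iff _ hT (-1)).2
      ((hB (-1) (by norm_num)).eq_of_tgt _ _)
  haveI : IsIso ((DerivedCategory.homologyFunctor (ModuleCat.{u} R) (-1)).map f) :=
    isIso_of_mono_of_epi _
  refine ⟨M, Q, e.inv ≫ f, π, δ ≫ e.hom⟦(1 : ℤ)⟧', ?_,
    ⟨(PQLib.homologySingleIso M (-1)).symm ≪≫
      (DerivedCategory.homologyFunctor (ModuleCat.{u} R) (-1)).mapIso e.symm ≪≫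
      asIso ((DerivedCategory.homologyFunctor (ModuleCat.{u} R) (-1)).map f)⟩,
    ⟨(PQLib.homologySingleIso Q 0).symm ≪≫
      (asIso ((DerivedCategory.homologyFunctor (ModuleCat.{u} R) 0).map π)).symm⟩⟩
  exact isomorphic_distinguished _ hT _
    (Triangle.isoMk _ _ e.symm (Iso.refl _) (Iso.refl _)
      (show (e.inv ≫ f) ≫ 𝟙 K = e.inv ≫ f from Category.comp_id _)
      (show π ≫ 𝟙 _ = 𝟙 K ≫ π by simp)
      (show (δ ≫ e.hom⟦(1 : ℤ)⟧') ≫ e.inv⟦(1 : ℤ)⟧' = 𝟙 _ ≫ δ by
        rw [Category.assoc, ← Functor.map_comp, e.hom_inv_id]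
        simp))

/-- Precomposition with an isomorphism does not change annihilation. -/
theorem smul_ext_iso {K K' : Dual.D R} (e : K ≅ K') (a : R) {Y : Dual.D R}
    (h : ∀ ξ : K ⟶ Y, a • ξ = 0) (ξ : K' ⟶ Y) : a • ξ = 0 :=
  (cancel_epi e.hom).1 (by rw [Linear.comp_smul, h, comp_zero])

theorem smul_comp_ι {K Y : Dual.D R} {M : ModuleCat.{u} R} (b : R) (hb : b • 𝟙 M = 0)
    (f : (DerivedCategory.singleFunctor (ModuleCat.{u} R) (-1)).obj M ⟶ K) (g : K ⟶ Y) :
    f ≫ (b • g) = 0 := by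
  have h : b • f = 0 := by
    rw [← Category.id_comp f, ← Linear.smul_comp, ← (DerivedCategory.singleFunctor _ _).map_id,
      ← Functor.map_smul, hb, Functor.map_zero, zero_comp]
  rw [Linear.comp_smul, ← Linear.smul_comp, h, zero_comp]

end Groth.Agent.TwoTermLib
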