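import Mathlib
import Groth.Agent.DRingLib.Basic

/-!
# Homotopy equivalent complexes are isomorphic after adding contractible complexes
-/

set_option autoImplicit false
set_option linter.style.haveILetI false

universe u

open CategoryTheory CategoryTheory.Limits HomologicalComplex
open CochainComplex CochainComplex.HomComplex

namespace Groth.Agent.TwoTermLib.Stab

variable {R : Type u} [CommRing R] {M N : CochainComplex (ModuleCat.{u} R) ℤ}

/-- If `α : M ⟶ N` is a homotopy equivalence then `M ⊞ Cone(α) ≅ N ⊞ Cone(𝟙 M)`. -/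
theorem nonempty_iso (e : HomotopyEquiv M N) :
    Nonempty (M ⊞ mappingCone e.hom ≅ N ⊞ mappingCone (𝟙 M)) := by
  let α := e.hom
  let β := e.inv
  let h : Cochain M M (-1) := Cochain.ofHomotopy e.homotopyHomInvId.symm
  have hh : δ (-1) 0 h = Cochain.ofHom (𝟙 M ≫ (𝟙 M - α ≫ β)) := by
    rw [δ_ofHomotopy, Category.id_comp, Cochain.ofHom_sub]
  let r' : mappingCone (𝟙 M) ⟶ M := mappingCone.desc (𝟙 M) h (𝟙 M - α ≫ β) hh
  let g : mappingCone (𝟙 M) ⟶ mappingCone α :=
    mappingCone.desc (𝟙 M) (mappingCone.inl α) (α ≫ mappingCone.inr α)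
      (by rw [mappingCone.δ_inl, Category.id_comp])
  let Θ : N ⊞ mappingCone (𝟙 M) ⟶ M ⊞ mappingCone α :=
    biprod.lift (biprod.desc β r') (biprod.desc (mappingCone.inr α) (-g))
  suffices ∀ n, IsIso (Θ.f n) by
    haveI := HomologicalComplex.Hom.isIso_of_components Θ
    exact ⟨(asIso Θ).symm⟩
  intro n
  let a : (M ⊞ mappingCone α).X n ⟶ M.X (n + 1) :=
    (biprod.snd : M ⊞ mappingCone α ⟶ _).f n ≫ (mappingCone.fst α).1.v n (n + 1) rfl
  let y : (M ⊞ mappingCone α).X n ⟶ N.X n :=
    (biprod.snd : M ⊞ mappingCone α ⟶ _).f n ≫ (mappingCone.snd α).v n n (add_zero n)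
  let x : (M ⊞ mappingCone α).X n ⟶ M.X n :=
    (biprod.fst : M ⊞ mappingCone α ⟶ _).f n - y ≫ β.f n + a ≫ h.v (n + 1) n (by omega)
  let Ψ : (M ⊞ mappingCone α).X n ⟶ (N ⊞ mappingCone (𝟙 M)).X n :=
    (y + x ≫ α.f n) ≫ (biprod.inl : N ⟶ N ⊞ mappingCone (𝟙 M)).f n +
      (-a ≫ (mappingCone.inl (𝟙 M)).v (n + 1) n (by omega) +
        x ≫ (mappingCone.inr (𝟙 M)).f n) ≫ (biprod.inr : _ ⟶ N ⊞ mappingCone (𝟙 M)).f n
  have hext : ∀ {K L : CochainComplex (ModuleCat.{u} R) ℤ} {Z : ModuleCat.{u} R}
      (f g : Z ⟶ (K ⊞ L).X n), f ≫ (biprod.fst : K ⊞ L ⟶ K).f n = g ≫ (biprod.fst : K ⊞ L ⟶ K).f n →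
      f ≫ (biprod.snd : K ⊞ L ⟶ L).f n = g ≫ (biprod.snd : K ⊞ L ⟶ L).f n → f = g := by
    intro K L Z f g h1 h2
    have ht : (biprod.fst : K ⊞ L ⟶ K).f n ≫ (biprod.inl : K ⟶ K ⊞ L).f n +
        (biprod.snd : K ⊞ L ⟶ L).f n ≫ (biprod.inr : L ⟶ K ⊞ L).f n = 𝟙 _ := by
      rw [← comp_f, ← comp_f, ← add_f_apply, biprod.total, id_f]
    rw [← Category.comp_id f, ← Category.comp_id g, ← ht, Preadditive.comp_add, Preadditive.comp_add,
      reassoc_of% h1, reassoc_of% h2]
  have hext' : ∀ {K L : CochainComplex (ModuleCat.{u} R) ℤ} {Z : ModuleCat.{u} R}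
      (f g : (K ⊞ L).X n ⟶ Z), (biprod.inl : K ⟶ K ⊞ L).f n ≫ f = (biprod.inl : K ⟶ K ⊞ L).f n ≫ g →
      (biprod.inr : L ⟶ K ⊞ L).f n ≫ f = (biprod.inr : L ⟶ K ⊞ L).f n ≫ g → f = g := by
    intro K L Z f g h1 h2
    have ht : (biprod.fst : K ⊞ L ⟶ K).f n ≫ (biprod.inl : K ⟶ K ⊞ L).f n +
        (biprod.snd : K ⊞ L ⟶ L).f n ≫ (biprod.inr : L ⟶ K ⊞ L).f n = 𝟙 _ := by
      rw [← comp_f, ← comp_f, ← add_f_apply, biprod.total, id_f]
    rw [← Category.id_comp f, ← Category.id_comp g, ← ht, Preadditive.add_comp, Preadditive.add_comp,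
      Category.assoc, Category.assoc, Category.assoc, Category.assoc, h1, h2]
  refine ⟨Ψ, ?_, ?_⟩
  · refine hext' _ _ ?_ ?_
    · simp [Θ, Ψ, x, y, a]
    · refine (mappingCone.ext_from_iff _ (n + 1) n rfl _ _).2 ⟨?_, ?_⟩ <;>
        simp [Θ, Ψ, x, y, a, r', g]
  · refine hext _ _ ?_ ?_
    · simp [Θ, Ψ, x, y, a, r']
      abel
    · refine (mappingCone.ext_to_iff _ n (n + 1) rfl _ _).2 ⟨?_, ?_⟩
      · simp [Θ, Ψ, x, y, a, g]
      · simp [Θ, Ψ, x, y, a, g]
        abel

section Local

open scoped TensorProduct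

variable (p : Ideal R) [p.IsPrime]

/-- `P` becomes free over `S` along `φ`. -/
def FreeOver {S : Type u} [CommRing S] (φ : R →+* S) (P : Type u) [AddCommGroup P] [Module R P] :
    Prop :=
  letI := φ.toAlgebra
  Module.Free S (S ⊗[R] P)

theorem freeOver_algebraMap {S : Type u} [CommRing S] [inst : Algebra R S] (P : Type u)
    [AddCommGroup P] [Module R P] (h : Module.Free S (S ⊗[R] P)) :
    FreeOver (algebraMap R S) P := by
  have e : (algebraMap R S).toAlgebra = inst := Algebra.algebra_ext _ _ fun _ => rfl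
  exact cast (congrArg (fun a : Algebra R S => (letI := a; Module.Free S (S ⊗[R] P))) e).symm h

theorem exists_free_away (P : Type u) [AddCommGroup P] [Module R P] [Module.Finite R P]
    [Module.Projective R P] : ∃ f : R, f ∉ p ∧
      Module.Free (Localization.Away f) (Localization.Away f ⊗[R] P) := by
  haveI : Module.FinitePresentation R P := Module.finitePresentation_of_projective R P
  haveI : Module.Free (Localization.AtPrime p) (LocalizedModule p.primeCompl P) :=
    Module.free_of_flat_of_isLocalRing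
  obtain ⟨f, hf, hf', -⟩ := Module.FinitePresentation.exists_free_localizedModule_powers
    p.primeCompl (LocalizedModule.mkLinearMap p.primeCompl P) (Localization.AtPrime p)
  exact ⟨f, hf, Module.Free.of_equiv (LocalizedModule.equivTensorProduct (Submonoid.powers f) P)⟩

theorem free_away_mul (P : Type u) [AddCommGroup P] [Module R P] (f g : R)
    (h : Module.Free (Localization.Away f) (Localization.Away f ⊗[R] P)) :
    Module.Free (Localization.Away (f * g)) (Localization.Away (f * g) ⊗[R] P) := by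
  let φ := IsLocalization.Away.awayToAwayRight (S := Localization.Away f) (P := Localization.Away (f * g)) f g
  letI := φ.toAlgebra
  haveI : IsScalarTower R (Localization.Away f) (Localization.Away (f * g)) :=
    IsScalarTower.of_algebraMap_eq fun r =>
      (IsLocalization.Away.awayToAwayRight_eq (S := Localization.Away f)
        (P := Localization.Away (f * g)) f g r).symm
  exact Module.Free.of_equiv (TensorProduct.AlgebraTensorModule.cancelBaseChange R
    (Localization.Away f) (Localization.Away (f * g)) (Localization.Away (f * g)) P)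

theorem exists_free_away_finset {ι : Type} (s : Finset ι) (P : ι → ModuleCat.{u} R)
    (hP : ∀ i, Module.Finite R (P i) ∧ Module.Projective R (P i)) :
    ∃ f : R, f ∉ p ∧ ∀ i ∈ s,
      Module.Free (Localization.Away f) (Localization.Away f ⊗[R] P i) := by
  classical
  induction s using Finset.induction_on with
  | empty => exact ⟨1, fun h => Ideal.IsPrime.ne_top' ((Ideal.eq_top_iff_one p).2 h), by simp⟩
  | @insert i s hi ih =>
    obtain ⟨f, hf, hf'⟩ := ih
    haveI := (hP i).1
    haveI := (hP i).2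
    obtain ⟨g, hg, hg'⟩ := exists_free_away p (P i)
    refine ⟨f * g, fun h => (Ideal.IsPrime.mem_or_mem ‹p.IsPrime› h).elim hf hg, fun j hj => ?_⟩
    rcases Finset.mem_insert.1 hj with rfl | hj
    · rw [mul_comm]
      exact free_away_mul _ g f hg'
    · exact free_away_mul _ f g (hf' j hj)

variable (X : CochainComplex (ModuleCat.{u} R) ℤ)

/-- The boundaries of `X`. -/
noncomputable abbrev bd (i : ℤ) : ModuleCat.{u} R :=
  ModuleCat.of R (LinearMap.range (X.d i (i + 1)).hom)

/-- The projection onto the boundaries of a contractible complex. -/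
theorem exists_retraction (H : Homotopy (𝟙 X) 0) (i : ℤ) :
    ∃ r : X.X (i + 1) →ₗ[R] bd X i,
      r ∘ₗ (LinearMap.range (X.d i (i + 1)).hom).subtype = LinearMap.id := by
  refine ⟨(X.d i (i + 1)).hom.rangeRestrict ∘ₗ (H.hom (i + 1) i).hom,
    LinearMap.ext fun ⟨w, x, hx⟩ => Subtype.ext ?_⟩
  show (X.d i (i + 1)).hom ((H.hom (i + 1) i).hom w) = w
  have h := congr($(H.comm (i + 1)).hom w)
  rw [dNext_eq _ (show (ComplexShape.up ℤ).Rel (i + 1) (i + 2) by simp; omega),
    prevD_eq _ (show (ComplexShape.up ℤ).Rel i (i + 1) from rfl), zero_f, add_zero, id_f] at h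
  have hz : (X.d (i + 1) (i + 2)).hom w = 0 := by
    rw [← hx, ← LinearMap.comp_apply, ← ModuleCat.hom_comp, X.d_comp_d]
    rfl
  have h' : w = (H.hom (i + 2) (i + 1)).hom ((X.d (i + 1) (i + 2)).hom w) +
      (X.d i (i + 1)).hom ((H.hom (i + 1) i).hom w) := h
  rw [hz, map_zero, zero_add] at h'
  exact h'.symm

theorem finite_projective_bd (H : Homotopy (𝟙 X) 0)
    (hX : ∀ i, Module.Finite R (X.X i) ∧ Module.Projective R (X.X i)) (i : ℤ) :
    Module.Finite R (bd X i) ∧ Module.Projective R (bd X i) := by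
  haveI := (hX i).1
  haveI := (hX (i + 1)).2
  obtain ⟨r, hr⟩ := exists_retraction X H i
  exact ⟨Module.Finite.range _, Module.Projective.of_split _ r hr⟩

/-- The boundaries after base change. -/
theorem free_range_extCx {S : Type u} [CommRing S] (φ : R →+* S) (H : Homotopy (𝟙 X) 0) (i : ℤ)
    (h : FreeOver φ (bd X i)) :
    Module.Free S (LinearMap.range (((DRingLib.extCx φ).obj X).d i (i + 1)).hom) := by
  letI := φ.toAlgebra
  have h' : Module.Free S (S ⊗[R] bd X i) := h
  obtain ⟨r, hr⟩ := exists_retraction X H i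
  let ι : bd X i →ₗ[R] X.X (i + 1) := (LinearMap.range (X.d i (i + 1)).hom).subtype
  let π : X.X i →ₗ[R] bd X i := (X.d i (i + 1)).hom.rangeRestrict
  have hι : Function.Injective (ι.baseChange S) := Function.LeftInverse.injective (g := r.baseChange S)
    fun v => by rw [← LinearMap.comp_apply, ← LinearMap.baseChange_comp, hr, LinearMap.baseChange_id]; rfl
  have hπ : LinearMap.range (π.baseChange S) = ⊤ :=
    LinearMap.range_eq_top.2 (LinearMap.lTensor_surjective S (X.d i (i + 1)).hom.surjective_rangeRestrict)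
  have he : LinearMap.range ((X.d i (i + 1)).hom.baseChange S) = LinearMap.range (ι.baseChange S) := by
    have e : (ι ∘ₗ π).baseChange S = ι.baseChange S ∘ₗ π.baseChange S := LinearMap.baseChange_comp _ _
    exact (congrArg LinearMap.range e).trans (by rw [LinearMap.range_comp, hπ, Submodule.map_top])
  exact Module.Free.of_equiv ((LinearEquiv.ofInjective _ hι).trans (LinearEquiv.ofEq _ _ he.symm))

theorem free_X_extCx {S : Type u} [CommRing S] (φ : R →+* S) (i : ℤ) (h : FreeOver φ (X.X i)) :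
    Module.Free S (((DRingLib.extCx φ).obj X).X i) := h

/-- Localizing a bounded contractible complex of finite projectives to one of frees. -/
theorem free_data {a b : ℤ} (hb : ∀ i, i < a ∨ b < i → IsZero (X.X i))
    (hX : ∀ i, Module.Finite R (X.X i) ∧ Module.Projective R (X.X i)) (H : Homotopy (𝟙 X) 0)
    (f : R) (hf : ∀ i ∈ Finset.Icc a b,
      Module.Free (Localization.Away f) (Localization.Away f ⊗[R] X.X i) ∧
      Module.Free (Localization.Away f) (Localization.Away f ⊗[R] bd X i)) :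
    let P := (DRingLib.extCx (algebraMap R (Localization.Away f))).obj X
    (∃ a' b' : ℤ, ∀ i, i < a' ∨ b' < i → IsZero (P.X i)) ∧
      (∀ i, Module.Finite (Localization.Away f) (P.X i) ∧ Module.Free (Localization.Away f) (P.X i)) ∧
      (∀ i, Module.Free (Localization.Away f) (LinearMap.range (P.d i (i + 1)).hom)) ∧
      Nonempty (Homotopy (𝟙 P) 0) := by
  intro P
  have hz : ∀ i, i < a ∨ b < i → IsZero (P.X i) := fun i hi =>
    (ModuleCat.extendScalars.{u, u, u} _).map_isZero (hb i hi)
  refine ⟨⟨a, b, hz⟩, fun i => ⟨DRingLib.finite_extCx _ i (hX i).1, ?_⟩, fun i => ?_, ⟨?_⟩⟩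
  · by_cases hi : i ∈ Finset.Icc a b
    · exact free_X_extCx X _ i (freeOver_algebraMap _ (hf i hi).1)
    · haveI := ModuleCat.subsingleton_of_isZero (hz i (by rw [Finset.mem_Icc] at hi; omega))
      infer_instance
  · by_cases hi : i ∈ Finset.Icc a b
    · exact free_range_extCx X _ H i (freeOver_algebraMap _ (hf i hi).2)
    · haveI := ModuleCat.subsingleton_of_isZero (hz i (by rw [Finset.mem_Icc] at hi; omega))
      haveI : Subsingleton (LinearMap.range (P.d i (i + 1)).hom) :=
        ⟨fun ⟨v, x, hx⟩ ⟨w, y, hy⟩ => Subtype.ext (hx.symm.trans ((congrArg _ (Subsingleton.elim x y)).trans hy))⟩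
      infer_instance
  · exact (Homotopy.ofEq ((DRingLib.extCx (algebraMap R (Localization.Away f))).map_id X).symm).trans
      (((ModuleCat.extendScalars.{u, u, u} _).mapHomotopy H).trans
        (Homotopy.ofEq ((DRingLib.extCx _).map_zero X X)))

end Local

end Groth.Agent.TwoTermLib.Stab
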