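import Mathlib
import Groth.Agent.TwoTermLib.Nil
import Groth.Agent.DRingLib.Amplitude

/-!
# Exactness of `P ⊗ N` from `N_f` and from modules killed by `f`
-/

set_option autoImplicit false
set_option linter.style.haveILetI false

universe u

open TensorProduct

namespace Groth.Agent.TwoTermLib.AwayQuot

variable {R : Type u} [CommRing R]

theorem isLocalizedModule_lTensor (S : Submonoid R) {N N' : Type u} [AddCommGroup N] [Module R N]
    [AddCommGroup N'] [Module R N'] (g : N →ₗ[R] N') [IsLocalizedModule S g] (P : Type u)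
    [AddCommGroup P] [Module R P] : IsLocalizedModule S (g.lTensor P) := by
  have h : IsLocalizedModule S (g.rTensor P) := IsLocalizedModule.rTensor (R := R) (N := P) R S g
  have h1 := IsLocalizedModule.of_linearEquiv S (g.rTensor P) (TensorProduct.comm R N' P)
  have h2 := IsLocalizedModule.of_linearEquiv_right S
    ((TensorProduct.comm R N' P).toLinearMap ∘ₗ g.rTensor P) (TensorProduct.comm R P N)
  have e : ((TensorProduct.comm R N' P).toLinearMap ∘ₗ g.rTensor P) ∘ₗ
      (TensorProduct.comm R P N).toLinearMap = g.lTensor P := TensorProduct.ext' fun p n => rfl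
  rwa [← e]

variable {P₀ P₁ P₂ P₃ : Type u} [AddCommGroup P₀] [Module R P₀] [AddCommGroup P₁] [Module R P₁]
  [AddCommGroup P₂] [Module R P₂] [AddCommGroup P₃] [Module R P₃]
  {d₀ : P₀ →ₗ[R] P₁} {d₁ : P₁ →ₗ[R] P₂} {d₂ : P₂ →ₗ[R] P₃}

theorem comm' {N N' : Type u} [AddCommGroup N] [Module R N] [AddCommGroup N'] [Module R N']
    {P Q : Type u} [AddCommGroup P] [Module R P] [AddCommGroup Q] [Module R Q] (d : P →ₗ[R] Q)
    (g : N →ₗ[R] N') (x : P ⊗[R] N) : d.rTensor N' (g.lTensor P x) = g.lTensor Q (d.rTensor N x) := by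
  rw [← LinearMap.comp_apply, LinearMap.rTensor_comp_lTensor, ← LinearMap.lTensor_comp_rTensor]
  rfl

theorem exact_of_away_of_quot [Module.Flat R P₂] [Module.Flat R P₃]
    (h01 : d₁ ∘ₗ d₀ = 0) (h12 : d₂ ∘ₗ d₁ = 0) (f : R) (N : Type u) [AddCommGroup N] [Module R N]
    (hl : Function.Exact (d₁.rTensor (LocalizedModule (Submonoid.powers f) N))
      (d₂.rTensor (LocalizedModule (Submonoid.powers f) N)))
    (hq : ∀ (M : Type u) [AddCommGroup M] [Module R M], (∀ x : M, f • x = 0) →
      Function.Exact (d₀.rTensor M) (d₁.rTensor M) ∧ Function.Exact (d₁.rTensor M) (d₂.rTensor M)) :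
    Function.Exact (d₁.rTensor N) (d₂.rTensor N) := by
  have hz : ∀ y : P₁ ⊗[R] N, d₂.rTensor N (d₁.rTensor N y) = 0 := fun y => by
    rw [← LinearMap.rTensor_comp_apply, h12, LinearMap.rTensor_zero, LinearMap.zero_apply]
  intro x
  refine ⟨fun hx => ?_, fun ⟨y, hy⟩ => hy ▸ hz y⟩
  -- `f • x` a boundary implies `x` a boundary
  let φ : N →ₗ[R] N := LinearMap.lsmul R N f
  let π : N →ₗ[R] LinearMap.range φ := φ.rangeRestrict
  let ι : LinearMap.range φ →ₗ[R] N := (LinearMap.range φ).subtype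
  let q : N →ₗ[R] N ⧸ LinearMap.range φ := (LinearMap.range φ).mkQ
  let j : LinearMap.ker φ →ₗ[R] N := (LinearMap.ker φ).subtype
  have key : ∀ z : P₂ ⊗[R] N, d₂.rTensor N z = 0 → f • z ∈ LinearMap.range (d₁.rTensor N) →
      z ∈ LinearMap.range (d₁.rTensor N) := by
    rintro z hz' ⟨y, hy⟩
    have hι : ∀ (P : Type u) [AddCommGroup P] [Module R P] [Module.Flat R P],
        Function.Injective (ι.lTensor P) := fun P _ _ _ =>
      Module.Flat.lTensor_preserves_injective_linearMap ι (Submodule.injective_subtype _)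
    have hιπ : ∀ (P : Type u) [AddCommGroup P] [Module R P] (w : P ⊗[R] N),
        ι.lTensor P (π.lTensor P w) = f • w := fun P _ _ w => by
      rw [← LinearMap.lTensor_comp_apply]
      induction w using TensorProduct.induction_on with
      | zero => simp
      | tmul p n => exact TensorProduct.tmul_smul f p n
      | add a b ha hb => rw [map_add, ha, hb, smul_add]
    have hq1 : d₁.rTensor _ (q.lTensor P₁ y) = 0 := by
      rw [comm', hy, ← hιπ, ← LinearMap.lTensor_comp_apply,
        show q ∘ₗ ι = 0 from LinearMap.ext fun a => (Submodule.Quotient.mk_eq_zero _).2 a.2,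
        LinearMap.lTensor_zero, LinearMap.zero_apply]
    obtain ⟨w', hw'⟩ := ((hq _ (fun m => by
      obtain ⟨n, rfl⟩ := Submodule.mkQ_surjective (LinearMap.range φ) m
      rw [← map_smul]
      exact (Submodule.Quotient.mk_eq_zero _).2 ⟨n, rfl⟩)).1 _).1 hq1
    obtain ⟨w, rfl⟩ := LinearMap.lTensor_surjective P₀ (Submodule.mkQ_surjective _) w'
    obtain ⟨y₁, hy₁⟩ : y - d₀.rTensor N w ∈ Set.range (ι.lTensor P₁) := by
      refine (lTensor_exact P₁ (LinearMap.exact_subtype_mkQ (LinearMap.range φ))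
        (Submodule.mkQ_surjective _) _).1 ?_
      rw [map_sub, ← hw', comm', sub_self]
    have hy₁' : d₁.rTensor _ y₁ = π.lTensor P₂ z := by
      refine hι P₂ ?_
      rw [← comm', hy₁, hιπ, map_sub, ← LinearMap.rTensor_comp_apply, h01, LinearMap.rTensor_zero,
        LinearMap.zero_apply, sub_zero, hy]
    obtain ⟨y₂, rfl⟩ := LinearMap.lTensor_surjective P₁ φ.surjective_rangeRestrict y₁
    obtain ⟨x₁, hx₁⟩ : z - d₁.rTensor N y₂ ∈ Set.range (j.lTensor P₂) := by
      refine (lTensor_exact P₂ (f := j) (g := π) ?_ φ.surjective_rangeRestrict _).1 ?_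
      · rw [LinearMap.exact_iff, LinearMap.ker_rangeRestrict, Submodule.range_subtype]
      · rw [map_sub, ← hy₁', comm', sub_self]
    have hd : d₂.rTensor _ x₁ = 0 := by
      refine Module.Flat.lTensor_preserves_injective_linearMap (M := P₃) j
        (Submodule.injective_subtype _) ?_
      rw [← comm', hx₁, map_sub, hz', hz, sub_self, map_zero]
    obtain ⟨v, hv⟩ := ((hq _ (fun m => Subtype.ext m.2)).2 _).1 hd
    exact ⟨y₂ + j.lTensor P₁ v, by rw [map_add, comm', hv, hx₁, add_sub_cancel]⟩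
  -- some `f ^ k • x` is a boundary
  let g := LocalizedModule.mkLinearMap (Submonoid.powers f) N
  haveI h1 := isLocalizedModule_lTensor (Submonoid.powers f) g P₁
  haveI h2 := isLocalizedModule_lTensor (Submonoid.powers f) g P₂
  obtain ⟨y', hy'⟩ := (hl (g.lTensor P₂ x)).1 (by rw [comm', hx, map_zero])
  obtain ⟨⟨y, ⟨_, k, rfl⟩⟩, hk⟩ := IsLocalizedModule.surj (Submonoid.powers f) (g.lTensor P₁) y'
  have hk' : f ^ k • y' = g.lTensor P₁ y := hk
  obtain ⟨⟨_, l, rfl⟩, hl'⟩ := (IsLocalizedModule.eq_iff_exists (Submonoid.powers f)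
    (g.lTensor P₂)).1 (show g.lTensor P₂ (f ^ k • x) = g.lTensor P₂ (d₁.rTensor N y) by
      rw [← comm', ← hk', map_smul, map_smul, hy'])
  have hl'' : f ^ l • f ^ k • x = f ^ l • d₁.rTensor N y := hl'
  have : ∀ n : ℕ, f ^ n • x ∈ LinearMap.range (d₁.rTensor N) →
      x ∈ LinearMap.range (d₁.rTensor N) := fun n => by
    induction n with
    | zero => simp
    | succ n ih =>
      intro h
      refine ih (key _ (by rw [map_smul, hx, smul_zero]) ?_)
      rwa [smul_smul, ← pow_succ']
  refine this (l + k) ⟨f ^ l • y, ?_⟩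
  rw [map_smul, ← hl'', smul_smul, pow_add]

end Groth.Agent.TwoTermLib.AwayQuot
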