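import Mathlib
import Groth.Agent.KFlatLib.AlgMore
import Groth.Agent.TwoTermLib.Nil

/-!
# K-flatness from acyclicity after tensoring with finitely presented modules
-/

set_option autoImplicit false
set_option linter.style.haveILetI false

universe u

open CategoryTheory CategoryTheory.Limits MonoidalCategory HomologicalComplex
open KFlatLib (tT ιT proj fil ιT_d ιT_proj ιT_proj_ne proj_eq_zero d_mem_fil mem_fil fil_le_iff
  exists_mem_fil isZero_homology_iff_exists Acyclic' tMap ιT_tMap tMap_proj exists_sum_proj)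

namespace Groth.Agent.TwoTermLib.FPKFlat

variable {R : Type u} [CommRing R] {L K : CochainComplex (ModuleCat.{u} R) ℤ}

theorem exists_boundary_of_exact
    (hex : ∀ (M : ModuleCat.{u} R) (i j k : ℤ), i + 1 = j → j + 1 = k →
      Function.Exact ((L.d i j).hom.rTensor M) ((L.d j k).hom.rTensor M))
    (b : ℤ) (hb : ∀ i, b < i → IsZero (K.X i)) (n : ℤ) (k : ℕ) :
    ∀ (m : ℤ), b + 1 - m ≤ k → ∀ z ∈ fil L K n m, ((tT L K).d n (n + 1)).hom z = 0 →
      ∃ y, ((tT L K).d (n - 1) n).hom y = z := by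
  induction k with
  | zero =>
    intro m hm z hz _
    refine ⟨0, ?_⟩
    rw [map_zero]
    refine ((Submodule.mem_bot R).mp ((fil_le_iff (S := ⊥)).mpr (fun p q h hq a => ?_) hz)).symm
    have hbq : b < q := by omega
    have : IsZero (L.X p ⊗ K.X q) := ((tensorLeft (L.X p)).map_isZero (hb q hbq))
    rw [this.eq_of_src (ιT L K p q n h) 0]
    exact Submodule.zero_mem _
  | succ k ih =>
    intro m hm z hz hdz
    have hp : (n - m) + m = n := by omega
    have hle : fil L K n m ≤ LinearMap.range (ιT L K (n - m) m n hp).hom ⊔ fil L K n (m + 1) := by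
      refine fil_le_iff.mpr fun p q h hq a => ?_
      rcases hq.lt_or_eq with h' | h'
      · exact Submodule.mem_sup_right (mem_fil h (by omega) a)
      · subst h'
        obtain rfl : p = n - m := by omega
        exact Submodule.mem_sup_left ⟨a, rfl⟩
    obtain ⟨_, ⟨a, rfl⟩, w, hw, rfl⟩ := Submodule.mem_sup.mp (hle hz)
    have hp' : (n - m + 1) + m = n + 1 := by omega
    have hkey : (L.d (n - m) (n - m + 1) ▷ K.X m).hom a = 0 := by
      have := congr_arg (proj (L := L) (K := K) (n - m + 1) m (n + 1) hp').hom hdz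
      rw [map_zero, map_add, map_add,
        proj_eq_zero hp' (by omega) (d_mem_fil rfl hw), add_zero] at this
      change ((ιT L K (n - m) m n hp ≫ (tT L K).d n (n + 1)) ≫ proj _ _ _ hp').hom a = 0 at this
      rw [ιT_d L K (n - m) m n (n + 1) hp rfl, Preadditive.add_comp, Linear.units_smul_comp,
        Category.assoc, Category.assoc, ιT_proj, Category.comp_id,
        ιT_proj_ne hp' _ (by omega : m + 1 ≠ m), comp_zero, smul_zero, add_zero] at this
      exact this
    obtain ⟨y, hy⟩ := (hex (K.X m) (n - m - 1) (n - m) (n - m + 1) (by omega) rfl a).mp hkey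
    have hy' : (L.d (n - m - 1) (n - m) ▷ K.X m).hom y = a := hy
    have hpy : (n - m - 1) + m = n - 1 := by omega
    let w' := w - (n - m - 1).negOnePow •
      (ιT L K (n - m - 1) (m + 1) n (by omega)).hom ((L.X (n - m - 1) ◁ K.d m (m + 1)).hom y)
    have hdy : ((tT L K).d (n - 1) n).hom ((ιT L K _ m _ hpy).hom y) + w' =
        (ιT L K (n - m) m n hp).hom a + w := by
      change (ιT L K _ m _ hpy ≫ (tT L K).d (n - 1) n).hom y + w' = _
      rw [ιT_d L K (n - m - 1) m (n - 1) n hpy (by omega)]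
      simp only [w', Units.smul_def, ModuleCat.hom_add, ModuleCat.hom_smul, LinearMap.add_apply,
        LinearMap.smul_apply, ModuleCat.hom_comp, LinearMap.comp_apply]
      have e : (ιT L K (n - m - 1 + 1) m n (by omega)).hom
          ((L.d (n - m - 1) (n - m - 1 + 1) ▷ K.X m).hom y) = (ιT L K (n - m) m n hp).hom a := by
        have gen : ∀ (p' : ℤ) (_ : p' = n - m) (h : p' + m = n),
            (ιT L K p' m n h).hom ((L.d (n - m - 1) p' ▷ K.X m).hom y) =
              (ιT L K (n - m) m n hp).hom a := by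
          rintro p' rfl h
          rw [hy']
        exact gen _ (by omega) _
      rw [e]
      abel
    have hw' : w' ∈ fil L K n (m + 1) :=
      sub_mem hw (zsmul_mem (mem_fil _ le_rfl _) _)
    obtain ⟨y', hy''⟩ := ih (m + 1) (by omega) w' hw' (by
      have := congr_arg ((tT L K).d n (n + 1)).hom hdy
      rw [map_add, hdz] at this
      have h0 : ((tT L K).d n (n + 1)).hom (((tT L K).d (n - 1) n).hom
          ((ιT L K _ m _ hpy).hom y)) = 0 :=
        congr($((tT L K).d_comp_d (n - 1) n (n + 1)).hom _)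
      rwa [h0, zero_add] at this)
    exact ⟨(ιT L K _ m _ hpy).hom y + y', by rw [map_add, hy'', hdy]⟩


set_option backward.isDefEq.respectTransparency false in
theorem exact_rTensor_of_fp {A B C : Type u} [AddCommGroup A] [Module R A] [AddCommGroup B]
    [Module R B] [AddCommGroup C] [Module R C] (f : A →ₗ[R] B) (g : B →ₗ[R] C) (hgf : g ∘ₗ f = 0)
    (h : ∀ (M : Type u) [AddCommGroup M] [Module R M], Module.FinitePresentation R M →
      Function.Exact (f.rTensor M) (g.rTensor M))
    (M : Type u) [AddCommGroup M] [Module R M] : Function.Exact (f.rTensor M) (g.rTensor M) := by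
  classical
  intro z
  refine ⟨fun hz => ?_, ?_⟩
  swap
  · rintro ⟨y, rfl⟩
    rw [← LinearMap.comp_apply, ← LinearMap.rTensor_comp, hgf, LinearMap.rTensor_zero]
    rfl
  let π : (M →₀ R) →ₗ[R] M := Finsupp.linearCombination R id
  have hπ : Function.Surjective π := fun x => ⟨Finsupp.single x 1, by simp [π]⟩
  let N := LinearMap.ker π
  have hN : Function.Exact N.subtype π := LinearMap.exact_subtype_ker_map π
  obtain ⟨t, rfl⟩ := LinearMap.lTensor_surjective B hπ z
  have h0 : π.lTensor C (g.rTensor (M →₀ R) t) = 0 := by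
    rw [← hz, ← LinearMap.comp_apply, LinearMap.lTensor_comp_rTensor,
      ← LinearMap.rTensor_comp_lTensor, LinearMap.comp_apply]
  obtain ⟨w, hw⟩ := ((@lTensor_exact R N (M →₀ R) M _ _ _ _ _ _ _ N.subtype π C _ _ hN hπ) _).mp h0
  obtain ⟨N₀, hN₀, hwN⟩ := TensorProduct.exists_finite_submodule_right_of_setFinite
    ({w} : Set (TensorProduct R C N)) (Set.finite_singleton w)
  obtain ⟨w₀, hw₀⟩ := hwN rfl
  obtain ⟨S₁, hS₁, htS⟩ := TensorProduct.exists_finite_submodule_right_of_setFinite
    ({t} : Set (TensorProduct R B (M →₀ R))) (Set.finite_singleton t)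
  obtain ⟨t₀, ht₀⟩ := htS rfl
  let V : Submodule R (M →₀ R) := S₁ ⊔ N₀.map N.subtype
  obtain ⟨T, hT⟩ : V.FG := Submodule.FG.sup (Module.Finite.iff_fg.mp hS₁)
    (Submodule.FG.map _ (Module.Finite.iff_fg.mp hN₀))
  let s : Finset M := T.biUnion fun v => v.support
  have hs : ∀ v ∈ V, v ∈ Finsupp.supported R R (s : Set M) := by
    rw [← hT]
    refine fun v hv => Submodule.span_le.mpr (fun x hx => ?_) hv
    rw [SetLike.mem_coe, Finsupp.mem_supported]
    exact Finset.coe_subset.mpr (Finset.subset_biUnion_of_mem (fun v => v.support) hx)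
  let r : (M →₀ R) →ₗ[R] ((s : Set M) →₀ R) :=
    Finsupp.lcomapDomain Subtype.val Subtype.val_injective
  let ι : ((s : Set M) →₀ R) →ₗ[R] (M →₀ R) := Finsupp.lmapDomain R R Subtype.val
  have hιr : ∀ v ∈ V, ι (r v) = v := fun v hv => by
    have := hs v hv
    rw [Finsupp.mem_supported] at this
    exact Finsupp.mapDomain_comapDomain _ Subtype.val_injective v (by simpa using this)
  let N₁ : Submodule R ((s : Set M) →₀ R) := (N₀.map N.subtype).map r
  have hN₁ : N₁.FG := Submodule.FG.map _ (Submodule.FG.map _ (Module.Finite.iff_fg.mp hN₀))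
  let M' := ((s : Set M) →₀ R) ⧸ N₁
  have hM' : Module.FinitePresentation R M' :=
    Module.finitePresentation_of_surjective N₁.mkQ N₁.mkQ_surjective (by rwa [Submodule.ker_mkQ])
  let gb : M' →ₗ[R] M := N₁.liftQ (π ∘ₗ ι) (by
    rintro _ ⟨x, hx, rfl⟩
    obtain ⟨n, hn, rfl⟩ := hx
    simp only [LinearMap.mem_ker, LinearMap.comp_apply]
    rw [hιr _ (Submodule.mem_sup_right ⟨n, hn, rfl⟩)]
    exact n.2)
  let z' : TensorProduct R B M' := (N₁.mkQ ∘ₗ r).lTensor B t
  have hz' : g.rTensor M' z' = 0 := by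
    rw [← LinearMap.comp_apply, LinearMap.rTensor_comp_lTensor, ← LinearMap.lTensor_comp_rTensor,
      LinearMap.comp_apply, ← hw, ← hw₀, ← LinearMap.comp_apply, ← LinearMap.lTensor_comp,
      ← LinearMap.comp_apply, ← LinearMap.lTensor_comp]
    have : ((N₁.mkQ ∘ₗ r) ∘ₗ N.subtype) ∘ₗ N₀.subtype = 0 := LinearMap.ext fun x =>
      (Submodule.Quotient.mk_eq_zero N₁).mpr ⟨(x.1 : M →₀ R), ⟨x.1, x.2, rfl⟩, rfl⟩
    rw [this, LinearMap.lTensor_zero, LinearMap.zero_apply]
  obtain ⟨y, hy⟩ := (h M' hM' z').mp hz'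
  refine ⟨gb.lTensor A y, ?_⟩
  rw [← LinearMap.comp_apply, LinearMap.rTensor_comp_lTensor, ← LinearMap.lTensor_comp_rTensor,
    LinearMap.comp_apply, hy, ← ht₀]
  change gb.lTensor B ((N₁.mkQ ∘ₗ r).lTensor B t) = π.lTensor B (S₁.subtype.lTensor B t₀)
  rw [← ht₀, ← LinearMap.comp_apply, ← LinearMap.lTensor_comp, ← LinearMap.comp_apply,
    ← LinearMap.lTensor_comp, ← LinearMap.comp_apply, ← LinearMap.lTensor_comp]
  congr 2
  refine LinearMap.ext fun x => ?_
  exact congrArg π (hιr _ (Submodule.mem_sup_left x.2))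

/-- The tensor product with a bounded above complex is acyclic. -/
theorem acyclic_of_bounded
    (hex : ∀ (M : ModuleCat.{u} R) (i j k : ℤ), i + 1 = j → j + 1 = k →
      Function.Exact ((L.d i j).hom.rTensor M) ((L.d j k).hom.rTensor M))
    (b : ℤ) (hb : ∀ i, b < i → IsZero (K.X i)) : Acyclic' (tT L K) := by
  intro i
  rw [isZero_homology_iff_exists (tT L K) (i - 1) i (i + 1) (by omega) rfl]
  intro z hz
  obtain ⟨m, hm⟩ := exists_mem_fil z
  exact exists_boundary_of_exact hex b hb i (b + 1 - m).toNat m (Int.self_le_toNat _) z hm hz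

theorem isIso_ιTruncLE_f (P : CochainComplex (ModuleCat.{u} R) ℤ) (m q : ℤ) (hq : q < m) :
    IsIso ((P.ιTruncLE m).f q) := by
  let e := ComplexShape.embeddingUpIntLE m
  have : IsIso ((HomologicalComplex.πTruncGE P.op e.op).f q) := by
    refine (ComplexShape.Embedding.isIso_liftExtend_f_iff e.op
      (HomologicalComplex.restrictionToTruncGE' P.op e.op)
      (HomologicalComplex.restrictionToTruncGE'_hasLift P.op _) (i := (m - q).natAbs)
      (by show m - ((m - q).natAbs : ℤ) = q; omega)).mpr ?_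
    refine HomologicalComplex.isIso_restrictionToTruncGE' P.op _ _ fun h => ?_
    have h' : e.BoundaryLE (m - q).natAbs := by simpa using h
    rw [ComplexShape.boundaryLE_embeddingUpIntLE_iff, Int.natAbs_eq_zero] at h'
    omega
  exact inferInstanceAs (IsIso ((HomologicalComplex.πTruncGE P.op e.op).f q).unop)

/-- The tensor product with any complex is acyclic. -/
theorem acyclic_tT
    (hex : ∀ (M : ModuleCat.{u} R) (i j k : ℤ), i + 1 = j → j + 1 = k →
      Function.Exact ((L.d i j).hom.rTensor M) ((L.d j k).hom.rTensor M)) :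
    Acyclic' (tT L K) := by
  intro n
  rw [isZero_homology_iff_exists (tT L K) (n - 1) n (n + 1) (by omega) rfl]
  intro z hz
  obtain ⟨s, hs⟩ := exists_sum_proj L K z
  obtain ⟨q₁, hq₁⟩ : ∃ q₁, ∀ q ∈ s, q ≤ q₁ := s.bddAbove
  let K' := K.truncLE (q₁ + 2)
  let ι : K' ⟶ K := K.ιTruncLE (q₁ + 2)
  have hι : ∀ q ≤ q₁ + 1, IsIso (ι.f q) := fun q hq => isIso_ιTruncLE_f K (q₁ + 2) q (by omega)
  have hsurj : ∀ q ∈ s, ∃ a : ↥(L.X (n - q) ⊗ K'.X q),
      ((𝟙 L : L ⟶ L).f (n - q) ⊗ₘ ι.f q).hom a =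
        (proj (n - q) q n (sub_add_cancel n q)).hom z := fun q hq => by
    haveI := hι q (by have := hq₁ q hq; omega)
    exact (ConcreteCategory.bijective_of_isIso ((𝟙 L : L ⟶ L).f (n - q) ⊗ₘ ι.f q)).2 _
  choose a ha using hsurj
  let z' : (tT L K').X n :=
    ∑ q ∈ s.attach, (ιT L K' (n - q.1) q.1 n (sub_add_cancel n q.1)).hom (a q.1 q.2)
  have hzz : ((tMap (𝟙 L) ι).f n).hom z' = z := by
    refine (map_sum _ _ _).trans ?_
    refine Eq.trans (Finset.sum_congr rfl fun q _ => ?_) ((Finset.sum_attach s fun q =>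
      (ιT L K (n - q) q n (sub_add_cancel n q)).hom
        ((proj (n - q) q n (sub_add_cancel n q)).hom z)).trans (hs s (subset_refl s)))
    refine (congr($(ιT_tMap (𝟙 L) ι (n - q.1) q.1 n (sub_add_cancel n q.1)).hom (a q.1 q.2))).trans ?_
    exact congrArg _ (ha q.1 q.2)
  have hdz : ((tT L K').d n (n + 1)).hom z' = 0 := by
    obtain ⟨t, ht⟩ := exists_sum_proj L K' (((tT L K').d n (n + 1)).hom z')
    refine (ht t (subset_refl t)).symm.trans (Finset.sum_eq_zero fun q _ => ?_)
    have : (proj (n + 1 - q) q (n + 1) (sub_add_cancel _ q)).hom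
        (((tT L K').d n (n + 1)).hom z') = 0 := by
      by_cases hq : q ≤ q₁ + 1
      · haveI := hι q hq
        refine (ConcreteCategory.bijective_of_isIso
          ((𝟙 L : L ⟶ L).f (n + 1 - q) ⊗ₘ ι.f q)).1 (Eq.trans ?_ (map_zero _).symm)
        refine (congr($(tMap_proj (𝟙 L) ι (n + 1 - q) q (n + 1) (sub_add_cancel _ q)).hom
          (((tT L K').d n (n + 1)).hom z'))).symm.trans ?_
        have hc : ((tMap (𝟙 L) ι).f (n + 1)).hom (((tT L K').d n (n + 1)).hom z') = 0 := by
          refine (congr($((tMap (𝟙 L) ι).comm n (n + 1)).hom z')).symm.trans ?_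
          exact (congrArg ((tT L K).d n (n + 1)).hom hzz).trans hz
        exact (congrArg (proj (n + 1 - q) q (n + 1) _).hom hc).trans (map_zero _)
      · rw [map_sum, map_sum]
        refine Finset.sum_eq_zero fun r _ => ?_
        change ((ιT L K' (n - r.1) r.1 n _ ≫ (tT L K').d n (n + 1)) ≫
          proj (n + 1 - q) q (n + 1) (sub_add_cancel _ q)).hom (a r.1 r.2) = 0
        have := hq₁ r.1 r.2
        rw [ιT_d L K' (n - r.1) r.1 n (n + 1) _ rfl, Preadditive.add_comp, Linear.units_smul_comp,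
          Category.assoc, Category.assoc, ιT_proj_ne _ _ (by omega : r.1 ≠ q),
          ιT_proj_ne _ _ (by omega : r.1 + 1 ≠ q), comp_zero, comp_zero, smul_zero, add_zero]
        rfl
    rw [this, map_zero]
  obtain ⟨y, hy⟩ := (isZero_homology_iff_exists (tT L K') (n - 1) n (n + 1) (by omega) rfl).mp
    (acyclic_of_bounded hex (q₁ + 2) (fun i hi =>
      CochainComplex.isZero_of_isStrictlyLE K' (q₁ + 2) i hi) n) z' hdz
  refine ⟨((tMap (𝟙 L) ι).f (n - 1)).hom y, ?_⟩
  refine (congr($((tMap (𝟙 L) ι).comm (n - 1) n).hom y)).trans ?_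
  exact (congrArg ((tMap (𝟙 L) ι).f n).hom hy).trans hzz

end Groth.Agent.TwoTermLib.FPKFlat
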