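import Mathlib
import Groth.Agent.DTenLib.HomQis
import Groth.Agent.DRingLib.Amplitude
import Groth.Agent.DRingLib.LBaseChange
import Groth.Agent.DRingLib.FlatBC

/-!
# Minimal free complexes over a local ring
-/

set_option autoImplicit false
set_option linter.style.haveILetI false

universe u

open CategoryTheory CategoryTheory.Limits HomologicalComplex
open scoped TensorProduct

attribute [local instance] HasDerivedCategory.standard

namespace Groth.Agent.TwoTermLib.MinRep

variable {R : Type u} [CommRing R] [IsLocalRing R] (P : CochainComplex (ModuleCat.{u} R) ℤ)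

local notation "κ" => IsLocalRing.ResidueField R

/-- The differential on the fibre. -/
noncomputable abbrev fb (m n : ℤ) : κ ⊗[R] (P.X m) →ₗ[κ] κ ⊗[R] (P.X n) :=
  (P.d m n).hom.baseChange κ

theorem fb_comp (l m n : ℤ) (x : κ ⊗[R] (P.X l)) : fb P m n (fb P l m x) = 0 := by
  rw [← LinearMap.comp_apply, ← LinearMap.baseChange_comp, ← ModuleCat.hom_comp, P.d_comp_d]
  simp

/-- A complement of the boundaries. -/
noncomputable def C₀ (n : ℤ) : Submodule κ (κ ⊗[R] (P.X n)) :=
  (Submodule.exists_isCompl (LinearMap.range (fb P (n - 1) n))).choose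

/-- A complement of the boundaries in the cycles. -/
noncomputable def Hs (n : ℤ) : Submodule κ (κ ⊗[R] (P.X n)) :=
  C₀ P n ⊓ LinearMap.ker (fb P n (n + 1))

/-- A complement of the cycles. -/
noncomputable def Cs (n : ℤ) : Submodule κ (κ ⊗[R] (P.X n)) :=
  (Submodule.exists_isCompl (LinearMap.ker (fb P n (n + 1)))).choose

instance free_Hs (n : ℤ) : Module.Free κ (Hs P n) :=
  @Module.Free.of_divisionRing κ (Hs P n) _ _ _

instance free_Cs (n : ℤ) : Module.Free κ (Cs P n) :=
  @Module.Free.of_divisionRing κ (Cs P n) _ _ _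

/-- Index of a basis of `Hs`. -/
abbrev HI (n : ℤ) : Type u := Module.Free.ChooseBasisIndex κ (Hs P n)

/-- Index of a basis of `Cs`. -/
abbrev CI (n : ℤ) : Type u := Module.Free.ChooseBasisIndex κ (Cs P n)

theorem exists_lift (n : ℤ) (v : κ ⊗[R] (P.X n)) : ∃ x : P.X n, (1 : κ) ⊗ₜ[R] x = v :=
  TensorProduct.mk_surjective R (P.X n) κ Ideal.Quotient.mk_surjective v

/-- Lifts of the basis of `Hs`. -/
noncomputable def w (n : ℤ) (i : HI P n) : P.X n :=
  (exists_lift P n (Module.Free.chooseBasis κ (Hs P n) i : κ ⊗[R] (P.X n))).choose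

/-- Lifts of the basis of `Cs`. -/
noncomputable def s (n : ℤ) (i : CI P n) : P.X n :=
  (exists_lift P n (Module.Free.chooseBasis κ (Cs P n) i : κ ⊗[R] (P.X n))).choose

theorem tmul_w (n : ℤ) (i : HI P n) :
    (1 : κ) ⊗ₜ[R] w P n i = (Module.Free.chooseBasis κ (Hs P n) i : κ ⊗[R] (P.X n)) :=
  (exists_lift P n (Module.Free.chooseBasis κ (Hs P n) i : κ ⊗[R] (P.X n))).choose_spec

theorem tmul_s (n : ℤ) (i : CI P n) :
    (1 : κ) ⊗ₜ[R] s P n i = (Module.Free.chooseBasis κ (Cs P n) i : κ ⊗[R] (P.X n)) :=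
  (exists_lift P n (Module.Free.chooseBasis κ (Cs P n) i : κ ⊗[R] (P.X n))).choose_spec

/-- The map defining the adapted decomposition. -/
noncomputable def T (m n : ℤ) : ((Cs P m) × (Hs P n)) × (Cs P n) →ₗ[κ] κ ⊗[R] (P.X n) :=
  ((fb P m n ∘ₗ (Cs P m).subtype).coprod (Hs P n).subtype).coprod (Cs P n).subtype

theorem bijective_T (m n : ℤ) (hm : m + 1 = n) : Function.Bijective (T P m n) := by
  have hC : ∀ k, IsCompl (LinearMap.ker (fb P k (k + 1))) (Cs P k) := fun k =>
    (Submodule.exists_isCompl (LinearMap.ker (fb P k (k + 1)))).choose_spec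
  have hC₀ : IsCompl (LinearMap.range (fb P (n - 1) n)) (C₀ P n) :=
    (Submodule.exists_isCompl (LinearMap.range (fb P (n - 1) n))).choose_spec
  obtain rfl : m = n - 1 := by omega
  have hCm : IsCompl (LinearMap.ker (fb P (n - 1) n)) (Cs P (n - 1)) := by
    have := hC (n - 1)
    rwa [sub_add_cancel] at this
  constructor
  · refine (injective_iff_map_eq_zero _).2 fun x hx => ?_
    obtain ⟨⟨a, h⟩, c⟩ := x
    change fb P (n - 1) n a + (h : κ ⊗[R] (P.X n)) + c = 0 at hx
    have hh : fb P n (n + 1) (h : κ ⊗[R] (P.X n)) = 0 := h.2.2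
    have h1 : fb P n (n + 1) (c : κ ⊗[R] (P.X n)) = 0 := by
      have := congrArg (fb P n (n + 1)) hx
      rwa [map_add, map_add, fb_comp, hh, zero_add, zero_add, map_zero] at this
    have hc : c = 0 := Subtype.ext ((Submodule.disjoint_def.1 (hC n).disjoint) _ h1 c.2)
    subst hc
    rw [Submodule.coe_zero, add_zero] at hx
    have hh0 : (h : κ ⊗[R] (P.X n)) = 0 := Submodule.disjoint_def.1 hC₀.disjoint _
      ⟨-(a : κ ⊗[R] (P.X (n - 1))), by rw [map_neg]; exact neg_eq_of_add_eq_zero_right hx⟩ h.2.1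
    rw [hh0, add_zero] at hx
    have ha : a = 0 := Subtype.ext (Submodule.disjoint_def.1 hCm.disjoint _ hx a.2)
    subst ha
    rw [Subtype.ext (p := fun y => y ∈ Hs P n) (a2 := 0) hh0]
    rfl
  · intro v
    obtain ⟨k, hk, c, hc, rfl⟩ := Submodule.mem_sup.1
      ((hC n).sup_eq_top.symm ▸ Submodule.mem_top (x := v))
    obtain ⟨u', hu, h, hh, hkk⟩ := Submodule.mem_sup.1
      (hC₀.sup_eq_top.symm ▸ Submodule.mem_top (x := k))
    obtain ⟨x, rfl⟩ := hu
    obtain ⟨k', hk', a, ha, rfl⟩ := Submodule.mem_sup.1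
      (hCm.sup_eq_top.symm ▸ Submodule.mem_top (x := x))
    have hh' : fb P n (n + 1) h = 0 := by
      have hk0 : fb P n (n + 1) k = 0 := hk
      rw [← hkk, map_add, fb_comp, zero_add] at hk0
      exact hk0
    refine ⟨((⟨a, ha⟩, ⟨h, hh, hh'⟩), ⟨c, hc⟩), ?_⟩
    change fb P (n - 1) n a + h + c = k + c
    rw [← hkk, map_add, show fb P (n - 1) n k' = 0 from hk', zero_add]

/-- The adapted family. -/
noncomputable def fam (m n : ℤ) : (CI P m ⊕ HI P n) ⊕ CI P n → P.X n :=
  Sum.elim (Sum.elim (fun i => (P.d m n).hom (s P m i)) (w P n)) (s P n)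

variable (hP : ∀ n, Module.Finite R (P.X n) ∧ Module.Free R (P.X n))

include hP in
theorem bijective_fam (m n : ℤ) (hm : m + 1 = n) :
    Function.Bijective (Finsupp.linearCombination R (fam P m n)) := by
  haveI := (hP n).1
  haveI := (hP n).2
  refine Module.IsLocalRing.linearCombination_bijective_of_flat _ ?_
  let b := (((Module.Free.chooseBasis κ (Cs P m)).prod (Module.Free.chooseBasis κ (Hs P n))).prod
    (Module.Free.chooseBasis κ (Cs P n))).map (LinearEquiv.ofBijective _ (bijective_T P m n hm))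
  have hb : (TensorProduct.mk R κ (P.X n) 1 ∘ fam P m n) = b := by
    funext i
    rcases i with (i | i) | i
    · refine ((LinearMap.baseChange_tmul (P.d m n).hom (1 : κ) (s P m i)).symm.trans
        (congrArg (fb P m n) (tmul_s P m i))).trans ?_
      simp [b, T]
    · refine (tmul_w P n i).trans ?_
      simp [b, T]
    · refine (tmul_s P n i).trans ?_
      simp [b, T]
  rw [hb]
  exact ⟨b.linearIndependent, fun v => ⟨b.repr v, b.linearCombination_repr v⟩⟩

/-- The adapted basis. -/
noncomputable def B (n : ℤ) : Module.Basis ((CI P (n - 1) ⊕ HI P n) ⊕ CI P n) R (P.X n) :=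
  Module.Basis.mk (bijective_fam P hP (n - 1) n (sub_add_cancel n 1)).1 (by
    rw [← Finsupp.range_linearCombination,
      LinearMap.range_eq_top.2 (bijective_fam P hP (n - 1) n (sub_add_cancel n 1)).2])

theorem B_apply (n : ℤ) (i) : B P hP n i = fam P (n - 1) n i := Module.Basis.mk_apply _ _ i

/-- The projection. -/
noncomputable def π (n : ℤ) : P.X n →ₗ[R] HI P n →₀ R :=
  (B P hP n).constr R (Sum.elim (Sum.elim 0 fun i => Finsupp.single i 1) 0)

/-- The inclusion. -/
noncomputable def incl (n : ℤ) : (HI P n →₀ R) →ₗ[R] P.X n := Finsupp.linearCombination R (w P n)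

/-- The contractible part. -/
noncomputable def φ (n : ℤ) : (CI P n →₀ R) →ₗ[R] P.X n := Finsupp.linearCombination R (s P n)

theorem π_incl (n : ℤ) : π P hP n ∘ₗ incl P n = LinearMap.id := by
  refine Finsupp.lhom_ext fun i r => ?_
  rw [LinearMap.comp_apply, incl, Finsupp.linearCombination_single, map_smul,
    show w P n i = B P hP n (Sum.inl (Sum.inr i)) from (B_apply P hP n (Sum.inl (Sum.inr i))).symm, π,
    Module.Basis.constr_basis]
  simp

theorem π_φ (n : ℤ) : π P hP n ∘ₗ φ P n = 0 := by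
  refine Finsupp.lhom_ext fun i r => ?_
  rw [LinearMap.comp_apply, φ, Finsupp.linearCombination_single, map_smul,
    show s P n i = B P hP n (Sum.inr i) from (B_apply P hP n (Sum.inr i)).symm, π, Module.Basis.constr_basis]
  simp

theorem π_dφ (m n : ℤ) (hm : m + 1 = n) : π P hP n ∘ₗ ((P.d m n).hom ∘ₗ φ P m) = 0 := by
  obtain rfl : m = n - 1 := by omega
  refine Finsupp.lhom_ext fun i r => ?_
  rw [LinearMap.comp_apply, LinearMap.comp_apply, φ, Finsupp.linearCombination_single, map_smul,
    map_smul, show (P.d (n - 1) n).hom (s P (n - 1) i) = B P hP n (Sum.inl (Sum.inl i)) from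
      (B_apply P hP n (Sum.inl (Sum.inl i))).symm, π, Module.Basis.constr_basis]
  simp

theorem exists_sub_incl (m n : ℤ) (hm : m + 1 = n) (x : P.X n) :
    ∃ (a : CI P m →₀ R) (c : CI P n →₀ R),
      x - incl P n (π P hP n x) = (P.d m n).hom (φ P m a) + φ P n c := by
  obtain rfl : m = n - 1 := by omega
  let S : Submodule R (P.X n) := LinearMap.range ((P.d (n - 1) n).hom ∘ₗ φ P (n - 1)) ⊔ LinearMap.range (φ P n)
  have h : S.mkQ ∘ₗ (LinearMap.id - incl P n ∘ₗ π P hP n) = 0 := by
    refine (B P hP n).ext fun i => (Submodule.Quotient.mk_eq_zero S).2 ?_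
    rw [LinearMap.sub_apply, LinearMap.comp_apply, LinearMap.id_apply, π, Module.Basis.constr_basis,
      B_apply]
    rcases i with (i | i) | i
    · simp only [fam, Sum.elim_inl, Pi.zero_apply, map_zero, sub_zero]
      exact Submodule.mem_sup_left ⟨Finsupp.single i 1, by simp [φ]⟩
    · simp [fam, incl]
    · simp only [fam, Sum.elim_inr, Pi.zero_apply, map_zero, sub_zero]
      exact Submodule.mem_sup_right ⟨Finsupp.single i 1, by simp [φ]⟩
  obtain ⟨_, ⟨a, rfl⟩, _, ⟨c, rfl⟩, hac⟩ :=
    Submodule.mem_sup.1 ((Submodule.Quotient.mk_eq_zero S).1 (LinearMap.congr_fun h x))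
  exact ⟨a, c, hac.symm⟩

include hP in
theorem injective_dφ (m n : ℤ) (hm : m + 1 = n) :
    Function.Injective ((P.d m n).hom ∘ₗ φ P m) := by
  have h : (P.d m n).hom ∘ₗ φ P m =
      Finsupp.linearCombination R (fun i => fam P m n (Sum.inl (Sum.inl i))) :=
    Finsupp.lhom_ext fun i r => by simp [φ, fam]
  rw [h]
  have hLI : LinearIndependent R (fam P m n) := (bijective_fam P hP m n hm).1
  exact hLI.comp _ (Sum.inl_injective.comp Sum.inl_injective)

theorem π_d_incl (m n : ℤ) (hm : m + 1 = n) (x : P.X m) :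
    π P hP n ((P.d m n).hom (incl P m (π P hP m x))) = π P hP n ((P.d m n).hom x) := by
  obtain ⟨a, c, h⟩ := exists_sub_incl P hP (m - 1) m (by omega) x
  have h2 := congrArg (fun y => π P hP n ((P.d m n).hom y)) h
  simp only [map_sub, map_add] at h2
  have h3 : π P hP n ((P.d m n).hom ((P.d (m - 1) m).hom (φ P (m - 1) a))) = 0 := by
    rw [show (P.d m n).hom ((P.d (m - 1) m).hom (φ P (m - 1) a)) = 0 from
      congr($(P.d_comp_d (m - 1) m n).hom _), map_zero]
  have h4 : π P hP n ((P.d m n).hom (φ P m c)) = 0 := LinearMap.congr_fun (π_dφ P hP m n hm) c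
  rw [h3, h4, add_zero, sub_eq_zero] at h2
  exact h2.symm

/-- The minimal complex. -/
noncomputable def Qc : CochainComplex (ModuleCat.{u} R) ℤ :=
  CochainComplex.of (fun n => ModuleCat.of R (HI P n →₀ R))
    (fun n => ModuleCat.ofHom (π P hP (n + 1) ∘ₗ (P.d n (n + 1)).hom ∘ₗ incl P n)) fun n => by
    refine ModuleCat.hom_ext (LinearMap.ext fun x => ?_)
    change π P hP (n + 1 + 1) ((P.d (n + 1) (n + 1 + 1)).hom
      (incl P (n + 1) (π P hP (n + 1) ((P.d n (n + 1)).hom (incl P n x))))) = 0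
    rw [π_d_incl P hP (n + 1) (n + 1 + 1) rfl,
      show (P.d (n + 1) (n + 1 + 1)).hom ((P.d n (n + 1)).hom (incl P n x)) = 0 from
        congr($(P.d_comp_d n (n + 1) (n + 1 + 1)).hom _), map_zero]

theorem Qc_d (m n : ℤ) (hm : m + 1 = n) (x : HI P m →₀ R) :
    ((Qc P hP).d m n).hom x = π P hP n ((P.d m n).hom (incl P m x)) := by
  subst hm
  exact congr($(CochainComplex.of_d (fun n => ModuleCat.of R (HI P n →₀ R))
    (fun n => ModuleCat.ofHom (π P hP (n + 1) ∘ₗ (P.d n (n + 1)).hom ∘ₗ incl P n)) m).hom x)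

/-- The projection onto the minimal complex. -/
noncomputable def πc : P ⟶ Qc P hP where
  f n := ModuleCat.ofHom (π P hP n)
  comm' m n (hm : m + 1 = n) := ModuleCat.hom_ext (LinearMap.ext fun x => by
    change ((Qc P hP).d m n).hom (π P hP m x) = π P hP n ((P.d m n).hom x)
    rw [Qc_d P hP m n hm, π_d_incl P hP m n hm])

theorem quasiIso_πc : QuasiIso (πc P hP) := by
  refine DTenLib.quasiIso_of_cycles _ (fun n y hy => ?_) fun n x hx ⟨v, hv⟩ => ?_
  · change HI P n →₀ R at y
    rw [Qc_d P hP n (n + 1) rfl] at hy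
    obtain ⟨a, c, hac⟩ := exists_sub_incl P hP n (n + 1) rfl ((P.d n (n + 1)).hom (incl P n y))
    have hy' : π P hP (n + 1) ((P.d n (n + 1)).hom (incl P n y)) = 0 := hy
    rw [hy', map_zero, sub_zero] at hac
    have hc : c = 0 := by
      refine injective_dφ P hP (n + 1) (n + 1 + 1) rfl ?_
      have h := congrArg (P.d (n + 1) (n + 1 + 1)).hom hac
      rw [map_add, show (P.d (n + 1) (n + 1 + 1)).hom ((P.d n (n + 1)).hom (incl P n y)) = 0 from
          congr($(P.d_comp_d n (n + 1) (n + 1 + 1)).hom _),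
        show (P.d (n + 1) (n + 1 + 1)).hom ((P.d n (n + 1)).hom (φ P n a)) = 0 from
          congr($(P.d_comp_d n (n + 1) (n + 1 + 1)).hom _), zero_add] at h
      rw [map_zero]
      exact h.symm
    subst hc
    rw [map_zero, add_zero] at hac
    refine ⟨incl P n y - φ P n a, by rw [map_sub, hac, sub_self], 0, ?_⟩
    change _ = π P hP n (incl P n y - φ P n a) - y
    rw [map_zero, map_sub, show π P hP n (incl P n y) = y from LinearMap.congr_fun (π_incl P hP n) y,
      show π P hP n (φ P n a) = 0 from LinearMap.congr_fun (π_φ P hP n) a, sub_zero, sub_self]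
    rfl
  · change HI P (n - 1) →₀ R at v
    rw [Qc_d P hP (n - 1) n (sub_add_cancel n 1)] at hv
    change _ = π P hP n x at hv
    obtain ⟨a, c, hac⟩ := exists_sub_incl P hP (n - 1) n (sub_add_cancel n 1)
      (x - (P.d (n - 1) n).hom (incl P (n - 1) v))
    rw [map_sub, hv, sub_self, map_zero, sub_zero] at hac
    have hc : c = 0 := by
      refine injective_dφ P hP n (n + 1) rfl ?_
      have h := congrArg (P.d n (n + 1)).hom hac
      rw [map_sub, map_add, hx,
        show (P.d n (n + 1)).hom ((P.d (n - 1) n).hom (incl P (n - 1) v)) = 0 from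
          congr($(P.d_comp_d (n - 1) n (n + 1)).hom _),
        show (P.d n (n + 1)).hom ((P.d (n - 1) n).hom (φ P (n - 1) a)) = 0 from
          congr($(P.d_comp_d (n - 1) n (n + 1)).hom _), sub_self, zero_add] at h
      rw [map_zero]
      exact h.symm
    subst hc
    rw [map_zero, add_zero, sub_eq_iff_eq_add] at hac
    exact ⟨φ P (n - 1) a + incl P (n - 1) v, by rw [map_add]; exact hac.symm⟩

theorem minimal_Qc (m n : ℤ) (hm : m + 1 = n) :
    ((Qc P hP).d m n).hom.baseChange κ = 0 := by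
  obtain rfl : m = n - 1 := by omega
  let g : (HI P (n - 1) →₀ R) →ₗ[R] (HI P n →₀ R) :=
    π P hP n ∘ₗ (P.d (n - 1) n).hom ∘ₗ incl P (n - 1)
  have hg : ((Qc P hP).d (n - 1) n).hom = g := LinearMap.ext fun x => Qc_d P hP (n - 1) n hm x
  rw [hg]
  show g.baseChange κ = 0
  refine TensorProduct.AlgebraTensorModule.ext fun a x => ?_
  induction x using Finsupp.induction_linear with
  | zero => simp
  | add x y hx hy => simp_all [TensorProduct.tmul_add]
  | single i r =>
    have h : g (Finsupp.single i r) = r • π P hP n ((P.d (n - 1) n).hom (w P (n - 1) i)) := by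
      simp [g, incl]
    rw [LinearMap.baseChange_tmul, h, TensorProduct.tmul_smul, LinearMap.zero_apply]
    refine smul_eq_zero_of_right r ?_
    have hz : fb P (n - 1) n ((1 : κ) ⊗ₜ[R] w P (n - 1) i) = 0 := by
      rw [tmul_w]
      have := LinearMap.mem_ker.1 (Module.Free.chooseBasis κ (Hs P (n - 1)) i).2.2
      rwa [sub_add_cancel] at this
    have h2 := congrArg (fun z => a • ((π P hP n).baseChange κ) z) hz
    simp only [LinearMap.baseChange_tmul, map_zero, smul_zero, TensorProduct.smul_tmul', smul_eq_mul,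
      mul_one] at h2
    exact h2

include hP in
/-- Bounded above complexes of finite free modules have minimal quotients. -/
theorem exists_minimal {b : ℤ} (hb : ∀ i, b < i → IsZero (P.X i)) :
    ∃ Q : CochainComplex (ModuleCat.{u} R) ℤ, (∀ i, b < i → IsZero (Q.X i)) ∧
      (∀ i, Module.Free R (Q.X i) ∧ Module.Finite R (Q.X i)) ∧
      (∀ m n, m + 1 = n → (Q.d m n).hom.baseChange κ = 0) ∧
      Nonempty (DerivedCategory.Q.obj Q ≅ DerivedCategory.Q.obj P) := by
  have hsurj : ∀ i, Function.Surjective (π P hP i) := fun i y =>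
    ⟨incl P i y, LinearMap.congr_fun (π_incl P hP i) y⟩
  refine ⟨Qc P hP, fun i hi => ?_, fun i => ⟨?_, ?_⟩, minimal_Qc P hP, ?_⟩
  · haveI := ModuleCat.subsingleton_of_isZero (hb i hi)
    haveI : Subsingleton (HI P i →₀ R) := (hsurj i).subsingleton
    exact ModuleCat.isZero_of_subsingleton (ModuleCat.of R (HI P i →₀ R))
  · exact inferInstanceAs (Module.Free R (HI P i →₀ R))
  · haveI := (hP i).1
    exact Module.Finite.of_surjective (π P hP i) (hsurj i)
  · haveI := quasiIso_πc P hP
    exact ⟨(asIso (DerivedCategory.Q.map (πc P hP))).symm⟩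

section Fibre

variable (Q Q' : CochainComplex (ModuleCat.{u} R) ℤ)

/-- The fibre of a complex at the closed point. -/
noncomputable abbrev fibre : CochainComplex (ModuleCat.{u} (IsLocalRing.ResidueField R)) ℤ :=
  (DRingLib.extCx (IsLocalRing.residue R)).obj Q

theorem fibre_d_eq_zero (m n : ℤ) (h : (Q.d m n).hom.baseChange κ = 0) : (fibre Q).d m n = 0 :=
  ModuleCat.hom_ext h

theorem finrank_fibre_X (hQ : ∀ i, Module.Free R (Q.X i)) (i : ℤ) :
    Module.finrank κ ((fibre Q).X i) = Module.finrank R (Q.X i) := by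
  haveI := hQ i
  exact ((DRingLib.extendScalarsEquiv (A := R) (B := κ) (Q.X i)).finrank_eq).trans
    Module.finrank_baseChange

theorem finrank_fibre_homology (hQ : ∀ i, Module.Free R (Q.X i))
    (hd : ∀ m n, m + 1 = n → (Q.d m n).hom.baseChange κ = 0) (i : ℤ) :
    Module.finrank κ ((fibre Q).homology i) = Module.finrank R (Q.X i) := by
  have h0 : (fibre Q).d (i - 1) i = 0 := fibre_d_eq_zero Q _ _ (hd _ _ (sub_add_cancel i 1))
  have h1 : (fibre Q).d i (i + 1) = 0 := fibre_d_eq_zero Q _ _ (hd _ _ rfl)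
  exact ((((fibre Q).isoHomologyπ (i - 1) i (by simp) h0).symm ≪≫
    (fibre Q).iCyclesIso i (i + 1) (by simp) h1).toLinearEquiv.finrank_eq).trans
    (finrank_fibre_X Q hQ i)

theorem baseChange_d_eq_zero (hQ : ∀ i, Module.Free R (Q.X i) ∧ Module.Finite R (Q.X i))
    (h : ∀ i, Module.finrank κ ((fibre Q).homology i) = Module.finrank R (Q.X i)) (m n : ℤ)
    (hmn : m + 1 = n) : (Q.d m n).hom.baseChange κ = 0 := by
  obtain rfl : n = m + 1 := hmn.symm
  haveI := (hQ m).2
  haveI hfin : Module.Finite κ ((fibre Q).X m) :=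
    Module.Finite.equiv (DRingLib.extendScalarsEquiv (A := R) (B := κ) (Q.X m)).symm
  let S := (fibre Q).sc' (m - 1) m (m + 1)
  let e : (fibre Q).homology m ≅ S.moduleCatLeftHomologyData.H :=
    ShortComplex.homologyMapIso ((fibre Q).isoSc' (m - 1) m (m + 1) (by simp) (by simp)) ≪≫
      S.moduleCatHomologyIso
  haveI : Module.Finite κ S.X₂ := hfin
  have h1 : Module.finrank κ ((fibre Q).homology m) ≤ Module.finrank κ (LinearMap.ker S.g.hom) :=
    (e.toLinearEquiv.finrank_eq).trans_le (Submodule.finrank_quotient_le _)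
  rw [h m, ← finrank_fibre_X Q (fun i => (hQ i).1) m] at h1
  have h2 : LinearMap.ker S.g.hom = ⊤ :=
    Submodule.eq_top_of_finrank_eq (le_antisymm (Submodule.finrank_le _) h1)
  exact LinearMap.ker_eq_top.1 h2

theorem isIso_of_quasiIso_fibre {C C' : CochainComplex (ModuleCat.{u} (IsLocalRing.ResidueField R)) ℤ}
    (hC : ∀ m n, C.d m n = 0) (hC' : ∀ m n, C'.d m n = 0) (g : C ⟶ C') [QuasiIso g] (i : ℤ) :
    IsIso (g.f i) := by
  haveI := C.isIso_homologyπ (i - 1) i (by simp) (hC _ _)
  haveI := C'.isIso_homologyπ (i - 1) i (by simp) (hC' _ _)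
  haveI := C.isIso_iCycles i (i + 1) (by simp) (hC _ _)
  haveI := C'.isIso_iCycles i (i + 1) (by simp) (hC' _ _)
  have h1 : IsIso (cyclesMap g i) := by
    have : cyclesMap g i = C.homologyπ i ≫ homologyMap g i ≫ inv (C'.homologyπ i) := by
      rw [reassoc_of% (homologyπ_naturality g i), IsIso.hom_inv_id, Category.comp_id]
    rw [this]
    infer_instance
  have h2 : g.f i = inv (C.iCycles i) ≫ cyclesMap g i ≫ C'.iCycles i := by
    rw [cyclesMap_i, IsIso.inv_hom_id_assoc]
  rw [h2]
  infer_instance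

theorem bijective_of_lTensor {M N : Type u} [AddCommGroup M] [Module R M] [AddCommGroup N]
    [Module R N] [Module.Finite R M] [Module.Finite R N] [Module.Free R N] (f : M →ₗ[R] N)
    (h : Function.Bijective (f.baseChange κ)) : Function.Bijective f := by
  have h' : Function.Bijective (f.lTensor κ) := h
  obtain ⟨l, hl⟩ := (IsLocalRing.split_injective_iff_lTensor_residueField_injective f).2 h'.1
  refine ⟨Function.LeftInverse.injective (g := l) (LinearMap.congr_fun hl), ?_⟩
  haveI : Subsingleton (κ ⊗[R] (N ⧸ LinearMap.range f)) := by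
    refine subsingleton_of_forall_eq 0 fun z => ?_
    obtain ⟨y, rfl⟩ := LinearMap.lTensor_surjective κ (Submodule.mkQ_surjective _) z
    obtain ⟨x, rfl⟩ := h'.2 y
    rw [← LinearMap.comp_apply, ← LinearMap.lTensor_comp, LinearMap.range_mkQ_comp,
      LinearMap.lTensor_zero, LinearMap.zero_apply]
  haveI := (IsLocalRing.subsingleton_tensorProduct (R := R) (M := N ⧸ LinearMap.range f)).1 inferInstance
  rw [← LinearMap.range_eq_top]
  exact Submodule.Quotient.subsingleton_iff.1 inferInstance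

/-- Minimal complexes isomorphic in `D(R)` are isomorphic. -/
theorem nonempty_iso {b b' : ℤ} (hb : ∀ i, b < i → IsZero (Q.X i))
    (hb' : ∀ i, b' < i → IsZero (Q'.X i))
    (hQ : ∀ i, Module.Free R (Q.X i) ∧ Module.Finite R (Q.X i))
    (hQ' : ∀ i, Module.Free R (Q'.X i) ∧ Module.Finite R (Q'.X i))
    (hd : ∀ m n, m + 1 = n → (Q.d m n).hom.baseChange κ = 0)
    (hd' : ∀ m n, m + 1 = n → (Q'.d m n).hom.baseChange κ = 0)
    (e : DerivedCategory.Q.obj Q ≅ DerivedCategory.Q.obj Q') : Nonempty (Q ≅ Q') := by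
  haveI := DRingLib.isKProjective_of_free Q b hb fun i => (hQ i).1
  obtain ⟨g, hg⟩ := DRingLib.exists_qis_of_iso Q Q' e
  haveI := hg
  haveI : QuasiIso ((DRingLib.extCx (IsLocalRing.residue R)).map g) :=
    KFlatLib.quasiIso_extend _ (DRingLib.isKFlat_of_free Q b hb fun i => (hQ i).1)
      (DRingLib.isKFlat_of_free Q' b' hb' fun i => (hQ' i).1) g
  have hz : ∀ (C : CochainComplex (ModuleCat.{u} R) ℤ),
      (∀ m n, m + 1 = n → (C.d m n).hom.baseChange κ = 0) → ∀ m n, (fibre C).d m n = 0 := by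
    intro C hC m n
    by_cases h : m + 1 = n
    · exact fibre_d_eq_zero C m n (hC m n h)
    · exact (fibre C).shape m n h
  haveI : ∀ i, IsIso (g.f i) := fun i => by
    haveI := isIso_of_quasiIso_fibre (hz Q hd) (hz Q' hd') ((DRingLib.extCx (IsLocalRing.residue R)).map g) i
    haveI := (hQ i).2
    haveI := (hQ' i).1
    haveI := (hQ' i).2
    exact (ConcreteCategory.isIso_iff_bijective _).2 (bijective_of_lTensor (g.f i).hom
      (ConcreteCategory.bijective_of_isIso (((DRingLib.extCx (IsLocalRing.residue R)).map g).f i)))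
  haveI : IsIso g := HomologicalComplex.Hom.isIso_of_components _
  exact ⟨asIso g⟩

variable {Q}

/-- The derived fibre of the object represented by `Q`. -/
noncomputable def HDIso [DRing.HasLBaseChange (IsLocalRing.residue R)] (hK : DRing.IsKFlat R Q)
    {K : Dual.D R} (e : DerivedCategory.Q.obj Q ≅ K) (i : ℤ) :
    (DRingLib.Hn κ i).obj ((DRing.LBaseChange (IsLocalRing.residue R)).obj K) ≅ (fibre Q).homology i :=
  (DRingLib.Hn κ i).mapIso ((DRing.LBaseChange (IsLocalRing.residue R)).mapIso e.symm ≪≫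
    DRingLib.lBaseChangeObjIso _ Q hK) ≪≫
    (DerivedCategory.homologyFunctorFactors (ModuleCat.{u} κ) i).app _

end Fibre

end Groth.Agent.TwoTermLib.MinRep
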