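import Mathlib
import Groth.Agent.TwoTermLib.Nil
import Groth.Agent.DRingLib.AmplitudeTri
import Groth.Agent.KFlatLib.Cone
import Groth.Agent.PQLib.Derived
import Groth.Agent.DRingLib.FlatBC
import Groth.Agent.DRingLib.Devissage

/-!
# Perfectness from two quotients with `I * J = 0`
-/

set_option autoImplicit false
set_option linter.style.haveILetI false

universe u

open CategoryTheory CategoryTheory.Limits HomologicalComplex TensorProduct

attribute [local instance] HasDerivedCategory.standard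

namespace Groth.Agent.TwoTermLib.CRT

variable {A : Type u} [CommRing A] {B : Type u} [CommRing B]

theorem exists_gen_mod (φ : A →+* B) (hφ : Function.Surjective φ)
    (G : CochainComplex (ModuleCat.{u} A) ℤ) (n : ℤ) (hG : ∀ i, n < i → IsZero (G.X i))
    (hfin : Module.Finite B (((DRingLib.extCx φ).obj G).homology n)) :
    ∃ S : Set (G.X n), S.Finite ∧ ⊤ ≤ Submodule.span A S ⊔ LinearMap.range (G.d (n - 1) n).hom ⊔
      RingHom.ker φ • (⊤ : Submodule A (G.X n)) := by
  classical
  letI := φ.toAlgebra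
  have hsurj : ∀ (X : ModuleCat.{u} A), Function.Surjective (TensorProduct.mk A B X 1) :=
    fun X => TensorProduct.mk_surjective A X B hφ
  have hker : ∀ (X : ModuleCat.{u} A) (x : X), (1 : B) ⊗ₜ[A] x = 0 →
      x ∈ RingHom.ker φ • (⊤ : Submodule A X) := by
    intro X x hx
    let e : (A ⧸ RingHom.ker φ) ≃ₗ[A] B :=
      (Ideal.quotientKerAlgEquivOfSurjective (f := Algebra.ofId A B) hφ).toLinearEquiv
    have h2 : TensorProduct.quotTensorEquivQuotSMul X (RingHom.ker φ) ((1 : A ⧸ RingHom.ker φ) ⊗ₜ x) = 0 := by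
      have h3 : e.rTensor X ((1 : A ⧸ RingHom.ker φ) ⊗ₜ x) = 0 := by
        rw [LinearEquiv.rTensor_tmul, show e 1 = 1 from map_one (Ideal.quotientKerAlgEquivOfSurjective (f := Algebra.ofId A B) hφ), hx]
      rw [(LinearEquiv.map_eq_zero_iff _).1 h3, map_zero]
    rw [← map_one (Ideal.Quotient.mk (RingHom.ker φ)),
      TensorProduct.quotTensorEquivQuotSMul_mk_tmul, one_smul] at h2
    exact (Submodule.Quotient.mk_eq_zero _).1 h2
  let E := (DRingLib.extCx φ).obj G
  have hZ : Function.Surjective (G.iCycles n) ∧ Function.Surjective (E.iCycles n) := by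
    have : IsIso (G.iCycles n) := G.isIso_iCycles n (n + 1) (by simp)
      ((hG (n + 1) (by omega)).eq_of_tgt _ _)
    have : IsIso (E.iCycles n) := E.isIso_iCycles n (n + 1) (by simp)
      (((ModuleCat.extendScalars.{u, u, u} φ).map_isZero (hG (n + 1) (by omega))).eq_of_tgt _ _)
    exact ⟨((ConcreteCategory.isIso_iff_bijective _).1 inferInstance).2,
      ((ConcreteCategory.isIso_iff_bijective _).1 inferInstance).2⟩
  have hdecomp : ∀ (w : E.cycles n), E.homologyπ n w = 0 →
      ∃ y, E.iCycles n w = E.d (n - 1) n y := by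
    intro w hw
    have hex : Function.Exact (E.toCycles (n - 1) n) (E.homologyπ n) := by
      let S := ShortComplex.mk (E.toCycles (n - 1) n) (E.homologyπ n)
        (E.toCycles_comp_homologyπ _ _)
      exact (CategoryTheory.ShortComplex.ShortExact.moduleCat_exact_iff_function_exact S).1
        (S.exact_of_g_is_cokernel (E.homologyIsCokernel (n - 1) n (by simp)))
    obtain ⟨y, rfl⟩ := (hex w).1 hw
    refine ⟨y, ?_⟩
    rw [← ModuleCat.comp_apply, HomologicalComplex.toCycles_i]
  obtain ⟨t, ht⟩ := hfin.fg_top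
  choose w hw using fun z : E.homology n =>
    (ModuleCat.epi_iff_surjective (E.homologyπ n)).1 inferInstance z
  choose x hx using fun z : E.homology n => hsurj (G.X n) (E.iCycles n (w z))
  refine ⟨x '' t, t.finite_toSet.image _, fun v _ => ?_⟩
  obtain ⟨v', hv'⟩ := hZ.2 ((1 : B) ⊗ₜ[A] v)
  have hmem : E.homologyπ n v' ∈ Submodule.span B (t : Set (E.homology n)) :=
    ht ▸ Submodule.mem_top
  obtain ⟨c, hc, hsum⟩ := Submodule.mem_span_set.1 hmem
  choose σ hσ using hφ
  let u : G.X n := c.sum fun z r => σ r • x z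
  have hu : u ∈ Submodule.span A (x '' t) :=
    Submodule.sum_mem _ fun z hz => Submodule.smul_mem _ _
      (Submodule.subset_span ⟨z, hc hz, rfl⟩)
  obtain ⟨y, hy⟩ := hdecomp (v' - c.sum fun z r => r • w z) (by
    rw [map_sub, map_finsuppSum]
    simp only [map_smul, hw]
    rw [hsum, sub_self])
  obtain ⟨y', hy'⟩ := hsurj (G.X (n - 1)) y
  rw [map_sub, map_finsuppSum, hv', ← hy'] at hy
  simp only [map_smul, ← hx] at hy
  have hy2 : (1 : B) ⊗ₜ[A] (v - u - G.d (n - 1) n y') = 0 := by
    rw [TensorProduct.tmul_sub, TensorProduct.tmul_sub]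
    have hsum' : (1 : B) ⊗ₜ[A] u = c.sum fun z r => r • ((1 : B) ⊗ₜ[A] x z) := by
      simp only [u, Finsupp.sum, TensorProduct.tmul_sum]
      refine Finset.sum_congr rfl fun z _ => ?_
      rw [TensorProduct.smul_tmul', smul_eq_mul, mul_one, ← TensorProduct.smul_tmul,
        Algebra.smul_def, mul_one]
      exact congrArg (· ⊗ₜ[A] x z) (hσ (c z))
    rw [hsum']
    exact sub_eq_zero.2 hy
  have hmem2 := hker _ _ hy2
  have hval : v = (u + G.d (n - 1) n y') + (v - u - G.d (n - 1) n y') := by abel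
  rw [hval]
  exact Submodule.add_mem_sup (Submodule.add_mem_sup hu ⟨y', rfl⟩) hmem2

variable {B' : Type u} [CommRing B']

theorem finite_top_homology_pair (φ : A →+* B) (hφ : Function.Surjective φ) (ψ : A →+* B')
    (hψ : Function.Surjective ψ) (h0 : RingHom.ker φ * RingHom.ker ψ = ⊥)
    (G : CochainComplex (ModuleCat.{u} A) ℤ) (n : ℤ) (hG : ∀ i, n < i → IsZero (G.X i))
    (h₁ : Module.Finite B (((DRingLib.extCx φ).obj G).homology n))
    (h₂ : Module.Finite B' (((DRingLib.extCx ψ).obj G).homology n)) :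
    Module.Finite A (G.homology n) := by
  obtain ⟨S, hS, hS'⟩ := exists_gen_mod φ hφ G n hG h₁
  obtain ⟨T, hT, hT'⟩ := exists_gen_mod ψ hψ G n hG h₂
  let U := Submodule.span A (S ∪ T) ⊔ LinearMap.range (G.d (n - 1) n).hom
  have hle₁ : ⊤ ≤ U ⊔ RingHom.ker φ • (⊤ : Submodule A (G.X n)) := hS'.trans
    (sup_le_sup_right (sup_le_sup_right (Submodule.span_mono Set.subset_union_left) _) _)
  have hle₂ : ⊤ ≤ U ⊔ RingHom.ker ψ • (⊤ : Submodule A (G.X n)) := hT'.trans
    (sup_le_sup_right (sup_le_sup_right (Submodule.span_mono Set.subset_union_right) _) _)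
  have hU : ⊤ ≤ U :=
    calc (⊤ : Submodule A (G.X n)) ≤ U ⊔ RingHom.ker φ • ⊤ := hle₁
      _ ≤ U ⊔ RingHom.ker φ • (U ⊔ RingHom.ker ψ • ⊤) :=
        sup_le_sup_left (Submodule.smul_mono le_rfl hle₂) _
      _ ≤ U := by
        rw [Submodule.smul_sup, ← mul_smul, h0, Submodule.bot_smul, sup_bot_eq]
        exact sup_le le_rfl Submodule.smul_le_right
  haveI : IsIso (G.iCycles n) := G.isIso_iCycles n (n + 1) (by simp)
    ((hG (n + 1) (by omega)).eq_of_tgt _ _)
  let q : G.X n →ₗ[A] G.homology n := (inv (G.iCycles n) ≫ G.homologyπ n).hom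
  have hq : Function.Surjective q :=
    (ModuleCat.epi_iff_surjective (inv (G.iCycles n) ≫ G.homologyπ n)).1 inferInstance
  have hd : LinearMap.range (G.d (n - 1) n).hom ≤ LinearMap.ker q := by
    rintro _ ⟨y, rfl⟩
    show ((G.d (n - 1) n) ≫ inv (G.iCycles n) ≫ G.homologyπ n).hom y = 0
    rw [← G.toCycles_i (n - 1) n, Category.assoc, IsIso.hom_inv_id_assoc, toCycles_comp_homologyπ]
    rfl
  refine ⟨Submodule.fg_def.2 ⟨q '' (S ∪ T), (hS.union hT).image _, eq_top_iff.2 fun z _ => ?_⟩⟩
  obtain ⟨v, rfl⟩ := hq z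
  obtain ⟨a, ha, b, hb, rfl⟩ := Submodule.mem_sup.1 (hU (Submodule.mem_top (x := v)))
  rw [map_add, LinearMap.mem_ker.1 (hd hb), add_zero, ← Submodule.map_span]
  exact Submodule.mem_map_of_mem ha

/-- Dévissage: every module is an extension of modules killed by `ker φ` or by `ker ψ`. -/
theorem isZero_tensorN_pair (φ : A →+* B) (ψ : A →+* B') (h0 : RingHom.ker φ * RingHom.ker ψ = ⊥)
    (C : CochainComplex (ModuleCat.{u} A) ℤ) (hC : ∀ n, Module.Flat A (C.X n)) (i : ℤ)
    (h : ∀ (N : Type u) [AddCommGroup N] [Module A N],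
      (Module.IsTorsionBySet A N (RingHom.ker φ) ∨ Module.IsTorsionBySet A N (RingHom.ker ψ)) →
      IsZero ((KFlatLib.tensorN C (ModuleCat.of A N)).homology i))
    (N : Type u) [AddCommGroup N] [Module A N] :
    IsZero ((KFlatLib.tensorN C (ModuleCat.of A N)).homology i) := by
  let S : Submodule A N := RingHom.ker φ • ⊤
  let f₁ : ModuleCat.of A S ⟶ ModuleCat.of A N := ModuleCat.ofHom S.subtype
  let f₂ : ModuleCat.of A N ⟶ ModuleCat.of A (N ⧸ S) := ModuleCat.ofHom S.mkQ
  let g : ∀ {X Y : ModuleCat.{u} A}, (X ⟶ Y) →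
      (KFlatLib.tensorN C X ⟶ KFlatLib.tensorN C Y) := fun f =>
    (NatTrans.mapHomologicalComplex ((MonoidalCategory.tensoringRight (ModuleCat.{u} A)).map f)
      (ComplexShape.up ℤ)).app C
  let T : ShortComplex (CochainComplex (ModuleCat.{u} A) ℤ) := ShortComplex.mk (g f₁) (g f₂) (by
    ext n : 1
    apply ModuleCat.hom_ext
    refine TensorProduct.ext' fun x y => ?_
    show x ⊗ₜ[A] (Submodule.Quotient.mk (y : N) : N ⧸ S) = 0
    rw [(Submodule.Quotient.mk_eq_zero S).2 y.2, TensorProduct.tmul_zero])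
  have hT : T.ShortExact := by
    rw [HomologicalComplex.shortExact_iff_degreewise_shortExact]
    intro n
    haveI := hC n
    have hex := Module.Flat.lTensor_exact (C.X n) (R := A) (f := S.subtype) (g := S.mkQ)
      (LinearMap.exact_subtype_mkQ S)
    refine { exact := ?_, mono_f := ?_, epi_g := ?_ }
    · rw [CategoryTheory.ShortComplex.ShortExact.moduleCat_exact_iff_function_exact]
      exact hex
    · exact (ModuleCat.mono_iff_injective _).2
        (Module.Flat.lTensor_preserves_injective_linearMap _ S.injective_subtype)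
    · exact (ModuleCat.epi_iff_surjective _).2
        (LinearMap.lTensor_surjective _ S.mkQ_surjective)
  refine (hT.homology_exact₂ i).isZero_X₂ ((h S (Or.inr ?_)).eq_of_src _ _)
    ((h (N ⧸ S) (Or.inl ?_)).eq_of_tgt _ _)
  · rintro ⟨x, hx⟩ ⟨a, ha⟩
    refine Subtype.ext ?_
    show a • x = 0
    have : a • x ∈ (RingHom.ker φ * RingHom.ker ψ) • (⊤ : Submodule A N) := by
      rw [mul_comm, mul_smul]
      exact Submodule.smul_mem_smul ha hx
    rwa [h0, Submodule.bot_smul, Submodule.mem_bot] at this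
  · intro x a
    obtain ⟨y, rfl⟩ := S.mkQ_surjective x
    show (a : A) • S.mkQ y = 0
    rw [← map_smul]
    exact (Submodule.Quotient.mk_eq_zero S).2 (Submodule.smul_mem_smul a.2 Submodule.mem_top)

theorem amp_pair (φ : A →+* B) (hφ : Function.Surjective φ) (ψ : A →+* B')
    (hψ : Function.Surjective ψ) (h0 : RingHom.ker φ * RingHom.ker ψ = ⊥)
    (C : CochainComplex (ModuleCat.{u} A) ℤ) (hC : ∀ n, Module.Flat A (C.X n)) {a c : ℤ}
    (h₁ : DRingLib.Amp a c ((DRingLib.extCx φ).obj C))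
    (h₂ : DRingLib.Amp a c ((DRingLib.extCx ψ).obj C)) : DRingLib.Amp a c C := by
  intro N i hi
  refine isZero_tensorN_pair φ ψ h0 C hC i (fun M _ _ hM => ?_) N
  have aux : ∀ {S : Type u} [CommRing S] (χ : A →+* S), Function.Surjective χ →
      Module.IsTorsionBySet A M (RingHom.ker χ) → DRingLib.Amp a c ((DRingLib.extCx χ).obj C) →
      IsZero ((KFlatLib.tensorN C (ModuleCat.of A M)).homology i) := by
    intro S _ χ hχ hM hS
    letI := Nil.moduleOfKilled χ hχ M hM
    refine (Nil.isZero_extCx_tensorN_iff χ C M (fun r x => ?_) i).1 (hS (ModuleCat.of S M) i hi)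
    letI := hM.module
    show ((RingHom.quotientKerEquivOfSurjective hχ).symm (χ r)) • x = r • x
    rw [show (RingHom.quotientKerEquivOfSurjective hχ).symm (χ r) =
      Ideal.Quotient.mk (RingHom.ker χ) r from (RingEquiv.symm_apply_eq _).2 rfl]
    exact hM.mk_smul r x
  exact hM.elim (fun hM => aux φ hφ hM h₁) (fun hM => aux ψ hψ hM h₂)

/-- A complex perfect over two quotients by ideals with zero product is perfect. -/
theorem perfect_pair (φ : A →+* B) (hφ : Function.Surjective φ) (ψ : A →+* B')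
    (hψ : Function.Surjective ψ) (h0 : RingHom.ker φ * RingHom.ker ψ = ⊥)
    (C : CochainComplex (ModuleCat.{u} A) ℤ) (hCk : DRing.IsKFlat A C)
    (hC : ∀ n, Module.Flat A (C.X n))
    (h₁ : DRing.IsPerfect B (DerivedCategory.Q.obj ((DRingLib.extCx φ).obj C)))
    (h₂ : DRing.IsPerfect B' (DerivedCategory.Q.obj ((DRingLib.extCx ψ).obj C))) :
    DRing.IsPerfect A (DerivedCategory.Q.obj C) := by
  obtain ⟨hp₁, a₁, c₁, ha₁⟩ := DRingLib.isPerfect_iff.mp h₁
  obtain ⟨hp₂, a₂, c₂, ha₂⟩ := DRingLib.isPerfect_iff.mp h₂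
  have hA : DRingLib.Amp (min a₁ a₂) (max c₁ c₂) C := amp_pair φ hφ ψ hψ h0 C hC
    (DRingLib.amp_of_hasTorAmplitudeIn
      (DRingLib.hasTorAmplitudeIn_mono (min_le_left _ _) (le_max_left _ _) ha₁)
      (KFlatLib.isKFlat_extend φ hCk) (Iso.refl _))
    (DRingLib.amp_of_hasTorAmplitudeIn
      (DRingLib.hasTorAmplitudeIn_mono (min_le_right _ _) (le_max_right _ _) ha₂)
      (KFlatLib.isKFlat_extend ψ hCk) (Iso.refl _))
  let b := max c₁ c₂
  have hb : ∀ i, b < i → IsZero ((DRingLib.Hn A i).obj (DerivedCategory.Q.obj C)) :=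
    fun i hi => DRingLib.isZero_Hn_of_amp hA i (Or.inr hi)
  refine DRingLib.isPerfect_iff.mpr ⟨fun m => ?_, _, _, DRingLib.hasTorAmplitudeIn_of_amp hCk (Iso.refl _) hA⟩
  suffices ∀ j : ℕ, DRing.IsPseudoCoherent A (b + 1 - j) (DerivedCategory.Q.obj C) from
    DRingLib.isPseudoCoherent_mono (by have := Int.self_le_toNat (b + 1 - m); omega)
      (this (b + 1 - m).toNat)
  intro j
  induction j with
  | zero => exact DRingLib.isPseudoCoherent_of_isZero fun i hi => hb i (by omega)
  | succ j ih =>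
    obtain ⟨n, hn, hn'⟩ : ∃ n, b + 1 - (j : ℤ) = n + 1 ∧ b + 1 - ((j + 1 : ℕ) : ℤ) = n :=
      ⟨b - j, by omega, by push_cast; omega⟩
    rw [hn] at ih
    rw [hn']
    obtain ⟨E, α, hE, hα⟩ := DRingLib.isPseudoCoherent_iff.1 ih
    haveI := hE.isKProjective
    obtain ⟨f, rfl⟩ := DRingLib.Q_map_surjective E C α
    let F := CochainComplex.mappingCone f
    have hF := DerivedCategory.mappingCone_triangle_distinguished f
    have hFz : ∀ i, n < i → IsZero ((DRingLib.Hn A i).obj (DerivedCategory.Q.obj F)) :=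
      fun i hi => (DRingLib.Approx.iff_cone (n + 1) _ hF).1 hα i (by omega)
    obtain ⟨G, hGb, hGf, ⟨eG⟩⟩ := DRingLib.exists_free_rep (DerivedCategory.Q.obj F) n hFz
    haveI := DRingLib.isKProjective_of_free G n hGb hGf
    obtain ⟨g, hg⟩ := DRingLib.exists_qis_of_iso G F eG
    haveI := hg
    have hfin : ∀ {S : Type u} [CommRing S] (χ : A →+* S),
        (∀ m, DRing.IsPseudoCoherent S m (DerivedCategory.Q.obj ((DRingLib.extCx χ).obj C))) →
        Module.Finite S (((DRingLib.extCx χ).obj G).homology n) := by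
      intro S _ χ hS
      haveI := KFlatLib.quasiIso_extend χ (DRingLib.isKFlat_of_free G n hGb hGf)
        (KFlatLib.isKFlat_mappingCone hE.isKFlat hCk f) g
      let eGF : DerivedCategory.Q.obj ((DRingLib.extCx χ).obj G) ≅
          DerivedCategory.Q.obj (CochainComplex.mappingCone ((DRingLib.extCx χ).map f)) :=
        asIso (DerivedCategory.Q.map ((DRingLib.extCx χ).map g)) ≪≫
          DerivedCategory.Q.mapIso (CochainComplex.mappingCone.mapHomologicalComplexIso f
            (ModuleCat.extendScalars.{u, u, u} χ))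
      have hpc : DRing.IsPseudoCoherent S n (DerivedCategory.Q.obj ((DRingLib.extCx χ).obj G)) :=
        DRingLib.isPseudoCoherent_of_iso eGF.symm (DRingLib.isPseudoCoherent_obj₃ _
          (DerivedCategory.mappingCone_triangle_distinguished ((DRingLib.extCx χ).map f))
          n (DRingLib.isPseudoCoherent_bddFree (hE.extCx χ) _) (hS n))
      have := DRingLib.finite_of_isPseudoCoherent hpc fun i hi =>
        DRingLib.isZero_Hn_Q _ i ((ModuleCat.extendScalars.{u, u, u} χ).map_isZero (hGb i hi))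
      exact Module.Finite.equiv
        (PQLib.homologyIso (E := (DRingLib.extCx χ).obj G) (Iso.refl _) n).toLinearEquiv
    have hGfin := DRingLib.finite_Hn_Q
      (finite_top_homology_pair φ hφ ψ hψ h0 G n hGb (hfin φ hp₁) (hfin ψ hp₂))
    have hfinF : Module.Finite A ((DRingLib.Hn A n).obj (DerivedCategory.Q.obj F)) :=
      @Module.Finite.equiv _ _ _ _ _ _ _ _ hGfin ((DRingLib.Hn A n).mapIso eG).toLinearEquiv
    exact DRingLib.isPseudoCoherent_of_cone hE _ hF (Iso.refl _) hFz hfinF

end Groth.Agent.TwoTermLib.CRT
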