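import Mathlib
import Groth.Agent.DRingLib.PCoh

/-!
# `Hom(K, -)` of modules and filtered colimits for pseudo-coherent `K`
-/

set_option autoImplicit false
set_option linter.style.haveILetI false

universe u

open CategoryTheory CategoryTheory.Limits HomologicalComplex Pretriangulated

attribute [local instance] HasDerivedCategory.standard

namespace Groth.Agent.TwoTermLib.FiltColHom

variable {R : Type u} [CommRing R] {J : Type u} [SmallCategory J] [IsFiltered J]
  {F : J ⥤ ModuleCat.{u} R} {c : Cocone F} (hc : IsColimit c)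

include hc

theorem exists_lift_finset {ι : Type u} (s : Finset ι) (g : ι → c.pt) :
    ∃ (j : J) (y : ι → F.obj j), ∀ i ∈ s, (c.ι.app j).hom (y i) = g i := by
  classical
  induction s using Finset.induction_on with
  | empty => exact ⟨Classical.choice IsFiltered.nonempty, fun _ => 0, by simp⟩
  | @insert a s ha ih =>
    obtain ⟨j, y, hy⟩ := ih
    obtain ⟨j', z, hz⟩ := Concrete.isColimit_exists_rep F hc (g a)
    refine ⟨IsFiltered.max j j', Function.update (fun i => (F.map (IsFiltered.leftToMax j j')).hom (y i)) a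
      ((F.map (IsFiltered.rightToMax j j')).hom z), fun i hi => ?_⟩
    rcases Finset.mem_insert.1 hi with rfl | hi
    · rw [Function.update_self, ← LinearMap.comp_apply, ← ModuleCat.hom_comp, c.w]
      exact hz
    · rw [Function.update_of_ne (fun h => ha (by rw [← h]; exact hi)), ← LinearMap.comp_apply,
        ← ModuleCat.hom_comp, c.w]
      exact hy i hi

theorem exists_zero_finset {ι : Type u} (s : Finset ι) {j : J} (y : ι → F.obj j)
    (h : ∀ i ∈ s, (c.ι.app j).hom (y i) = 0) :
    ∃ (j' : J) (f : j ⟶ j'), ∀ i ∈ s, (F.map f).hom (y i) = 0 := by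
  classical
  induction s using Finset.induction_on with
  | empty => exact ⟨j, 𝟙 j, by simp⟩
  | @insert a s ha ih =>
    obtain ⟨j', f, hf⟩ := ih fun i hi => h i (Finset.mem_insert_of_mem hi)
    have h0 : (c.ι.app j).hom (y a) = (c.ι.app j).hom 0 := by
      rw [h a (Finset.mem_insert_self _ _), map_zero]
    obtain ⟨k, u, v, huv⟩ := Concrete.isColimit_exists_of_rep_eq F hc _ _ h0
    have huv' : (F.map u).hom (y a) = 0 := huv.trans (map_zero (F.map v).hom)
    obtain ⟨l, p, q, hpq⟩ := IsFiltered.span f u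
    refine ⟨l, f ≫ p, fun i hi => ?_⟩
    rcases Finset.mem_insert.1 hi with rfl | hi
    · rw [hpq, F.map_comp, ModuleCat.hom_comp, LinearMap.comp_apply, huv', map_zero]
    · rw [F.map_comp, ModuleCat.hom_comp, LinearMap.comp_apply, hf i hi, map_zero]

theorem exists_lift (P : ModuleCat.{u} R) [Module.Finite R P] [Module.Free R P] (g : P ⟶ c.pt) :
    ∃ (j : J) (gj : P ⟶ F.obj j), gj ≫ c.ι.app j = g := by
  let b := Module.Free.chooseBasis R P
  haveI := Fintype.ofFinite (Module.Free.ChooseBasisIndex R P)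
  obtain ⟨j, y, hy⟩ := exists_lift_finset hc Finset.univ fun i => g.hom (b i)
  exact ⟨j, ModuleCat.ofHom (b.constr R y), ModuleCat.hom_ext (b.ext fun i =>
    (congrArg _ (b.constr_basis R y i)).trans (hy i (Finset.mem_univ i)))⟩

theorem exists_zero (P : ModuleCat.{u} R) [Module.Finite R P] {j : J} (g : P ⟶ F.obj j)
    (h : g ≫ c.ι.app j = 0) : ∃ (j' : J) (f : j ⟶ j'), g ≫ F.map f = 0 := by
  classical
  obtain ⟨s, hs⟩ := Module.Finite.fg_top (R := R) (M := P)
  obtain ⟨j', f, hf⟩ := exists_zero_finset hc s (fun x => g.hom x) fun x _ => congr($(h).hom x)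
  exact ⟨j', f, ModuleCat.hom_ext (LinearMap.ext_on hs fun x hx => hf x hx)⟩

variable {E : CochainComplex (ModuleCat.{u} R) ℤ}

omit hc in
theorem homotopyZero_of_factor {M : ModuleCat.{u} R} {k : ℤ}
    (f : E ⟶ (single (ModuleCat.{u} R) (ComplexShape.up ℤ) k).obj M) (h : E.X (k + 1) ⟶ M)
    (hf : f.f k = E.d k (k + 1) ≫ h ≫ (singleObjXSelf (ComplexShape.up ℤ) k M).inv) :
    DerivedCategory.Q.map f = 0 := by
  let H : Homotopy f 0 :=
    { hom := fun i j => if e : i = k + 1 ∧ j = k then
        eqToHom (by rw [e.1]) ≫ h ≫ (singleObjXSelf (ComplexShape.up ℤ) k M).inv ≫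
          eqToHom (by rw [e.2]) else 0
      zero := fun i j hij => dif_neg fun e => hij (by obtain ⟨rfl, rfl⟩ := e; rfl)
      comm := fun i => by
        rcases eq_or_ne i k with rfl | hi
        · rw [dNext_eq _ (show (ComplexShape.up ℤ).Rel i (i + 1) from rfl),
            prevD_eq _ (show (ComplexShape.up ℤ).Rel (i - 1) i from sub_add_cancel i 1),
            dif_pos ⟨rfl, rfl⟩, single_obj_d, comp_zero, add_zero, zero_f, add_zero, hf]
          simp
        · exact (isZero_single_obj_X (ComplexShape.up ℤ) k M i hi).eq_of_tgt _ _ }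
  rw [← Functor.map_zero DerivedCategory.Q E ((single (ModuleCat.{u} R) (ComplexShape.up ℤ) k).obj M)]
  exact (congrArg DerivedCategory.Qh.map (HomotopyCategory.eq_of_homotopy _ _ H) :)

variable [E.IsKProjective] (hE : ∀ i, Module.Finite R (E.X i) ∧ Module.Free R (E.X i)) (k : ℤ)

include hE

theorem exists_lift_Q (x : DerivedCategory.Q.obj E ⟶
      DerivedCategory.Q.obj ((single (ModuleCat.{u} R) (ComplexShape.up ℤ) k).obj c.pt)) :
    ∃ (j : J) (y : DerivedCategory.Q.obj E ⟶
        DerivedCategory.Q.obj ((single (ModuleCat.{u} R) (ComplexShape.up ℤ) k).obj (F.obj j))),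
      y ≫ DerivedCategory.Q.map ((single _ _ k).map (c.ι.app j)) = x := by
  obtain ⟨f, rfl⟩ := DRingLib.Q_map_surjective E _ x
  haveI := (hE k).1
  haveI := (hE k).2
  haveI := (hE (k - 1)).1
  obtain ⟨j, g, hg⟩ := exists_lift hc (E.X k) (f.f k ≫ (singleObjXSelf (ComplexShape.up ℤ) k c.pt).hom)
  obtain ⟨j', a, ha⟩ := exists_zero hc (E.X (k - 1)) (E.d (k - 1) k ≫ g) (by
    rw [Category.assoc, hg, ← Category.assoc, ← f.comm (k - 1) k, single_obj_d, comp_zero, zero_comp])
  refine ⟨j', DerivedCategory.Q.map (mkHomToSingle (g ≫ F.map a) fun i hi => ?_), ?_⟩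
  · obtain rfl : i = k - 1 := by
      have : i + 1 = k := hi
      omega
    rw [← Category.assoc, ha]
  · rw [← Functor.map_comp]
    refine congrArg _ (to_single_hom_ext ?_)
    rw [comp_f, mkHomToSingle_f, single_map_f_self]
    simp only [Category.assoc, Iso.inv_hom_id_assoc, c.w_assoc]
    rw [← Category.assoc, hg, Category.assoc]
    exact (congrArg (f.f k ≫ ·) (singleObjXSelf (ComplexShape.up ℤ) k c.pt).hom_inv_id).trans
      (Category.comp_id _)

theorem exists_zero_Q {j : J} (y : DerivedCategory.Q.obj E ⟶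
      DerivedCategory.Q.obj ((single (ModuleCat.{u} R) (ComplexShape.up ℤ) k).obj (F.obj j)))
    (hy : y ≫ DerivedCategory.Q.map ((single _ _ k).map (c.ι.app j)) = 0) :
    ∃ (j' : J) (a : j ⟶ j'), y ≫ DerivedCategory.Q.map ((single _ _ k).map (F.map a)) = 0 := by
  obtain ⟨f, rfl⟩ := DRingLib.Q_map_surjective E _ y
  rw [← Functor.map_comp] at hy
  have h0 : (HomotopyCategory.quotient (ModuleCat.{u} R) (ComplexShape.up ℤ)).map
      (f ≫ (single _ _ k).map (c.ι.app j)) = 0 := by
    refine (CochainComplex.IsKProjective.Qh_map_bijective E _).1 ?_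
    rw [Functor.map_zero]
    exact hy
  let H := HomotopyCategory.homotopyOfEq _ 0 (h0.trans (Functor.map_zero _ _ _).symm)
  have hk : f.f k ≫ (singleObjXSelf (ComplexShape.up ℤ) k (F.obj j)).hom ≫ c.ι.app j =
      E.d k (k + 1) ≫ H.hom (k + 1) k ≫ (singleObjXSelf (ComplexShape.up ℤ) k c.pt).hom := by
    have := H.comm k
    rw [dNext_eq _ (show (ComplexShape.up ℤ).Rel k (k + 1) from rfl),
      prevD_eq _ (show (ComplexShape.up ℤ).Rel (k - 1) k from sub_add_cancel k 1),
      single_obj_d, comp_zero, add_zero, zero_f, add_zero, comp_f, single_map_f_self] at this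
    rw [← reassoc_of% this]
    simp
  haveI := (hE (k + 1)).1
  haveI := (hE (k + 1)).2
  haveI := (hE k).1
  obtain ⟨j₁, h₁, hh₁⟩ := exists_lift hc (E.X (k + 1))
    (H.hom (k + 1) k ≫ (singleObjXSelf (ComplexShape.up ℤ) k c.pt).hom)
  let m := IsFiltered.max j j₁
  let a := IsFiltered.leftToMax j j₁
  obtain ⟨j', b, hb⟩ := exists_zero hc (E.X k)
    (f.f k ≫ (singleObjXSelf (ComplexShape.up ℤ) k (F.obj j)).hom ≫ F.map a -
      E.d k (k + 1) ≫ h₁ ≫ F.map (IsFiltered.rightToMax j j₁))
    (by simp only [Preadditive.sub_comp, Category.assoc, c.w]; rw [hk, hh₁, sub_self])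
  refine ⟨j', a ≫ b, ?_⟩
  rw [← Functor.map_comp]
  refine homotopyZero_of_factor _ (h₁ ≫ F.map (IsFiltered.rightToMax j j₁ ≫ b)) ?_
  rw [comp_f, single_map_f_self]
  simp only [Preadditive.sub_comp, Category.assoc, sub_eq_zero] at hb
  simp only [F.map_comp, Category.assoc]
  rw [reassoc_of% hb]

end Groth.Agent.TwoTermLib.FiltColHom
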