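import Mathlib
import Groth.Agent.KFlatLib.Alg

/-!
# The monoidal structure of complexes of modules on elements; dualizable complexes
-/

set_option autoImplicit false
set_option linter.style.haveILetI false

universe u

open CategoryTheory CategoryTheory.Limits HomologicalComplex MonoidalCategory
open KFlatLib (ιT)
open scoped TensorProduct

namespace Groth.Agent.TwoTermLib.MonElt

variable {R : Type u} [CommRing R] (K L M : CochainComplex (ModuleCat.{u} R) ℤ)

/-- The generator of the unit complex. -/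
noncomputable def one₀ : (𝟙_ (CochainComplex (ModuleCat.{u} R) ℤ)).X 0 :=
  (singleObjXSelf (ComplexShape.up ℤ) 0 (𝟙_ (ModuleCat.{u} R))).inv.hom (1 : R)

theorem isZero_unit_X (i : ℤ) (hi : i ≠ 0) :
    IsZero ((𝟙_ (CochainComplex (ModuleCat.{u} R) ℤ)).X i) :=
  isZero_single_obj_X (ComplexShape.up ℤ) 0 _ i hi

/-- The identification of the degree zero part of the unit complex. -/
noncomputable def unit₀ : (𝟙_ (CochainComplex (ModuleCat.{u} R) ℤ)).X 0 →ₗ[R] R :=
  (singleObjXSelf (ComplexShape.up ℤ) 0 (𝟙_ (ModuleCat.{u} R))).hom.hom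

theorem eq_smul_one₀ (y : (𝟙_ (CochainComplex (ModuleCat.{u} R) ℤ)).X 0) :
    y = unit₀ y • one₀ := by
  have h : (singleObjXSelf (ComplexShape.up ℤ) 0 (𝟙_ (ModuleCat.{u} R))).inv.hom (unit₀ y) = y :=
    congr($((singleObjXSelf (ComplexShape.up ℤ) 0 (𝟙_ (ModuleCat.{u} R))).hom_inv_id).hom y)
  conv_lhs => rw [← h, ← mul_one (unit₀ y), ← smul_eq_mul]
  exact map_smul _ _ _

theorem leftUnitor_inv (i : ℤ) (x : K.X i) :
    ((λ_ K).inv.f i).hom x = (ιT (𝟙_ (CochainComplex (ModuleCat.{u} R) ℤ)) K 0 i i (zero_add i)).hom (one₀ ⊗ₜ x) :=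
  congr($(leftUnitor'_inv K i).hom x)

theorem rightUnitor_inv (i : ℤ) (x : K.X i) :
    ((ρ_ K).inv.f i).hom x = (ιT K (𝟙_ (CochainComplex (ModuleCat.{u} R) ℤ)) i 0 i (add_zero i)).hom (x ⊗ₜ one₀) :=
  congr($(rightUnitor'_inv K i).hom x)

theorem map_ι {K' L' : CochainComplex (ModuleCat.{u} R) ℤ} (f : K ⟶ K') (g : L ⟶ L') (p q n : ℤ)
    (h : p + q = n) (x : K.X p) (y : L.X q) :
    ((f ⊗ₘ g).f n).hom ((ιT K L p q n h).hom (x ⊗ₜ y)) =
      (ιT K' L' p q n h).hom ((f.f p).hom x ⊗ₜ (g.f q).hom y) :=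
  congr($(ι_mapBifunctorMap f g (curriedTensor (ModuleCat.{u} R)) (ComplexShape.up ℤ) p q n h).hom
    (x ⊗ₜ y))

theorem associator_ι (p q r s t n : ℤ) (hpq : p + q = s) (hqr : q + r = t) (h : s + r = n)
    (h' : p + t = n) (x : K.X p) (y : L.X q) (z : M.X r) :
    ((α_ K L M).hom.f n).hom ((ιT (K ⊗ L) M s r n h).hom ((ιT K L p q s hpq).hom (x ⊗ₜ y) ⊗ₜ z)) =
      (ιT K (L ⊗ M) p t n h').hom (x ⊗ₜ (ιT L M q r t hqr).hom (y ⊗ₜ z)) := by
  have hr : ComplexShape.r (ComplexShape.up ℤ) (ComplexShape.up ℤ) (ComplexShape.up ℤ)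
      (ComplexShape.up ℤ) (ComplexShape.up ℤ) (p, q, r) = n := by
    show p + q + r = n
    omega
  have e := ι_mapBifunctorAssociatorX_hom (K₁ := K) (K₂ := L) (K₃ := M)
    (c₁₂ := ComplexShape.up ℤ) (c₂₃ := ComplexShape.up ℤ) (c₄ := ComplexShape.up ℤ)
    (associator := curriedAssociatorNatIso (ModuleCat.{u} R)) p q r n hr
  rw [mapBifunctor₁₂.ι_eq _ _ _ _ _ _ _ p q r s n hpq h,
    mapBifunctor₂₃.ι_eq _ _ _ _ _ _ _ _ p q r t n hqr h'] at e
  exact congr($(e).hom ((x ⊗ₜ y) ⊗ₜ z))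

theorem associator_inv_ι (p q r s t n : ℤ) (hpq : p + q = s) (hqr : q + r = t) (h : s + r = n)
    (h' : p + t = n) (x : K.X p) (y : L.X q) (z : M.X r) :
    ((α_ K L M).inv.f n).hom ((ιT K (L ⊗ M) p t n h').hom (x ⊗ₜ (ιT L M q r t hqr).hom (y ⊗ₜ z))) =
      (ιT (K ⊗ L) M s r n h).hom ((ιT K L p q s hpq).hom (x ⊗ₜ y) ⊗ₜ z) := by
  rw [← associator_ι K L M p q r s t n hpq hqr h h' x y z, ← LinearMap.comp_apply,
    ← ModuleCat.hom_comp, ← HomologicalComplex.comp_f, Iso.hom_inv_id]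
  rfl

theorem induction {n : ℤ} {motive : (K ⊗ L).X n → Prop} (z : (K ⊗ L).X n) (h0 : motive 0)
    (hι : ∀ (p q : ℤ) (h : p + q = n) (x : K.X p) (y : L.X q),
      motive ((ιT K L p q n h).hom (x ⊗ₜ y)))
    (hadd : ∀ a b, motive a → motive b → motive (a + b)) : motive z := by
  let S : Submodule R ((K ⊗ L).X n) :=
    Submodule.span R (Set.range fun d : Σ p : ℤ, K.X p × L.X (n - p) =>
      (ιT K L d.1 (n - d.1) n (by omega)).hom (d.2.1 ⊗ₜ d.2.2))
  have hz : z ∈ S := by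
    suffices ModuleCat.ofHom S.mkQ = 0 from
      (Submodule.Quotient.mk_eq_zero S).1 (congr($(this).hom z))
    refine mapBifunctor.hom_ext fun p q (h : p + q = n) =>
      ModuleCat.MonoidalCategory.tensor_ext fun x y => ?_
    obtain rfl : q = n - p := by omega
    exact (Submodule.Quotient.mk_eq_zero S).2 (Submodule.subset_span ⟨⟨p, x, y⟩, rfl⟩)
  have : ∀ r : R, motive (r • z) := by
    induction hz using Submodule.span_induction with
    | mem w hw =>
      intro r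
      obtain ⟨⟨p, x, y⟩, rfl⟩ := hw
      have := hι p (n - p) (by omega) (r • x) y
      rw [← TensorProduct.smul_tmul', map_smul] at this
      exact this
    | zero => intro r; rwa [smul_zero]
    | add a b _ _ ha hb => intro r; rw [smul_add]; exact hadd _ _ (ha r) (hb r)
    | smul c a _ ha => intro r; rw [smul_smul]; exact ha _
  simpa using this 1

/-- Evaluation of `u • x` after composing with a finite rank witness. -/
theorem finite_projective_of_mem_range {P : Type u} [AddCommGroup P] [Module R P]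
    (h : LinearMap.id ∈ LinearMap.range (dualTensorHom R P P)) :
    Module.Finite R P ∧ Module.Projective R P := by
  obtain ⟨t, ht⟩ := h
  obtain ⟨k, φ, m, rfl⟩ := TensorProduct.exists_sum_tmul_eq t
  let p : P →ₗ[R] (Fin k → R) := LinearMap.pi φ
  let s : (Fin k → R) →ₗ[R] P := ∑ i, (LinearMap.proj i).smulRight (m i)
  have hsp : s ∘ₗ p = LinearMap.id := by
    ext x
    have := LinearMap.congr_fun ht x
    simpa [s, p] using this
  exact ⟨Module.Finite.of_surjective s fun x => ⟨p x, LinearMap.congr_fun hsp x⟩,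
    Module.Projective.of_split p s hsp⟩

/-- A dualizable complex is bounded with finite projective terms. -/
theorem right_dual {A B : CochainComplex (ModuleCat.{u} R) ℤ} [ExactPairing A B] :
    (∃ a b : ℤ, ∀ i, (i < a ∨ b < i) → IsZero (A.X i)) ∧
      ∀ i, Module.Finite R (A.X i) ∧ Module.Projective R (A.X i) := by
  have htri : (λ_ A).inv ≫ (η_ A B) ▷ A ≫ (α_ A B A).hom ≫ A ◁ (ε_ A B) ≫ (ρ_ A).hom = 𝟙 A := by
    rw [ExactPairing.evaluation_coevaluation_assoc, Iso.inv_hom_id_assoc, Iso.inv_hom_id]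
  let T : ∀ q : ℤ, ((A ⊗ B) ⊗ A).X q ⟶ A.X q := fun q =>
    ((α_ A B A).hom ≫ A ◁ (ε_ A B) ≫ (ρ_ A).hom).f q
  let Φ : ∀ q : ℤ, (A ⊗ B).X 0 →ₗ[R] (A.X q →ₗ[R] A.X q) := fun q =>
    LinearMap.mk₂ R (fun z x => (T q).hom ((ιT (A ⊗ B) A 0 q q (zero_add q)).hom (z ⊗ₜ x)))
      (fun z z' x => by rw [TensorProduct.add_tmul, map_add, map_add])
      (fun c z x => by rw [← TensorProduct.smul_tmul', map_smul, map_smul])
      (fun z x x' => by rw [TensorProduct.tmul_add, map_add, map_add])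
      (fun c z x => by rw [TensorProduct.tmul_smul, map_smul, map_smul])
  let η1 := ((η_ A B).f 0).hom one₀
  have hid : ∀ q, Φ q η1 = LinearMap.id := fun q => LinearMap.ext fun x => by
    have e : ((λ_ A).inv ≫ (η_ A B) ▷ A ≫ (α_ A B A).hom ≫ A ◁ (ε_ A B) ≫ (ρ_ A).hom).f q =
        (𝟙 A : A ⟶ A).f q := by rw [htri]
    have e' : (T q).hom (((η_ A B ⊗ₘ 𝟙 A).f q).hom (((λ_ A).inv.f q).hom x)) = x := congr($(e).hom x)
    rw [leftUnitor_inv, map_ι] at e'
    exact e'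
  suffices ∀ z : (A ⊗ B).X 0, ∃ F : Finset ℤ, ∀ q, Φ q z ∈ LinearMap.range (dualTensorHom R _ _) ∧
      (q ∉ F → Φ q z = 0) by
    obtain ⟨F, hF⟩ := this η1
    obtain ⟨a, ha⟩ := F.bddBelow
    obtain ⟨b, hb⟩ := F.bddAbove
    refine ⟨⟨a, b, fun i hi => ?_⟩, fun i => finite_projective_of_mem_range (hid i ▸ (hF i).1)⟩
    have hi' : i ∉ F := fun h => by
      have := ha h
      have := hb h
      omega
    have h0 := (hid i).symm.trans ((hF i).2 hi')
    haveI : Subsingleton (A.X i) :=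
      ⟨fun x y => (LinearMap.congr_fun h0 x).trans (LinearMap.congr_fun h0 y).symm⟩
    exact ModuleCat.isZero_of_subsingleton _
  intro z
  induction z using induction with
  | h0 => exact ⟨∅, fun q => ⟨by rw [map_zero]; exact zero_mem _, fun _ => map_zero _⟩⟩
  | hadd a b ha hb =>
    classical
    obtain ⟨F, hF⟩ := ha
    obtain ⟨G, hG⟩ := hb
    refine ⟨F ∪ G, fun q => ⟨by rw [map_add]; exact add_mem (hF q).1 (hG q).1, fun hq => ?_⟩⟩
    rw [Finset.mem_union, not_or] at hq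
    rw [map_add, (hF q).2 hq.1, (hG q).2 hq.2, add_zero]
  | hι p r h m n =>
    have hT : ∀ q (x : A.X q), Φ q ((ιT A B p r 0 h).hom (m ⊗ₜ n)) x =
        ((ρ_ A).hom.f q).hom ((ιT A (𝟙_ (CochainComplex (ModuleCat.{u} R) ℤ)) p (r + q) q (by omega)).hom
          (m ⊗ₜ ((ε_ A B).f (r + q)).hom ((ιT B A r q (r + q) rfl).hom (n ⊗ₜ x)))) := by
      intro q x
      show ((ρ_ A).hom.f q).hom (((𝟙 A ⊗ₘ ε_ A B).f q).hom (((α_ A B A).hom.f q).hom _)) = _
      rw [associator_ι A B A p r q 0 (r + q) q h rfl (zero_add q) (by omega), map_ι]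
      rfl
    refine ⟨{p}, fun q => ?_⟩
    by_cases hq : r + q = 0
    · obtain rfl : p = q := by omega
      refine ⟨⟨(unit₀ ∘ₗ ((ε_ A B).f 0).hom ∘ₗ (ιT B A r p 0 hq).hom ∘ₗ
        TensorProduct.mk R (B.X r) (A.X p) n) ⊗ₜ m, LinearMap.ext fun x => ?_⟩,
        fun h => absurd (Finset.mem_singleton_self _) h⟩
      rw [hT, dualTensorHom_apply]
      have key : ∀ (k : ℤ) (hk : k = 0) (hpk : p + k = p) (hrk : r + p = k),
          ((ρ_ A).hom.f p).hom ((ιT A (𝟙_ (CochainComplex (ModuleCat.{u} R) ℤ)) p k p hpk).hom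
            (m ⊗ₜ ((ε_ A B).f k).hom ((ιT B A r p k hrk).hom (n ⊗ₜ x)))) =
          unit₀ (((ε_ A B).f 0).hom ((ιT B A r p 0 hq).hom (n ⊗ₜ x))) • m := by
        intro k hk hpk hrk
        subst hk
        have hy : ∀ y, ((ρ_ A).hom.f p).hom
            ((ιT A (𝟙_ (CochainComplex (ModuleCat.{u} R) ℤ)) p 0 p hpk).hom (m ⊗ₜ y)) =
            unit₀ y • m := fun y => by
          conv_lhs => rw [eq_smul_one₀ y]
          rw [TensorProduct.tmul_smul, map_smul, map_smul, ← rightUnitor_inv, ← LinearMap.comp_apply,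
            ← ModuleCat.hom_comp, ← HomologicalComplex.comp_f, Iso.inv_hom_id]
          rfl
        exact hy _
      exact (key (r + p) hq (by omega) rfl).symm
    · have h0 : Φ q ((ιT A B p r 0 h).hom (m ⊗ₜ n)) = 0 := LinearMap.ext fun x => by
        haveI := ModuleCat.subsingleton_of_isZero (isZero_unit_X (R := R) (r + q) hq)
        rw [hT, Subsingleton.elim (((ε_ A B).f (r + q)).hom _) 0, TensorProduct.tmul_zero,
          map_zero, map_zero]
        rfl
      exact ⟨h0 ▸ zero_mem _, fun _ => h0⟩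

/-- A dualizable complex is bounded with finite projective terms. -/
theorem left_dual {A B : CochainComplex (ModuleCat.{u} R) ℤ} [ExactPairing A B] :
    (∃ a b : ℤ, ∀ i, (i < a ∨ b < i) → IsZero (B.X i)) ∧
      ∀ i, Module.Finite R (B.X i) ∧ Module.Projective R (B.X i) := by
  have htri : (ρ_ B).inv ≫ B ◁ (η_ A B) ≫ (α_ B A B).inv ≫ (ε_ A B) ▷ B ≫ (λ_ B).hom = 𝟙 B := by
    rw [ExactPairing.coevaluation_evaluation_assoc, Iso.inv_hom_id_assoc, Iso.inv_hom_id]
  let T : ∀ q : ℤ, (B ⊗ (A ⊗ B)).X q ⟶ B.X q := fun q =>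
    ((α_ B A B).inv ≫ (ε_ A B) ▷ B ≫ (λ_ B).hom).f q
  let Φ : ∀ q : ℤ, (A ⊗ B).X 0 →ₗ[R] (B.X q →ₗ[R] B.X q) := fun q =>
    LinearMap.mk₂ R (fun z x => (T q).hom ((ιT B (A ⊗ B) q 0 q (add_zero q)).hom (x ⊗ₜ z)))
      (fun z z' x => by rw [TensorProduct.tmul_add, map_add, map_add])
      (fun c z x => by rw [TensorProduct.tmul_smul, map_smul, map_smul])
      (fun z x x' => by rw [TensorProduct.add_tmul, map_add, map_add])
      (fun c z x => by rw [← TensorProduct.smul_tmul', map_smul, map_smul])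
  let η1 := ((η_ A B).f 0).hom one₀
  have hid : ∀ q, Φ q η1 = LinearMap.id := fun q => LinearMap.ext fun x => by
    have e : ((ρ_ B).inv ≫ B ◁ (η_ A B) ≫ (α_ B A B).inv ≫ (ε_ A B) ▷ B ≫ (λ_ B).hom).f q =
        (𝟙 B : B ⟶ B).f q := by rw [htri]
    have e' : (T q).hom (((𝟙 B ⊗ₘ η_ A B).f q).hom (((ρ_ B).inv.f q).hom x)) = x := congr($(e).hom x)
    rw [rightUnitor_inv, map_ι] at e'
    exact e'
  suffices ∀ z : (A ⊗ B).X 0, ∃ F : Finset ℤ, ∀ q, Φ q z ∈ LinearMap.range (dualTensorHom R _ _) ∧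
      (q ∉ F → Φ q z = 0) by
    obtain ⟨F, hF⟩ := this η1
    obtain ⟨a, ha⟩ := F.bddBelow
    obtain ⟨b, hb⟩ := F.bddAbove
    refine ⟨⟨a, b, fun i hi => ?_⟩, fun i => finite_projective_of_mem_range (hid i ▸ (hF i).1)⟩
    have hi' : i ∉ F := fun h => by
      have := ha h
      have := hb h
      omega
    have h0 := (hid i).symm.trans ((hF i).2 hi')
    haveI : Subsingleton (B.X i) :=
      ⟨fun x y => (LinearMap.congr_fun h0 x).trans (LinearMap.congr_fun h0 y).symm⟩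
    exact ModuleCat.isZero_of_subsingleton _
  intro z
  induction z using induction with
  | h0 => exact ⟨∅, fun q => ⟨by rw [map_zero]; exact zero_mem _, fun _ => map_zero _⟩⟩
  | hadd a b ha hb =>
    classical
    obtain ⟨F, hF⟩ := ha
    obtain ⟨G, hG⟩ := hb
    refine ⟨F ∪ G, fun q => ⟨by rw [map_add]; exact add_mem (hF q).1 (hG q).1, fun hq => ?_⟩⟩
    rw [Finset.mem_union, not_or] at hq
    rw [map_add, (hF q).2 hq.1, (hG q).2 hq.2, add_zero]
  | hι p r h m n =>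
    have hT : ∀ q (x : B.X q), Φ q ((ιT A B p r 0 h).hom (m ⊗ₜ n)) x =
        ((λ_ B).hom.f q).hom ((ιT (𝟙_ (CochainComplex (ModuleCat.{u} R) ℤ)) B (q + p) r q (by omega)).hom
          (((ε_ A B).f (q + p)).hom ((ιT B A q p (q + p) rfl).hom (x ⊗ₜ m)) ⊗ₜ n)) := by
      intro q x
      show ((λ_ B).hom.f q).hom (((ε_ A B ⊗ₘ 𝟙 B).f q).hom (((α_ B A B).inv.f q).hom _)) = _
      rw [associator_inv_ι B A B q p r (q + p) 0 q rfl h (by omega) (add_zero q), map_ι]
      rfl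
    refine ⟨{r}, fun q => ?_⟩
    by_cases hq : q + p = 0
    · obtain rfl : r = q := by omega
      refine ⟨⟨(unit₀ ∘ₗ ((ε_ A B).f 0).hom ∘ₗ (ιT B A r p 0 hq).hom ∘ₗ
        (TensorProduct.mk R (B.X r) (A.X p)).flip m) ⊗ₜ n, LinearMap.ext fun x => ?_⟩,
        fun h => absurd (Finset.mem_singleton_self _) h⟩
      rw [hT, dualTensorHom_apply]
      have key : ∀ (k : ℤ) (hk : k = 0) (hpk : k + r = r) (hrk : r + p = k),
          ((λ_ B).hom.f r).hom ((ιT (𝟙_ (CochainComplex (ModuleCat.{u} R) ℤ)) B k r r hpk).hom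
            (((ε_ A B).f k).hom ((ιT B A r p k hrk).hom (x ⊗ₜ m)) ⊗ₜ n)) =
          unit₀ (((ε_ A B).f 0).hom ((ιT B A r p 0 hq).hom (x ⊗ₜ m))) • n := by
        intro k hk hpk hrk
        subst hk
        have hy : ∀ y, ((λ_ B).hom.f r).hom
            ((ιT (𝟙_ (CochainComplex (ModuleCat.{u} R) ℤ)) B 0 r r hpk).hom (y ⊗ₜ n)) =
            unit₀ y • n := fun y => by
          conv_lhs => rw [eq_smul_one₀ y]
          rw [← TensorProduct.smul_tmul', map_smul, map_smul, ← leftUnitor_inv, ← LinearMap.comp_apply,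
            ← ModuleCat.hom_comp, ← HomologicalComplex.comp_f, Iso.inv_hom_id]
          rfl
        exact hy _
      exact (key (r + p) hq (by omega) rfl).symm
    · have h0 : Φ q ((ιT A B p r 0 h).hom (m ⊗ₜ n)) = 0 := LinearMap.ext fun x => by
        haveI := ModuleCat.subsingleton_of_isZero (isZero_unit_X (R := R) (q + p) hq)
        rw [hT, Subsingleton.elim (((ε_ A B).f (q + p)).hom _) 0, TensorProduct.zero_tmul,
          map_zero, map_zero]
        rfl
      exact ⟨h0 ▸ zero_mem _, fun _ => h0⟩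

end Groth.Agent.TwoTermLib.MonElt
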