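import Mathlib
import Groth.Agent.DRingLib.Basic

/-!
# Maps out of complexes in degrees `≤ 0` with projective top term
-/

set_option autoImplicit false
set_option linter.style.haveILetI false

universe u

open CategoryTheory CategoryTheory.Limits HomologicalComplex

attribute [local instance] HasDerivedCategory.standard

namespace Groth.Agent.TwoTermLib

variable {R : Type u} [CommRing R]

/-- A map from an acyclic complex in degrees `≤ 0` with projective term in degree `0` to a
complex in degrees `≥ -2` is null-homotopic. -/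
theorem nullHomotopic_of_acyclic {C L : CochainComplex (ModuleCat.{u} R) ℤ}
    (hCle : ∀ i, 0 < i → IsZero (C.X i)) (hC : ∀ i, C.ExactAt i)
    (hC0 : Module.Projective R (C.X 0)) (hL : ∀ i, i < -2 → IsZero (L.X i)) (f : C ⟶ L) :
    Nonempty (Homotopy f 0) := by
  have ex : ∀ i j k : ℤ, i + 1 = j → j + 1 = k → ∀ x : C.X j, C.d j k x = 0 →
      ∃ y : C.X i, C.d i j y = x := by
    intro i j k hij hjk
    have h : ∀ x : C.X j, (C.sc' i j k).g x = 0 → ∃ y, (C.sc' i j k).f y = x :=
      (ShortComplex.moduleCat_exact_iff _).1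
        ((exactAt_iff' C i j k (by simp; omega) (by simp; omega)).1 (hC j))
    exact h
  have comm : ∀ (i j : ℤ) (x : C.X i), L.d i j (f.f i x) = f.f j (C.d i j x) := fun i j x => by
    rw [← ModuleCat.comp_apply, f.comm i j, ModuleCat.comp_apply]
  have hsurj : Function.Surjective (C.d (-1) 0).hom := fun x =>
    ex (-1) 0 1 (by norm_num) (by norm_num) x
      (@Subsingleton.elim _ (ModuleCat.subsingleton_of_isZero (hCle 1 (by norm_num))) _ _)
  obtain ⟨σ, hσ⟩ := Module.projective_lifting_property (C.d (-1) 0).hom LinearMap.id hsurj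
  have hσ' : ∀ x : C.X 0, C.d (-1) 0 (σ x) = x := fun x => LinearMap.congr_fun hσ x
  let p : C.X (-2) →ₗ[R] LinearMap.ker (C.d (-1) 0).hom :=
    (C.d (-2) (-1)).hom.codRestrict _ fun x => by
      rw [LinearMap.mem_ker, ← ModuleCat.comp_apply, C.d_comp_d]
      rfl
  have hp : Function.Surjective p := fun x => by
    obtain ⟨y, hy⟩ := ex (-2) (-1) 0 (by norm_num) (by norm_num) x x.2
    exact ⟨y, Subtype.ext hy⟩
  have hker : LinearMap.ker p ≤ LinearMap.ker (f.f (-2)).hom := fun x hx => by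
    have hx' : C.d (-2) (-1) x = 0 := congrArg Subtype.val (LinearMap.mem_ker.1 hx)
    obtain ⟨y, rfl⟩ := ex (-3) (-2) (-1) (by norm_num) (by norm_num) x hx'
    rw [LinearMap.mem_ker, ← comm,
      @Subsingleton.elim _ (ModuleCat.subsingleton_of_isZero (hL (-3) (by norm_num)))
        (f.f (-3) y) 0, map_zero]
  let f' : LinearMap.ker (C.d (-1) 0).hom →ₗ[R] L.X (-2) :=
    (LinearMap.ker p).liftQ (f.f (-2)).hom hker ∘ₗ
      (p.quotKerEquivOfSurjective hp).symm.toLinearMap
  have hf' : ∀ x, f' (p x) = f.f (-2) x := fun x => by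
    have h : (p.quotKerEquivOfSurjective hp).symm (p x) = Submodule.Quotient.mk x :=
      (LinearEquiv.symm_apply_eq _).2 rfl
    simp [f', h]
  let q : C.X (-1) →ₗ[R] LinearMap.ker (C.d (-1) 0).hom :=
    (LinearMap.id - σ ∘ₗ (C.d (-1) 0).hom).codRestrict _ fun x => by
      simp [hσ']
  let h1 : C.X (-1) ⟶ L.X (-2) := ModuleCat.ofHom (f' ∘ₗ q)
  let g : C.X (-1) ⟶ L.X (-1) := f.f (-1) - h1 ≫ L.d (-2) (-1)
  let h0 : C.X 0 ⟶ L.X (-1) := ModuleCat.ofHom (g.hom ∘ₗ σ)
  have hh1 : C.d (-2) (-1) ≫ h1 = f.f (-2) := by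
    ext x
    have hq : q (C.d (-2) (-1) x) = p x := Subtype.ext (by
      simp [q, p, ← ModuleCat.comp_apply])
    simp [h1, hq, hf']
  have hg : ∀ x : C.X (-1), C.d (-1) 0 x = 0 → g x = 0 := fun x hx => by
    obtain ⟨y, rfl⟩ := ex (-2) (-1) 0 (by norm_num) (by norm_num) x hx
    have := comm (-2) (-1) y
    have h2 : h1 (C.d (-2) (-1) y) = f.f (-2) y := by
      rw [← ModuleCat.comp_apply, hh1]
    simp [g, h2, this]
  have hh0 : C.d (-1) 0 ≫ h0 + h1 ≫ L.d (-2) (-1) = f.f (-1) := by
    ext x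
    have := hg (x - σ (C.d (-1) 0 x)) (by simp [hσ'])
    rw [map_sub, sub_eq_zero] at this
    show g (σ (C.d (-1) 0 x)) + L.d (-2) (-1) (h1 x) = f.f (-1) x
    rw [← this]
    simp [g]
  have hh0' : h0 ≫ L.d (-1) 0 = f.f 0 := by
    ext x
    have h2 : L.d (-1) 0 (L.d (-2) (-1) (h1 (σ x))) = 0 := by
      rw [← ModuleCat.comp_apply (L.d (-2) (-1)), L.d_comp_d]
      rfl
    simp [h0, g, h2, comm, hσ']
  let h : ∀ i j : ℤ, (ComplexShape.up ℤ).Rel j i → (C.X i ⟶ L.X j) := fun i j _ =>
    if hi : i = 0 ∧ j = -1 then eqToHom (by rw [hi.1]) ≫ h0 ≫ eqToHom (by rw [hi.2])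
    else if hi' : i = -1 ∧ j = -2 then eqToHom (by rw [hi'.1]) ≫ h1 ≫ eqToHom (by rw [hi'.2])
    else 0
  refine ⟨(Homotopy.ofEq ?_).trans (Homotopy.nullHomotopy' h)⟩
  ext1 i
  by_cases hi : 0 < i
  · exact (hCle i hi).eq_of_src _ _
  by_cases hi' : i < -2
  · exact (hL i hi').eq_of_tgt _ _
  obtain rfl | rfl | rfl : i = -2 ∨ i = -1 ∨ i = 0 := by omega
  · rw [Homotopy.nullHomotopicMap'_f (show (ComplexShape.up ℤ).Rel (-3) (-2) by simp)
      (show (ComplexShape.up ℤ).Rel (-2) (-1) by simp)]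
    simp [h, hh1]
  · rw [Homotopy.nullHomotopicMap'_f (show (ComplexShape.up ℤ).Rel (-2) (-1) by simp)
      (show (ComplexShape.up ℤ).Rel (-1) 0 by simp)]
    simp [h, hh0]
  · rw [Homotopy.nullHomotopicMap'_f (show (ComplexShape.up ℤ).Rel (-1) 0 by simp)
      (show (ComplexShape.up ℤ).Rel 0 1 by simp)]
    simp [h, hh0']

open HomotopyCategory in
/-- For `M` in degrees `≤ 0` with projective degree `0` term and `K` in degrees `≥ -1`, homotopy
classes of maps `M → K` are the morphisms in the derived category. -/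
theorem Qh_map_bijective (M K : CochainComplex (ModuleCat.{u} R) ℤ)
    (hM : ∀ i, 0 < i → IsZero (M.X i)) (hM0 : Module.Projective R (M.X 0))
    (hK : ∀ i, i ≤ -2 → IsZero (K.X i)) :
    Function.Bijective fun φ : (quotient _ _).obj M ⟶ (quotient _ _).obj K =>
      DerivedCategory.Qh.map φ := by
  obtain ⟨P, s, hPb, hPf, hs⟩ := DRingLib.exists_free_resolution M 0 hM
  have := DRingLib.isKProjective_of_free P 0 hPb hPf
  let C := CochainComplex.mappingCone s
  have hC : ∀ i, C.ExactAt i := by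
    intro i
    rw [exactAt_iff_isZero_homology]
    have hT : (DerivedCategory.Q.mapTriangle.obj (CochainComplex.mappingCone.triangle s)) ∈
        distTriang (DerivedCategory (ModuleCat.{u} R)) :=
      DerivedCategory.mappingCone_triangle_distinguished s
    have : IsIso (DerivedCategory.Q.mapTriangle.obj
        (CochainComplex.mappingCone.triangle s)).mor₁ :=
      inferInstanceAs (IsIso (DerivedCategory.Q.map s))
    exact ((DerivedCategory.homologyFunctor _ i).map_isZero
      ((Pretriangulated.Triangle.isZero₃_iff_isIso₁ _ hT).2 this)).of_iso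
        ((DerivedCategory.homologyFunctorFactors (ModuleCat.{u} R) i).app C).symm
  let e : ∀ i, C.X i ≅ P.X (i + 1) ⊞ M.X i := fun i =>
    HomologicalComplex.homotopyCofiber.XIsoBiprod s i (i + 1) rfl
  have hCle : ∀ i, 0 < i → IsZero (C.X i) := fun i hi =>
    ((biprod_isZero_iff _ _).2 ⟨hPb (i + 1) (by omega), hM i hi⟩).of_iso (e i)
  have hC0 : Module.Projective R (C.X 0) := by
    haveI : Projective (P.X (0 + 1)) := by
      exact (IsProjective.iff_projective _).mp (@Module.Projective.of_free _ _ _ _ _ (hPf (0 + 1)))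
    haveI : Projective (M.X 0) := (IsProjective.iff_projective _).mp hM0
    exact (IsProjective.iff_projective _).mpr
      (Projective.of_iso (e 0).symm inferInstance)
  have vanish : ∀ (L : CochainComplex (ModuleCat.{u} R) ℤ), (∀ i, i < -2 → IsZero (L.X i)) →
      ∀ φ : (quotient _ _).obj C ⟶ (quotient _ _).obj L, φ = 0 := by
    intro L hL φ
    obtain ⟨f, rfl⟩ := (quotient _ _).map_surjective φ
    obtain ⟨H⟩ := nullHomotopic_of_acyclic hCle hC hC0 hL f
    rw [eq_of_homotopy _ _ H, Functor.map_zero]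
  let T := CochainComplex.mappingCone.triangleh s
  have hT : T ∈ distTriang (HomotopyCategory (ModuleCat.{u} R) (ComplexShape.up ℤ)) :=
    HomotopyCategory.mappingCone_triangleh_distinguished s
  have key : Function.Bijective fun φ : (quotient _ _).obj M ⟶ (quotient _ _).obj K =>
      (quotient _ _).map s ≫ φ := by
    constructor
    · intro φ φ' hφ
      have h0 : T.mor₁ ≫ (φ - φ') = 0 :=
        (Preadditive.comp_sub _ _ _).trans (sub_eq_zero.2 hφ)
      obtain ⟨g, hg⟩ := Pretriangulated.Triangle.yoneda_exact₂ T hT (φ - φ') h0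
      rw [← sub_eq_zero, hg, vanish K (fun i hi => hK i (by omega)) g]
      exact comp_zero
    · intro g
      have hK1 : ∀ i : ℤ, i < -2 → IsZero ((K⟦(1 : ℤ)⟧).X i) := fun i hi =>
        hK (i + 1) (by omega)
      let eK : ((quotient _ _).obj K)⟦(1 : ℤ)⟧ ≅ (quotient _ _).obj (K⟦(1 : ℤ)⟧) :=
        (((quotient (ModuleCat.{u} R) (ComplexShape.up ℤ)).commShiftIso (1 : ℤ)).app K).symm
      have h3 : T.mor₃ ≫ g⟦(1 : ℤ)⟧' = 0 := by
        rw [← cancel_mono eK.hom, zero_comp]
        exact vanish _ hK1 _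
      obtain ⟨k, hk⟩ := Pretriangulated.Triangle.yoneda_exact₃ T.rotate
        (Pretriangulated.rot_of_distTriang _ hT) (g⟦(1 : ℤ)⟧') h3
      obtain ⟨k', rfl⟩ := (shiftFunctor
        (HomotopyCategory (ModuleCat.{u} R) (ComplexShape.up ℤ)) (1 : ℤ)).map_surjective k
      have aux : ∀ {A B D : HomotopyCategory (ModuleCat.{u} R) (ComplexShape.up ℤ)}
          (u : A ⟶ B) (w : B ⟶ D),
          (shiftFunctor _ (1 : ℤ)).map (u ≫ (-w)) =
            (-(shiftFunctor _ (1 : ℤ)).map u) ≫ (shiftFunctor _ (1 : ℤ)).map w := by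
        intros
        simp
      exact ⟨-k', (shiftFunctor (HomotopyCategory (ModuleCat.{u} R) (ComplexShape.up ℤ))
        (1 : ℤ)).map_injective ((aux _ _).trans hk.symm)⟩
  have hbij := CochainComplex.IsKProjective.Qh_map_bijective P ((quotient _ _).obj K)
  have hiso : IsIso (DerivedCategory.Qh.map ((quotient _ _).map s)) :=
    inferInstanceAs (IsIso (DerivedCategory.Q.map s))
  constructor
  · intro φ φ' hφ
    apply key.1
    apply hbij.1
    show DerivedCategory.Qh.map (_ ≫ φ) = DerivedCategory.Qh.map (_ ≫ φ')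
    rw [Functor.map_comp, Functor.map_comp]
    exact whisker_eq _ hφ
  · intro ξ
    obtain ⟨g, hg⟩ := hbij.2 (DerivedCategory.Qh.map ((quotient _ _).map s) ≫ ξ)
    obtain ⟨φ, rfl⟩ := key.2 g
    exact ⟨φ, (cancel_epi (DerivedCategory.Qh.map ((quotient _ _).map s))).1
      ((DerivedCategory.Qh.map_comp _ _).symm.trans hg)⟩

end Groth.Agent.TwoTermLib
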