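import Mathlib
import Groth.Agent.DRingLib.Basic
import Groth.Agent.PQLib.Derived

/-!
# Two-term representatives and their cohomology
-/

set_option autoImplicit false
set_option linter.style.haveILetI false

universe u

open CategoryTheory CategoryTheory.Limits HomologicalComplex

attribute [local instance] HasDerivedCategory.standard

namespace Groth.Agent.TwoTermLib

variable {R : Type u} [CommRing R]

section Elements

variable (E : CochainComplex (ModuleCat.{u} R) ℤ) (i : ℤ)

theorem exists_cycle (x : E.X i) (hx : E.d i (i + 1) x = 0) :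
    ∃ z : E.cycles i, E.iCycles i z = x := by
  let l : ModuleCat.of R R ⟶ E.X i := ModuleCat.ofHom (LinearMap.toSpanSingleton R _ x)
  have hl : l ≫ E.d i (i + 1) = 0 := by
    apply ModuleCat.hom_ext
    ext
    simp [l, hx]
  refine ⟨E.liftCycles l (i + 1) (by simp) hl (1 : R), ?_⟩
  rw [← ModuleCat.comp_apply, liftCycles_i]
  simp [l]

theorem iCycles_injective : Function.Injective (E.iCycles i) :=
  (ModuleCat.mono_iff_injective _).1 inferInstance

theorem pOpcycles_surjective : Function.Surjective (E.pOpcycles i) :=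
  (ModuleCat.epi_iff_surjective _).1 inferInstance

theorem d_iCycles_apply (z : E.cycles i) (j : ℤ) : E.d i j (E.iCycles i z) = 0 := by
  rw [← ModuleCat.comp_apply, iCycles_d]
  rfl

theorem exists_of_pOpcycles_eq_zero (x : E.X i) (hx : E.pOpcycles i x = 0) :
    ∃ y, E.d (i - 1) i y = x := by
  let q : E.X i ⟶ ModuleCat.of R (E.X i ⧸ LinearMap.range (E.d (i - 1) i).hom) :=
    ModuleCat.ofHom (Submodule.mkQ _)
  have hq : E.d (i - 1) i ≫ q = 0 := by
    apply ModuleCat.hom_ext
    ext y
    simp only [q, ModuleCat.hom_comp, ModuleCat.hom_ofHom, ModuleCat.hom_zero,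
      LinearMap.coe_comp, Function.comp_apply, LinearMap.zero_apply, Submodule.mkQ_apply,
      Submodule.Quotient.mk_eq_zero]
    exact ⟨y, rfl⟩
  have h := congrArg (E.descOpcycles q (i - 1) (by simp) hq) hx
  rw [← ModuleCat.comp_apply, p_descOpcycles, map_zero] at h
  exact (Submodule.Quotient.mk_eq_zero _).1 h

end Elements

section TwoTerm

variable {E E' : CochainComplex (ModuleCat.{u} R) ℤ}

/-- Vanishing outside degrees `-1` and `0`. -/
abbrev TT (E : CochainComplex (ModuleCat.{u} R) ℤ) : Prop := DRing.VanishesOutside E (-1) 0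

theorem TT.zero_of_ne (hE : TT E) {i : ℤ} (h1 : i ≠ -1) (h0 : i ≠ 0) : IsZero (E.X i) :=
  hE i (by omega)

/-- Cycles are cohomology in degree `-1`. -/
noncomputable def lowIso (hE : TT E) : E.cycles (-1) ≅ E.homology (-1) :=
  have : IsIso (E.homologyπ (-1)) := E.isIso_homologyπ (-2) (-1) (by simp)
    ((hE.zero_of_ne (by norm_num) (by norm_num)).eq_of_src _ _)
  asIso (E.homologyπ (-1))

/-- Opcycles are cohomology in degree `0`. -/
noncomputable def highIso (hE : TT E) : E.homology 0 ≅ E.opcycles 0 :=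
  have : IsIso (E.homologyι 0) := E.isIso_homologyι 0 1 (by simp)
    ((hE.zero_of_ne (by norm_num) (by norm_num)).eq_of_tgt _ _)
  asIso (E.homologyι 0)

/-- The embedding of `H^{-1}` into the degree `-1` term. -/
noncomputable def low (hE : TT E) : E.homology (-1) ⟶ E.X (-1) :=
  (lowIso hE).inv ≫ E.iCycles (-1)

/-- The projection of the degree `0` term onto `H^0`. -/
noncomputable def high (hE : TT E) : E.X 0 ⟶ E.homology 0 :=
  E.pOpcycles 0 ≫ (highIso hE).inv

theorem low_injective (hE : TT E) : Function.Injective (low hE) := by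
  intro a b h
  rw [low, ModuleCat.comp_apply, ModuleCat.comp_apply] at h
  exact (lowIso hE).symm.toLinearEquiv.injective (iCycles_injective E _ h)

theorem d_low_apply (hE : TT E) (x : E.homology (-1)) : E.d (-1) 0 (low hE x) = 0 :=
  d_iCycles_apply E _ _ _

theorem exists_low_eq (hE : TT E) (x : E.X (-1)) (hx : E.d (-1) 0 x = 0) :
    ∃ z, low hE z = x := by
  obtain ⟨z, rfl⟩ := exists_cycle E (-1) x hx
  refine ⟨(lowIso hE).hom z, ?_⟩
  rw [low, ← ModuleCat.comp_apply, Iso.hom_inv_id_assoc]

theorem high_surjective (hE : TT E) : Function.Surjective (high hE) := by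
  intro y
  obtain ⟨x, hx⟩ := pOpcycles_surjective E 0 ((highIso hE).hom y)
  refine ⟨x, ?_⟩
  rw [high, ModuleCat.comp_apply, hx, ← ModuleCat.comp_apply, Iso.hom_inv_id]
  rfl

theorem high_d (hE : TT E) : E.d (-1) 0 ≫ high hE = 0 := by
  rw [high, d_pOpcycles_assoc, zero_comp]

theorem exists_of_high_eq_zero (hE : TT E) (x : E.X 0) (hx : high hE x = 0) :
    ∃ y, E.d (-1) 0 y = x := by
  have h := congrArg (highIso hE).hom hx
  rw [map_zero, ← ModuleCat.comp_apply, high, Category.assoc, Iso.inv_hom_id,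
    Category.comp_id] at h
  exact exists_of_pOpcycles_eq_zero E 0 x h

theorem low_natural (g : E' ⟶ E) (hE' : TT E') (hE : TT E) :
    homologyMap g (-1) ≫ low hE = low hE' ≫ g.f (-1) := by
  rw [← cancel_epi (lowIso hE').hom]
  simp only [low, lowIso, asIso_hom, asIso_inv, IsIso.hom_inv_id_assoc, Category.assoc,
    homologyπ_naturality_assoc, cyclesMap_i]

theorem high_natural (g : E' ⟶ E) (hE' : TT E') (hE : TT E) :
    high hE' ≫ homologyMap g 0 = g.f 0 ≫ high hE := by
  rw [← cancel_mono (highIso hE).hom]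
  simp only [high, highIso, asIso_hom, asIso_inv, IsIso.inv_hom_id, Category.assoc,
    homologyι_naturality, IsIso.inv_hom_id_assoc, p_opcyclesMap, Category.comp_id]

/-- Quasi-isomorphism criterion for two-term complexes. -/
theorem quasiIso_of_twoTerm (g : E' ⟶ E) (hE' : TT E') (hE : TT E)
    (inj1 : ∀ x, E'.d (-1) 0 x = 0 → g.f (-1) x = 0 → x = 0)
    (surj1 : ∀ y, E.d (-1) 0 y = 0 → ∃ x, E'.d (-1) 0 x = 0 ∧ g.f (-1) x = y)
    (inj0 : ∀ (y : E'.X 0) (x : E.X (-1)), g.f 0 y = E.d (-1) 0 x → ∃ w, E'.d (-1) 0 w = y)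
    (surj0 : ∀ z : E.X 0, ∃ y x, g.f 0 y + E.d (-1) 0 x = z) : QuasiIso g := by
  refine ⟨fun i => ?_⟩
  rw [quasiIsoAt_iff_isIso_homologyMap]
  by_cases h1 : i = -1
  · subst h1
    rw [ConcreteCategory.isIso_iff_bijective]
    have nat : ∀ x, low hE (homologyMap g (-1) x) = g.f (-1) (low hE' x) := fun x => by
      rw [← ModuleCat.comp_apply, low_natural g hE' hE, ModuleCat.comp_apply]
    refine ⟨(injective_iff_map_eq_zero _).2 fun x hx => ?_, fun y => ?_⟩
    · apply low_injective hE'
      rw [map_zero]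
      refine inj1 _ (d_low_apply hE' x) ?_
      rw [← nat, hx, map_zero]
    · obtain ⟨x, hx, hxy⟩ := surj1 _ (d_low_apply hE y)
      obtain ⟨z, rfl⟩ := exists_low_eq hE' x hx
      exact ⟨z, low_injective hE ((nat z).trans hxy)⟩
  by_cases h0 : i = 0
  · subst h0
    rw [ConcreteCategory.isIso_iff_bijective]
    have nat : ∀ x, homologyMap g 0 (high hE' x) = high hE (g.f 0 x) := fun x => by
      rw [← ModuleCat.comp_apply, high_natural g hE' hE, ModuleCat.comp_apply]
    have hd : ∀ x, high hE (E.d (-1) 0 x) = 0 := fun x => by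
      rw [← ModuleCat.comp_apply, high_d]
      rfl
    refine ⟨(injective_iff_map_eq_zero _).2 fun x hx => ?_, fun y => ?_⟩
    · obtain ⟨y, rfl⟩ := high_surjective hE' x
      obtain ⟨x, hx'⟩ := exists_of_high_eq_zero hE (g.f 0 y) ((nat y).symm.trans hx)
      obtain ⟨w, rfl⟩ := inj0 y x hx'.symm
      rw [← ModuleCat.comp_apply, high_d]
      rfl
    · obtain ⟨z, rfl⟩ := high_surjective hE y
      obtain ⟨y, x, rfl⟩ := surj0 z
      exact ⟨high hE' y, by rw [nat, map_add, hd, add_zero]⟩
  · have hz : ∀ {F : CochainComplex (ModuleCat.{u} R) ℤ}, TT F → IsZero (F.homology i) :=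
      fun hF => (exactAt_iff_isZero_homology _ i).1
        (ShortComplex.exact_of_isZero_X₂ _ (hF.zero_of_ne h1 h0))
    exact (hz hE').isIso (hz hE) _

end TwoTerm

/-- An object with cohomology in degrees `-1, 0` has a two-term representative with free term in
degree `0`. -/
theorem exists_rep (K : Dual.D R)
    (hK : ∀ i : ℤ, i ≠ -1 → i ≠ 0 → Subsingleton (Dual.HD R K i)) :
    ∃ E : CochainComplex (ModuleCat.{u} R) ℤ, TT E ∧ Module.Free R (E.X 0) ∧
      Nonempty (DerivedCategory.Q.obj E ≅ K) := by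
  obtain ⟨P, hPb, hPf, ⟨e⟩⟩ := DRingLib.exists_free_rep K 0 fun i hi =>
    @ModuleCat.isZero_of_subsingleton _ _ _ (hK i (by omega) (by omega))
  have : P.IsGE (-1) := by
    rw [CochainComplex.isGE_iff]
    intro i hi
    rw [exactAt_iff_isZero_homology]
    exact (@ModuleCat.isZero_of_subsingleton _ _ _ (hK i (by omega) (by omega))).of_iso
      (PQLib.homologyIso e i).symm
  have : QuasiIso (P.πTruncGE (-1)) := (CochainComplex.quasiIso_πTruncGE_iff P (-1)).mpr this
  refine ⟨P.truncGE (-1), ?_, ?_,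
    ⟨(asIso (DerivedCategory.Q.map (P.πTruncGE (-1)))).symm ≪≫ e⟩⟩
  · rintro i (hi | hi)
    · exact CochainComplex.isZero_of_isStrictlyGE (P.truncGE (-1)) (-1) i hi
    · exact (hPb i hi).of_iso (P.truncGEXIso (-1) i (by omega))
  · have := hPf 0
    exact Module.Free.of_equiv (P.truncGEXIso (-1) 0 (by norm_num)).symm.toLinearEquiv

end Groth.Agent.TwoTermLib
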