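import Mathlib
import Groth.Agent.PQLib.Derived

/-!
# Orthogonality and the decomposition of objects with two cohomology objects
-/

set_option autoImplicit false
set_option linter.style.haveILetI false

universe w v u

open CategoryTheory CategoryTheory.Limits CategoryTheory.Pretriangulated

namespace Groth.Agent.TwoTermLib

variable {C : Type u} [Category.{v} C] [Abelian C] [HasDerivedCategory.{w} C]

/-- Maps from `≤ n` to `≥ n'` with `n < n'` vanish. -/
theorem eq_zero_of_lt {X Y : DerivedCategory C} (f : X ⟶ Y) (n n' : ℤ) (h : n < n')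
    (hX : X.IsLE n) (hY : Y.IsGE n') : f = 0 :=
  DerivedCategory.TStructure.t.zero f n n' h

/-- Canonical decomposition of an object in degrees `≤ n` at the degree `n`. -/
theorem exists_top (X : DerivedCategory C) (n : ℤ) (hX : X.IsLE n) :
    ∃ (A : DerivedCategory C) (Q : C) (ι : A ⟶ X)
      (π : X ⟶ (DerivedCategory.singleFunctor C n).obj Q)
      (δ : (DerivedCategory.singleFunctor C n).obj Q ⟶ A⟦(1 : ℤ)⟧),
      A.IsLE (n - 1) ∧ Triangle.mk ι π δ ∈ distTriang (DerivedCategory C) ∧
        IsIso ((DerivedCategory.homologyFunctor C n).map π) := by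
  obtain ⟨A, B, hA, hB, f, g, h, hT⟩ :=
    DerivedCategory.TStructure.t.exists_triangle X (n - 1) n (by omega)
  have hA' : A.IsLE (n - 1) := ⟨hA⟩
  have hB' : B.IsGE n := ⟨hB⟩
  have hA0 := fun i (hi : n - 1 < i) => DerivedCategory.isZero_of_isLE A (n - 1) i hi
  have hBle : B.IsLE n := (DerivedCategory.isLE_iff B n).2 fun i hi =>
    (DerivedCategory.HomologySequence.exact₃ _ hT i (i + 1) rfl).isZero_X₂
      ((DerivedCategory.isZero_of_isLE X n i hi).eq_of_src _ _)
      ((hA0 (i + 1) (by omega)).eq_of_tgt _ _)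
  obtain ⟨Q, ⟨e⟩⟩ := DerivedCategory.exists_iso_singleFunctor_obj_of_isGE_of_isLE B n
  have hiso : IsIso ((DerivedCategory.homologyFunctor C n).map g) := by
    haveI : Mono ((DerivedCategory.homologyFunctor C n).map g) :=
      (DerivedCategory.HomologySequence.mono_homologyMap_mor₂_iff _ hT n).2
        ((hA0 n (by omega)).eq_of_src _ _)
    haveI : Epi ((DerivedCategory.homologyFunctor C n).map g) :=
      (DerivedCategory.HomologySequence.epi_homologyMap_mor₂_iff _ hT n (n + 1) rfl).2
        ((hA0 (n + 1) (by omega)).eq_of_tgt _ _)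
    exact isIso_of_mono_of_epi _
  refine ⟨A, Q, f, g ≫ e.hom, e.inv ≫ h, hA', ?_, ?_⟩
  · exact isomorphic_distinguished _ hT _
      (Triangle.isoMk _ _ (Iso.refl _) (Iso.refl _) e.symm
        ((Category.comp_id _).trans (Category.id_comp _).symm)
        (show (g ≫ e.hom) ≫ e.inv = 𝟙 X ≫ g by simp)
        (show (e.inv ≫ h) ≫ (𝟙 A)⟦(1 : ℤ)⟧' = e.inv ≫ h by simp))
  · rw [Functor.map_comp]
    infer_instance

/-- A map from `≤ n` to `≥ n` is zero once it is zero on `H^n`. -/
theorem eq_zero_of_homology {X Y : DerivedCategory C} (f : X ⟶ Y) (n : ℤ)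
    (hX : X.IsLE n) (hY : Y.IsGE n)
    (hf : (DerivedCategory.homologyFunctor C n).map f = 0) : f = 0 := by
  obtain ⟨A, Q, ι, π, δ, hA, hT, hπ⟩ := exists_top X n hX
  obtain ⟨f', hf'⟩ : ∃ f' : (DerivedCategory.singleFunctor C n).obj Q ⟶ Y, f = π ≫ f' :=
    Triangle.yoneda_exact₂ _ hT f (eq_zero_of_lt (ι ≫ f) (n - 1) n (by omega) hA hY)
  subst hf'
  rw [Functor.map_comp] at hf
  replace hf := (cancel_epi ((DerivedCategory.homologyFunctor C n).map π)).1
    (hf.trans comp_zero.symm)
  -- lift `f'` to the bottom cohomology of `Y`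
  obtain ⟨A', B', hA', hB', a, b, c, hT'⟩ :=
    DerivedCategory.TStructure.t.exists_triangle Y n (n + 1) rfl
  have hA'' : A'.IsLE n := ⟨hA'⟩
  have hB'' : B'.IsGE (n + 1) := ⟨hB'⟩
  have hA'ge : A'.IsGE n := (DerivedCategory.isGE_iff A' n).2 fun i hi =>
    (DerivedCategory.HomologySequence.exact₁ _ hT' (i - 1) i (by omega)).isZero_X₂
      ((DerivedCategory.isZero_of_isGE B' (n + 1) (i - 1) (by omega)).eq_of_src _ _)
      ((DerivedCategory.isZero_of_isGE Y n i hi).eq_of_tgt _ _)
  obtain ⟨S, ⟨e⟩⟩ := DerivedCategory.exists_iso_singleFunctor_obj_of_isGE_of_isLE A' n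
  obtain ⟨g, hg⟩ : ∃ g : (DerivedCategory.singleFunctor C n).obj Q ⟶ A', f' = g ≫ a :=
    Triangle.coyoneda_exact₂ _ hT' f'
      (eq_zero_of_lt (f' ≫ b) n (n + 1) (by omega) inferInstance hB'')
  subst hg
  obtain ⟨g₀, hg₀⟩ := (DerivedCategory.singleFunctor C n).map_surjective (g ≫ e.hom)
  haveI : Mono ((DerivedCategory.homologyFunctor C n).map a) :=
    (DerivedCategory.HomologySequence.mono_homologyMap_mor₁_iff _ hT' (n - 1) n (by omega)).2
      ((DerivedCategory.isZero_of_isGE B' (n + 1) (n - 1) (by omega)).eq_of_src _ _)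
  rw [Functor.map_comp] at hf
  replace hf := (cancel_mono ((DerivedCategory.homologyFunctor C n).map a)).1
    (hf.trans zero_comp.symm)
  have hg₀' : (DerivedCategory.homologyFunctor C n).map
      ((DerivedCategory.singleFunctor C n).map g₀) = 0 := by
    rw [hg₀, Functor.map_comp, hf, zero_comp]
  have : g₀ = 0 := by
    have h1 := (DerivedCategory.singleFunctorCompHomologyFunctorIso C n).hom.naturality g₀
    simp only [Functor.comp_map, hg₀', zero_comp] at h1
    exact (cancel_epi ((DerivedCategory.singleFunctorCompHomologyFunctorIso C n).hom.app Q)).1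
      ((h1.symm).trans comp_zero.symm)
  rw [this, Functor.map_zero] at hg₀
  have hg0 : g = 0 := (cancel_mono e.hom).1 (hg₀.symm.trans zero_comp.symm)
  rw [hg0, zero_comp, comp_zero]

/-- The vertex of a map inducing an isomorphism above `m` and an epimorphism at `m`. -/
theorem comp_injective {K K' Y : DerivedCategory C} (α : K ⟶ K') (m : ℤ)
    (hi : ∀ i, m < i → IsIso ((DerivedCategory.homologyFunctor C i).map α))
    (hm : Epi ((DerivedCategory.homologyFunctor C m).map α)) (hY : Y.IsGE m)
    (f : K' ⟶ Y) (hf : α ≫ f = 0) : f = 0 := by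
  obtain ⟨Z, g, h, hT⟩ := distinguished_cocone_triangle α
  have hZ : Z.IsLE (m - 1) := (DerivedCategory.isLE_iff Z (m - 1)).2 fun i hi' => by
    have h1 : Epi ((DerivedCategory.homologyFunctor C i).map α) := by
      rcases (show m ≤ i by omega).eq_or_lt with rfl | h'
      · exact hm
      · have := hi i h'
        infer_instance
    have h2 : Mono ((DerivedCategory.homologyFunctor C (i + 1)).map α) := by
      have := hi (i + 1) (by omega)
      infer_instance
    exact (DerivedCategory.HomologySequence.exact₃ _ hT i (i + 1) rfl).isZero_X₂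
      ((DerivedCategory.HomologySequence.epi_homologyMap_mor₁_iff _ hT i).1 h1)
      ((DerivedCategory.HomologySequence.mono_homologyMap_mor₁_iff _ hT i (i + 1) rfl).1 h2)
  obtain ⟨f', hf'⟩ : ∃ f' : Z ⟶ Y, f = g ≫ f' := Triangle.yoneda_exact₂ _ hT f hf
  rw [hf', eq_zero_of_lt f' (m - 1) m (by omega) hZ hY, comp_zero]

end Groth.Agent.TwoTermLib
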