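import Groth.Agent.TwoTermLib.Htpy
import Groth.Agent.TwoTermLib.Rep
import Groth.Agent.TwoTermLib.Tri

/-!
# `Ext¹` out of complexes in degrees `≤ 0` with projective top term
-/

set_option autoImplicit false
set_option linter.style.haveILetI false

universe u

open CategoryTheory CategoryTheory.Limits HomologicalComplex

attribute [local instance] HasDerivedCategory.standard

namespace Groth.Agent.TwoTermLib

variable {R : Type u} [CommRing R]

/-- The complex with `N` in degree `-1`. -/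
noncomputable abbrev S (N : ModuleCat.{u} R) : CochainComplex (ModuleCat.{u} R) ℤ :=
  (HomologicalComplex.single (ModuleCat.{u} R) (ComplexShape.up ℤ) (-1)).obj N

/-- `N[1]` is represented by `N` in degree `-1`. -/
noncomputable def eN (N : ModuleCat.{u} R) :
    ((DerivedCategory.singleFunctor (ModuleCat.{u} R) 0).obj N)⟦(1 : ℤ)⟧ ≅
      DerivedCategory.Q.obj (S N) :=
  ((DerivedCategory.singleFunctors (ModuleCat.{u} R)).shiftIso (1 : ℤ) (-1) 0 (by norm_num)).app N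

instance isGE_shift (N : ModuleCat.{u} R) :
    DerivedCategory.IsGE
      (((DerivedCategory.singleFunctor (ModuleCat.{u} R) 0).obj N)⟦(1 : ℤ)⟧) (-1) :=
  have : DerivedCategory.IsGE (DerivedCategory.Q.obj (S N)) (-1) :=
    inferInstanceAs (((DerivedCategory.singleFunctor (ModuleCat.{u} R) (-1)).obj N).IsGE (-1))
  DerivedCategory.TStructure.t.isGE_of_iso (eN N).symm (-1)

variable {E E' : CochainComplex (ModuleCat.{u} R) ℤ} {N : ModuleCat.{u} R}

/-- The map to `N` in degree `-1` given by a cocycle. -/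
noncomputable def toS (φ : E.X (-1) ⟶ N) (hφ : E.d (-2) (-1) ≫ φ = 0) : E ⟶ S N :=
  mkHomToSingle φ fun i hi => by
    obtain rfl : i = -2 := by simp at hi; omega
    exact hφ

theorem toS_f (φ : E.X (-1) ⟶ N) (hφ : E.d (-2) (-1) ≫ φ = 0) :
    (toS φ hφ).f (-1) = φ ≫ (singleObjXSelf (ComplexShape.up ℤ) (-1) N).inv :=
  mkHomToSingle_f _ _

theorem exists_eq_toS (f : E ⟶ S N) : ∃ φ hφ, f = toS φ hφ := by
  refine ⟨f.f (-1) ≫ (singleObjXSelf (ComplexShape.up ℤ) (-1) N).hom, ?_, ?_⟩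
  · rw [← f.comm_assoc (-2) (-1), single_obj_d, zero_comp, comp_zero]
  · apply to_single_hom_ext
    rw [toS_f, Category.assoc, Iso.hom_inv_id, Category.comp_id]

theorem comp_toS (g : E' ⟶ E) (φ : E.X (-1) ⟶ N) (hφ : E.d (-2) (-1) ≫ φ = 0) :
    g ≫ toS φ hφ = toS (g.f (-1) ≫ φ)
      (by rw [← g.comm_assoc, hφ, comp_zero]) := by
  apply to_single_hom_ext
  rw [comp_f, toS_f, toS_f, Category.assoc]

theorem smul_toS (a : R) (φ : E.X (-1) ⟶ N) (hφ : E.d (-2) (-1) ≫ φ = 0) :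
    a • toS φ hφ = toS (a • φ) (by rw [Linear.comp_smul, hφ, smul_zero]) := by
  apply to_single_hom_ext
  rw [smul_f_apply, toS_f, toS_f, Linear.smul_comp]

theorem homotopic_toS_iff (hE : ∀ i, 0 < i → IsZero (E.X i)) (φ : E.X (-1) ⟶ N)
    (hφ : E.d (-2) (-1) ≫ φ = 0) :
    Nonempty (Homotopy (toS φ hφ) 0) ↔ ∃ h : E.X 0 ⟶ N, φ = E.d (-1) 0 ≫ h := by
  constructor
  · rintro ⟨H⟩
    refine ⟨H.hom 0 (-1) ≫ (singleObjXSelf (ComplexShape.up ℤ) (-1) N).hom, ?_⟩
    have h := H.comm (-1)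
    rw [dNext_eq H.hom (show (ComplexShape.up ℤ).Rel (-1) 0 by simp),
      prevD_eq H.hom (show (ComplexShape.up ℤ).Rel (-2) (-1) by simp),
      single_obj_d, comp_zero, add_zero, zero_f, add_zero, toS_f] at h
    rw [← Category.assoc, ← h, Category.assoc, Iso.inv_hom_id, Category.comp_id]
  · rintro ⟨h, rfl⟩
    let hh : ∀ i j : ℤ, (ComplexShape.up ℤ).Rel j i → (E.X i ⟶ (S N).X j) := fun i j _ =>
      if hi : i = 0 ∧ j = -1 then eqToHom (by rw [hi.1]) ≫ h ≫
        (singleObjXSelf (ComplexShape.up ℤ) (-1) N).inv ≫ eqToHom (by rw [hi.2])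
      else 0
    refine ⟨(Homotopy.ofEq ?_).trans (Homotopy.nullHomotopy' hh)⟩
    apply to_single_hom_ext
    rw [Homotopy.nullHomotopicMap'_f (show (ComplexShape.up ℤ).Rel (-2) (-1) by simp)
      (show (ComplexShape.up ℤ).Rel (-1) 0 by simp), toS_f]
    simp [hh, single_obj_d]

section Main

variable (hE : ∀ i, 0 < i → IsZero (E.X i)) (hE0 : Module.Projective R (E.X 0))
include hE hE0

theorem Q_map_bijective (K : CochainComplex (ModuleCat.{u} R) ℤ)
    (hK : ∀ i, i ≤ -2 → IsZero (K.X i)) :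
    (∀ ξ : DerivedCategory.Q.obj E ⟶ DerivedCategory.Q.obj K,
        ∃ f : E ⟶ K, DerivedCategory.Q.map f = ξ) ∧
      ∀ f : E ⟶ K, DerivedCategory.Q.map f = 0 ↔ Nonempty (Homotopy f 0) := by
  have hb := Qh_map_bijective E K hE hE0 hK
  refine ⟨fun ξ => ?_, fun f => ⟨fun h => ?_, fun ⟨H⟩ => ?_⟩⟩
  · obtain ⟨g, hg⟩ := hb.2 ξ
    obtain ⟨f, rfl⟩ := (HomotopyCategory.quotient _ _).map_surjective g
    exact ⟨f, hg⟩
  · have h' : (HomotopyCategory.quotient (ModuleCat.{u} R) (ComplexShape.up ℤ)).map f = 0 := by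
      apply hb.1
      show DerivedCategory.Qh.map _ = DerivedCategory.Qh.map _
      rw [Functor.map_zero]
      exact h
    exact ⟨HomotopyCategory.homotopyOfEq _ _ (h'.trans (Functor.map_zero _ _ _).symm)⟩
  · show DerivedCategory.Qh.map
      ((HomotopyCategory.quotient (ModuleCat.{u} R) (ComplexShape.up ℤ)).map f) = _
    rw [HomotopyCategory.eq_of_homotopy _ _ H, Functor.map_zero, Functor.map_zero]
    rfl

omit hE hE0 in
theorem isZero_S_X (N : ModuleCat.{u} R) (i : ℤ) (hi : i ≠ -1) : IsZero ((S N).X i) :=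
  isZero_single_obj_X _ _ _ _ hi

theorem exists_toS (ξ : DerivedCategory.Q.obj E ⟶
      ((DerivedCategory.singleFunctor (ModuleCat.{u} R) 0).obj N)⟦(1 : ℤ)⟧) :
    ∃ φ hφ, ξ = DerivedCategory.Q.map (toS (E := E) (N := N) φ hφ) ≫ (eN N).inv := by
  obtain ⟨f, hf⟩ := (Q_map_bijective hE hE0 (S N) fun i hi =>
    isZero_S_X N i (by omega)).1 (ξ ≫ (eN N).hom)
  obtain ⟨φ, hφ, rfl⟩ := exists_eq_toS f
  exact ⟨φ, hφ, by rw [hf, Category.assoc, Iso.hom_inv_id, Category.comp_id]⟩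

theorem toS_comp_eq_zero_iff (φ : E.X (-1) ⟶ N) (hφ : E.d (-2) (-1) ≫ φ = 0) :
    DerivedCategory.Q.map (toS φ hφ) ≫ (eN N).inv = 0 ↔
      ∃ h : E.X 0 ⟶ N, φ = E.d (-1) 0 ≫ h := by
  rw [← homotopic_toS_iff hE φ hφ, ← (Q_map_bijective hE hE0 (S N) fun i hi =>
    isZero_S_X N i (by omega)).2]
  constructor
  · intro h
    exact (cancel_mono (eN N).inv).1 (h.trans zero_comp.symm)
  · intro h
    rw [h, zero_comp]

end Main

theorem TT.d_eq_zero (hE : TT E) (φ : E.X (-1) ⟶ N) : E.d (-2) (-1) ≫ φ = 0 :=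
  (hE.zero_of_ne (by norm_num) (by norm_num)).eq_of_src _ _

theorem TT.isZero_pos (hE : TT E) (i : ℤ) (hi : 0 < i) : IsZero (E.X i) := hE i (Or.inr hi)

/-- `a` kills `Ext¹(E, N)` for all `N` iff `a` factors through the differential. -/
theorem smul_ext_eq_zero_iff (hE : TT E) (hE0 : Module.Projective R (E.X 0)) (a : R) :
    (∀ (N : ModuleCat.{u} R) (ξ : DerivedCategory.Q.obj E ⟶
      ((DerivedCategory.singleFunctor (ModuleCat.{u} R) 0).obj N)⟦(1 : ℤ)⟧), a • ξ = 0) ↔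
      ∃ h : E.X 0 ⟶ E.X (-1), E.d (-1) 0 ≫ h = a • 𝟙 (E.X (-1)) := by
  constructor
  · intro H
    have h := H (E.X (-1))
      (DerivedCategory.Q.map (toS (𝟙 _) (hE.d_eq_zero _)) ≫ (eN _).inv)
    rw [← Linear.smul_comp, ← Functor.map_smul, smul_toS] at h
    obtain ⟨h', hh'⟩ := (toS_comp_eq_zero_iff hE.isZero_pos hE0 _ _).1 h
    exact ⟨h', hh'.symm⟩
  · rintro ⟨h, hh⟩ N ξ
    obtain ⟨φ, hφ, rfl⟩ := exists_toS hE.isZero_pos hE0 ξ
    rw [← Linear.smul_comp, ← Functor.map_smul, smul_toS]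
    refine (toS_comp_eq_zero_iff hE.isZero_pos hE0 _ _).2 ⟨h ≫ φ, ?_⟩
    rw [← Category.assoc, hh, Linear.smul_comp, Category.id_comp]

end Groth.Agent.TwoTermLib
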